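import Cfsg.Agent.Lib.ThreeTransp.M22.Lines

/-!
In a group of type M(22) every involution is a product of at most three commuting members, and the
number of factors is determined by the involution.
-/

set_option autoImplicit false
set_option linter.unusedSectionVars false

namespace Cfsg.Agent.ThreeTransp.M22

open Matrix Cfsg.Agent.Classical.Unitary
open Cfsg.Agent.Forms
open Cfsg.Agent.GroupStructure3.ThreeTransUnitary
open Cfsg.Agent.ThreeTransp
open Cfsg.Agent.ThreeTransp.Factor (nb Hd mem_Hd)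

section standard

variable {F : Type*} [Field F] [Fintype F] (hF : Fintype.card F = 2 ^ 2)
include hF

local notation "SU6" => Cfsg.SU 6 F 2

theorem perm_eq_tr (i j : Fin 6) (hij : i ≠ j) {v : Fin 6 → F}
    (hv : v = Pi.single i 1 + Pi.single j 1) (hvv : Cfsg.hermForm 6 F 2 v v = 0) :
    UnitaryClass.perm hF (Equiv.swap i j) = tr hF hvv := by
  refine SU_ext fun x => ?_
  rw [tr_mulVec, show mat (UnitaryClass.perm hF (Equiv.swap i j)) *ᵥ x =
    x ∘ ⇑((Equiv.swap i j)⁻¹ : Equiv.Perm (Fin 6)) from Matrix.permMatrix_mulVec _, hv,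
    H_add_right hF, H_single_right hF, H_single_right hF]
  funext k
  simp only [Equiv.swap_inv, Function.comp_apply, Pi.add_apply, Pi.smul_apply, smul_eq_mul,
    Pi.single_apply]
  rcases eq_or_ne k i with rfl | hki
  · simp [hij]
    linear_combination (-(x k)) * two_zero hF
  rcases eq_or_ne k j with rfl | hkj
  · simp [hki]
    linear_combination (-(x k)) * two_zero hF
  · simp [hki, hkj, Equiv.swap_apply_of_ne_of_ne]

/-- The three classes of involutions. -/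
theorem three_kinds {s : SU6} (hs : orderOf s = 2) :
    ∃ (g : SU6) (l : List SU6),
      (l = [tr hF (Hyperoval.pl_H hF 1 0 0 1 0 0)] ∨
        l = [tr hF (Hyperoval.pl_H hF 1 0 0 1 0 0), tr hF (Hyperoval.pl_H hF 0 1 0 0 1 0)] ∨
        l = [tr hF (Hyperoval.pl_H hF 1 0 0 1 0 0), tr hF (Hyperoval.pl_H hF 0 1 0 0 1 0),
          tr hF (Hyperoval.pl_H hF 0 0 1 0 0 1)]) ∧ s = g * l.prod * g⁻¹ := by
  haveI := UnitaryClass.char_two hF
  obtain ⟨r, hr⟩ : ∃ r,
      r = (((s : Matrix.SpecialLinearGroup (Fin 6) F) : Matrix (Fin 6) (Fin 6) F) - 1).rank :=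
    ⟨_, rfl⟩
  have hr0 : r ≠ 0 := by
    intro h0
    rw [h0, eq_comm, Matrix.rank, Submodule.finrank_eq_zero, LinearMap.range_eq_bot] at hr
    have h1 : s = 1 := SU_ext fun x => by
      have h2 : (mat s - 1) *ᵥ x = 0 := by
        rw [← Matrix.mulVecLin_apply, hr, LinearMap.zero_apply]
      rw [mat_one, one_mulVec]
      rwa [sub_mulVec, one_mulVec, sub_eq_zero] at h2
    rw [h1, orderOf_one] at hs
    exact absurd hs (by norm_num)
  have hle : 2 * r ≤ 6 := by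
    have hdd : mat s * mat s = 1 := by
      rw [← mat_mul, Basic.mul_self_of_orderOf_two hs, mat_one]
    have hN : (mat s - 1) * (mat s - 1) = 0 := by
      rw [sub_mul, mul_sub, one_mul, mul_one, hdd]
      ext i j
      simp only [Matrix.sub_apply, Matrix.zero_apply]
      linear_combination ((1 : Matrix (Fin 6) (Fin 6) F) i j - mat s i j) * two_zero hF
    have := Matrix.rank_add_rank_le_card_of_mul_eq_zero hN
    rw [Fintype.card_fin] at this
    change r = (mat s - 1).rank at hr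
    omega
  have ho : ∀ {ρ : Equiv.Perm (Fin 6)}, ρ ^ 2 = 1 → ρ ≠ 1 →
      orderOf (UnitaryClass.perm hF ρ) = 2 := by
    intro ρ h2 hne
    rw [orderOf_injective _ (UnitaryClass.perm_injective hF), orderOf_eq_prime h2 hne]
  have conjOf : ∀ (σ : Equiv.Perm (Fin 6)), σ ^ 2 = 1 → σ ≠ 1 →
      ((((UnitaryClass.perm hF σ : SU6) : Matrix.SpecialLinearGroup (Fin 6) F) :
        Matrix (Fin 6) (Fin 6) F) - 1).rank = r →
      ∃ g : SU6, s = g * UnitaryClass.perm hF σ * g⁻¹ := by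
    intro σ h2 hne hrk
    obtain ⟨g, hg⟩ := isConj_iff.1
      ((S2164.result hF (by norm_num) _ s (ho h2 hne) hs).2.2 (hrk.trans hr))
    exact ⟨g, hg.symm⟩
  have e0 := perm_eq_tr hF 0 1 (by decide) (v := Hyperoval.pl (1 : F) 0 0)
    (by funext i; fin_cases i <;> simp [Hyperoval.pl, Pi.single_apply])
    (Hyperoval.pl_H hF 1 0 0 1 0 0)
  have e1 := perm_eq_tr hF 2 3 (by decide) (v := Hyperoval.pl (0 : F) 1 0)
    (by funext i; fin_cases i <;> simp [Hyperoval.pl, Pi.single_apply])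
    (Hyperoval.pl_H hF 0 1 0 0 1 0)
  have e2 := perm_eq_tr hF 4 5 (by decide) (v := Hyperoval.pl (0 : F) 0 1)
    (by funext i; fin_cases i <;> simp [Hyperoval.pl, Pi.single_apply])
    (Hyperoval.pl_H hF 0 0 1 0 0 1)
  obtain rfl | rfl | rfl : r = 1 ∨ r = 2 ∨ r = 3 := by omega
  · obtain ⟨g, hg⟩ := conjOf (Equiv.swap 0 1) (by decide) (by decide)
      (UnitaryClass.rank_perm hF _ !![1; 1; 0; 0; 0; 0] !![1, 0, 0, 0, 0, 0] (by decide) (by decide))
    exact ⟨g, _, Or.inl rfl, by rw [hg, e0, List.prod_singleton]⟩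
  · obtain ⟨g, hg⟩ := conjOf (Equiv.swap 0 1 * Equiv.swap 2 3) (by decide) (by decide)
      (UnitaryClass.rank_perm hF _ !![1, 0; 1, 0; 0, 1; 0, 1; 0, 0; 0, 0]
        !![1, 0, 0, 0, 0, 0; 0, 0, 1, 0, 0, 0] (by decide) (by decide))
    exact ⟨g, _, Or.inr (Or.inl rfl), by
      rw [hg, map_mul, e0, e1]; simp⟩
  · obtain ⟨g, hg⟩ := conjOf (Equiv.swap 0 1 * Equiv.swap 2 3 * Equiv.swap 4 5) (by decide)
      (by decide) (UnitaryClass.rank_perm hF _
        !![1, 0, 0; 1, 0, 0; 0, 1, 0; 0, 1, 0; 0, 0, 1; 0, 0, 1]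
        !![1, 0, 0, 0, 0, 0; 0, 0, 1, 0, 0, 0; 0, 0, 0, 0, 1, 0] (by decide) (by decide))
    exact ⟨g, _, Or.inr (Or.inr rfl), by
      rw [hg, map_mul, map_mul, e0, e1, e2]; simp [mul_assoc]⟩

end standard

variable {G : Type*} [Group G] [Finite G] {D : Set G} (hD : Cfsg.IsThreeTranspositionGroup D)
  (hprim : Cfsg.IsPrimitiveUnderConj D) (h22 : Cfsg.IsOfTypeM22 G D)

/-- `x` is a product of `m` pairwise commuting different members. -/
def IsProd (D : Set G) (m : ℕ) (x : G) : Prop :=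
  ∃ l : List G, l.Nodup ∧ l.length = m ∧ (∀ a ∈ l, a ∈ D) ∧ (∀ a ∈ l, ∀ b ∈ l, Commute a b) ∧
    l.prod = x

include hD hprim h22

omit hprim h22 in
theorem IsProd.conj {m : ℕ} {x : G} (g : G) (h : IsProd D m x) : IsProd D m (g * x * g⁻¹) := by
  obtain ⟨l, hn, hl, hm, hc, rfl⟩ := h
  refine ⟨l.map (MulAut.conj g), hn.map (MulAut.conj g).injective, by simp [hl], ?_, ?_, ?_⟩
  · intro a ha
    obtain ⟨b, hb, rfl⟩ := List.mem_map.1 ha
    exact hD.2.1 g b (hm b hb)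
  · intro a ha b hb
    obtain ⟨p, hp, rfl⟩ := List.mem_map.1 ha
    obtain ⟨q, hq, rfl⟩ := List.mem_map.1 hb
    exact (hc p hp q hq).map (MulAut.conj g).toMonoidHom
  · rw [← map_list_prod]; rfl

omit hprim h22 in
theorem IsProd.sq {m : ℕ} {x : G} (h : IsProd D m x) : x * x = 1 := by
  obtain ⟨l, -, -, hm, hc, rfl⟩ := h
  clear m
  induction l with
  | nil => simp
  | cons a t ih =>
    have hat : Commute a t.prod :=
      Commute.list_prod_right t a fun b hb => hc a (by simp) b (by simp [hb])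
    rw [List.prod_cons, ← pow_two, hat.mul_pow, pow_two, pow_two, Classes.sq hD (hm a (by simp)),
      one_mul, ih (fun b hb => hm b (by simp [hb])) fun p hp q hq =>
        hc p (by simp [hp]) q (by simp [hq])]

theorem mk_nb {a b : G} (hb : b ∈ D) (hne : a ≠ b) (hc : Commute a b) : b ∈ nb D a :=
  ⟨hb, hne.symm, hc⟩

theorem card_centralizer_prod {m : ℕ} {x : G} (h : IsProd D m x) :
    (m = 1 → Nat.card ↥(Subgroup.centralizer ({x} : Set G)) = 18393661440) ∧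
    (m = 2 → Nat.card ↥(Subgroup.centralizer ({x} : Set G)) = 53084160) ∧
    (m = 3 → Nat.card ↥(Subgroup.centralizer ({x} : Set G)) = 1769472) := by
  obtain ⟨l, hn, hl, hm, hc, rfl⟩ := h
  refine ⟨fun e => ?_, fun e => ?_, fun e => ?_⟩ <;> rw [e] at hl
  · obtain ⟨a, rfl⟩ := List.length_eq_one_iff.1 hl
    rw [List.prod_singleton]
    exact card_centralizer hD hprim h22 (hm a (by simp))
  · obtain ⟨a, b, rfl⟩ := List.length_eq_two.1 hl
    rw [show [a, b].prod = a * b by simp]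
    exact card_centralizer_pair hD hprim h22 (hm a (by simp)) (mk_nb hD hprim h22
      (hm b (by simp)) (by simpa using hn) (hc a (by simp) b (by simp)))
  · obtain ⟨a, b, c, rfl⟩ := List.length_eq_three.1 hl
    simp only [List.nodup_cons, List.mem_cons, List.not_mem_nil, or_false, not_or,
      List.nodup_nil, and_true, not_false_eq_true] at hn
    rw [show [a, b, c].prod = a * b * c by simp [mul_assoc]]
    exact card_centralizer_triple hD hprim h22 (hm a (by simp))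
      (mk_nb hD hprim h22 (hm b (by simp)) hn.1.1 (hc a (by simp) b (by simp)))
      ⟨mk_nb hD hprim h22 (hm c (by simp)) hn.1.2 (hc a (by simp) c (by simp)),
        mk_nb hD hprim h22 (hm c (by simp)) hn.2 (hc b (by simp) c (by simp))⟩

theorem prod_number {m m' : ℕ} {x : G} (h1 : 1 ≤ m) (h3 : m ≤ 3) (h1' : 1 ≤ m') (h3' : m' ≤ 3)
    (h : IsProd D m x) (h' : IsProd D m' x) : m = m' := by
  obtain ⟨p1, p2, p3⟩ := card_centralizer_prod hD hprim h22 h
  obtain ⟨q1, q2, q3⟩ := card_centralizer_prod hD hprim h22 h'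
  interval_cases m <;> interval_cases m' <;> simp_all

theorem orderOf_prod {m : ℕ} {x : G} (h1 : 1 ≤ m) (h3 : m ≤ 3) (h : IsProd D m x) :
    orderOf x = 2 := by
  refine orderOf_eq_prime (by rw [pow_two]; exact h.sq hD) fun e => ?_
  have hc : Nat.card ↥(Subgroup.centralizer ({x} : Set G)) = Nat.card G := by
    rw [e, show Subgroup.centralizer ({1} : Set G) = ⊤ from
      eq_top_iff.2 fun g _ => Subgroup.mem_centralizer_iff.2 fun y hy => by
        rw [Set.mem_singleton_iff.1 hy, one_mul, mul_one], Subgroup.card_top]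
  rw [card_group hD hprim h22] at hc
  obtain ⟨p1, p2, p3⟩ := card_centralizer_prod hD hprim h22 h
  interval_cases m <;> simp_all

theorem prod_conj {m : ℕ} {x y : G} (h1 : 1 ≤ m) (h3 : m ≤ 3) (hx : IsProd D m x)
    (hy : IsProd D m y) : IsConj x y := by
  obtain ⟨l, hn, hl, hm, hc, rfl⟩ := hx
  obtain ⟨l', hn', hl', hm', hc', rfl⟩ := hy
  rw [isConj_iff]
  interval_cases m
  · obtain ⟨a, rfl⟩ := List.length_eq_one_iff.1 hl
    obtain ⟨b, rfl⟩ := List.length_eq_one_iff.1 hl'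
    obtain ⟨g, hg⟩ := hprim.1 a (hm a (by simp)) b (hm' b (by simp))
    exact ⟨g, by simpa using hg⟩
  · obtain ⟨a, b, rfl⟩ := List.length_eq_two.1 hl
    obtain ⟨x, y, rfl⟩ := List.length_eq_two.1 hl'
    obtain ⟨g, h1, h2⟩ := pair_trans hD hprim h22 (hm a (by simp))
      (mk_nb hD hprim h22 (hm b (by simp)) (by simpa using hn) (hc a (by simp) b (by simp)))
      (hm' x (by simp))
      (mk_nb hD hprim h22 (hm' y (by simp)) (by simpa using hn') (hc' x (by simp) y (by simp)))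
    refine ⟨g, ?_⟩
    simp only [List.prod_cons, List.prod_nil, mul_one]
    rw [← h1, ← h2]; group
  · obtain ⟨a, b, c, rfl⟩ := List.length_eq_three.1 hl
    obtain ⟨x, y, z, rfl⟩ := List.length_eq_three.1 hl'
    simp only [List.nodup_cons, List.mem_cons, List.not_mem_nil, or_false, not_or,
      List.nodup_nil, and_true, not_false_eq_true] at hn hn'
    obtain ⟨g, e1, e2, e3⟩ := triple_trans hD hprim h22 (hm a (by simp))
      (mk_nb hD hprim h22 (hm b (by simp)) hn.1.1 (hc a (by simp) b (by simp)))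
      (c := c) ⟨mk_nb hD hprim h22 (hm c (by simp)) hn.1.2 (hc a (by simp) c (by simp)),
        mk_nb hD hprim h22 (hm c (by simp)) hn.2 (hc b (by simp) c (by simp))⟩
      (hm' x (by simp))
      (mk_nb hD hprim h22 (hm' y (by simp)) hn'.1.1 (hc' x (by simp) y (by simp)))
      (z := z) ⟨mk_nb hD hprim h22 (hm' z (by simp)) hn'.1.2 (hc' x (by simp) z (by simp)),
        mk_nb hD hprim h22 (hm' z (by simp)) hn'.2 (hc' y (by simp) z (by simp))⟩
    refine ⟨g, ?_⟩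
    simp only [List.prod_cons, List.prod_nil, mul_one]
    rw [← e1, ← e2, ← e3]; group

/-- Every involution is a product of at most three commuting members. -/
theorem exists_prod {t : G} (ht : orderOf t = 2) : ∃ m, 1 ≤ m ∧ m ≤ 3 ∧ IsProd D m t := by
  have ht2 := Basic.mul_self_of_orderOf_two ht
  obtain ⟨a, ha, hta⟩ := exists_fixed hD hprim h22 ht2
  obtain ⟨C⟩ := exists_chart hD h22 ha
  have htH : t ∈ Hd D a := by
    rw [← centralizer_eq hD hprim h22 ha]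
    exact (mem_centralizer_iff_commute hD hprim h22).2 hta
  have hker : ∀ z : ↥(Hd D a), C.ρ z = 1 → (z : G) = 1 ∨ (z : G) = a := by
    intro z hz
    have hz' := C.ker ▸ (MonoidHom.mem_ker.2 hz)
    rw [center_eq hD hprim h22 ha, Subgroup.mem_subgroupOf] at hz'
    obtain ⟨j, hj⟩ := Subgroup.mem_zpowers_iff.1 hz'
    rw [← hj]
    rcases Int.even_or_odd j with ⟨r, rfl⟩ | ⟨r, rfl⟩
    · left; rw [← two_mul, _root_.zpow_mul, _root_.zpow_two, Classes.sq hD ha, _root_.one_zpow]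
    · right
      rw [_root_.zpow_add, _root_.zpow_one, _root_.zpow_mul, _root_.zpow_two, Classes.sq hD ha,
        _root_.one_zpow, one_mul]
  have ha1 : IsProd D 1 a := ⟨[a], by simp, rfl, by simp [ha], by simp, by simp⟩
  by_cases hρ : C.ρ ⟨t, htH⟩ = 1
  · rcases hker _ hρ with h | h
    · exfalso
      rw [show t = 1 from h, orderOf_one] at ht
      exact absurd ht (by norm_num)
    · exact ⟨1, le_rfl, by norm_num, (show t = a from h) ▸ ha1⟩
  obtain ⟨g, hg⟩ := QuotientGroup.mk'_surjective _ (C.ρ ⟨t, htH⟩)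
  have hρ2 : C.ρ ⟨t, htH⟩ * C.ρ ⟨t, htH⟩ = 1 := by
    rw [← map_mul, show (⟨t, htH⟩ : ↥(Hd D a)) * ⟨t, htH⟩ = 1 from Subtype.ext ht2, map_one]
  have hg2 : g * g ∈ Subgroup.center (Cfsg.SU 6 C.F 2) := by
    rw [← QuotientGroup.eq_one_iff]
    show QuotientGroup.mk' _ (g * g) = 1
    rw [map_mul, hg, hρ2]
  have hqs : QuotientGroup.mk' (Subgroup.center (Cfsg.SU 6 C.F 2)) (g ^ 3) = C.ρ ⟨t, htH⟩ := by
    rw [map_pow, hg, pow_succ, pow_two, hρ2, one_mul]
  have hs2 : g ^ 3 * g ^ 3 = 1 := by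
    rw [← pow_add, show 3 + 3 = 2 * 3 by rfl, pow_mul, pow_two,
      Factor.UnitarySix.center_cube C.hF hg2]
  have hord : orderOf (g ^ 3) = 2 := by
    refine orderOf_eq_prime (by rw [pow_two, hs2]) fun e => hρ ?_
    rw [← hqs, e, map_one]
  obtain ⟨k, l, hl, hkl⟩ := three_kinds C.hF hord
  obtain ⟨k', hk'⟩ := C.surj (QuotientGroup.mk' _ k)
  have hA0 : ∀ s u r : C.F, (s ≠ 0 ∨ u ≠ 0 ∨ r ≠ 0) → Hyperoval.pl s u r ≠ 0 := by
    intro s u r h e
    have e1 : s = 0 := congrFun e 0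
    have e2 : u = 0 := congrFun e 2
    have e3 : r = 0 := congrFun e 4
    simp [e1, e2, e3] at h
  have hmem : ∀ s u r : C.F, (s ≠ 0 ∨ u ≠ 0 ∨ r ≠ 0) → C.f (Hyperoval.pl s u r) ∈ nb D a :=
    fun s u r h => C.mem _ (hA0 s u r h) (Hyperoval.pl_H C.hF _ _ _ _ _ _)
  have hne : ∀ s u r s' u' r' : C.F, (s ≠ 0 ∨ u ≠ 0 ∨ r ≠ 0) → (s' ≠ 0 ∨ u' ≠ 0 ∨ r' ≠ 0) →
      (s = 0 ∧ s' ≠ 0 ∨ u = 0 ∧ u' ≠ 0 ∨ r = 0 ∧ r' ≠ 0) →
      C.f (Hyperoval.pl s u r) ≠ C.f (Hyperoval.pl s' u' r') := by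
    intro s u r s' u' r' h h' hz e
    obtain ⟨c, hc⟩ := (C.eq_iff _ _ (hA0 s u r h) (Hyperoval.pl_H C.hF _ _ _ _ _ _) (hA0 s' u' r' h')
      (Hyperoval.pl_H C.hF _ _ _ _ _ _)).1 e
    have e1 : s' = c * s := congrFun hc 0
    have e2 : u' = c * u := congrFun hc 2
    have e3 : r' = c * r := congrFun hc 4
    rcases hz with ⟨z, z'⟩ | ⟨z, z'⟩ | ⟨z, z'⟩
    · exact z' (by rw [e1, z, mul_zero])
    · exact z' (by rw [e2, z, mul_zero])
    · exact z' (by rw [e3, z, mul_zero])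
  have hcomm : ∀ s u r s' u' r' : C.F, (s ≠ 0 ∨ u ≠ 0 ∨ r ≠ 0) → (s' ≠ 0 ∨ u' ≠ 0 ∨ r' ≠ 0) →
      Commute (C.f (Hyperoval.pl s u r)) (C.f (Hyperoval.pl s' u' r')) := fun s u r s' u' r' h h' =>
    (C.comm_iff _ _ (hA0 s u r h) (Hyperoval.pl_H C.hF _ _ _ _ _ _) (hA0 s' u' r' h')
      (Hyperoval.pl_H C.hF _ _ _ _ _ _)).2 (Hyperoval.pl_H C.hF _ _ _ _ _ _)
  obtain ⟨A, hA⟩ : ∃ A, A = C.f (Hyperoval.pl 1 0 0) := ⟨_, rfl⟩
  obtain ⟨B, hB⟩ : ∃ B, B = C.f (Hyperoval.pl 0 1 0) := ⟨_, rfl⟩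
  obtain ⟨E, hE⟩ : ∃ E, E = C.f (Hyperoval.pl 0 0 1) := ⟨_, rfl⟩
  have mA : A ∈ nb D a := hA ▸ hmem _ _ _ (by simp)
  have mB : B ∈ nb D a := hB ▸ hmem _ _ _ (by simp)
  have mE : E ∈ nb D a := hE ▸ hmem _ _ _ (by simp)
  have nAB : A ≠ B := hA ▸ hB ▸ hne _ _ _ _ _ _ (by simp) (by simp) (by simp)
  have nAE : A ≠ E := hA ▸ hE ▸ hne _ _ _ _ _ _ (by simp) (by simp) (by simp)
  have nBE : B ≠ E := hB ▸ hE ▸ hne _ _ _ _ _ _ (by simp) (by simp) (by simp)
  have cAB : Commute A B := hA ▸ hB ▸ hcomm _ _ _ _ _ _ (by simp) (by simp)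
  have cAE : Commute A E := hA ▸ hE ▸ hcomm _ _ _ _ _ _ (by simp) (by simp)
  have cBE : Commute B E := hB ▸ hE ▸ hcomm _ _ _ _ _ _ (by simp) (by simp)
  -- lifts of the three kinds and their products with `a`
  obtain ⟨P, hPH, hPρ, m, hm1, hm3, hP, m', hm1', hm3', hP'⟩ :
      ∃ (P : G) (hPH : P ∈ Hd D a), C.ρ ⟨P, hPH⟩ = QuotientGroup.mk' _ l.prod ∧
        ∃ m, 1 ≤ m ∧ m ≤ 3 ∧ IsProd D m P ∧ ∃ m', 1 ≤ m' ∧ m' ≤ 3 ∧ IsProd D m' (a * P) := by
    have hAe : C.ρ ⟨A, mem_Hd mA⟩ =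
        QuotientGroup.mk' _ (tr C.hF (Hyperoval.pl_H C.hF 1 0 0 1 0 0)) := by
      subst hA; exact C.img _ (hA0 _ _ _ (by simp)) _
    have hBe : C.ρ ⟨B, mem_Hd mB⟩ =
        QuotientGroup.mk' _ (tr C.hF (Hyperoval.pl_H C.hF 0 1 0 0 1 0)) := by
      subst hB; exact C.img _ (hA0 _ _ _ (by simp)) _
    have hEe : C.ρ ⟨E, mem_Hd mE⟩ =
        QuotientGroup.mk' _ (tr C.hF (Hyperoval.pl_H C.hF 0 0 1 0 0 1)) := by
      subst hE; exact C.img _ (hA0 _ _ _ (by simp)) _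
    rcases hl with rfl | rfl | rfl
    · refine ⟨A, mem_Hd mA, by rw [hAe, List.prod_singleton], 1, le_rfl, by norm_num,
        ⟨[A], by simp, rfl, by simp [mA.1], by simp, by simp⟩, 2, by norm_num, by norm_num,
        ⟨[a, A], by simp [mA.2.1.symm], rfl, by simp [ha, mA.1],
          by simp [mA.2.2, mA.2.2.symm], by simp⟩⟩
    · refine ⟨A * B, mul_mem (mem_Hd mA) (mem_Hd mB), ?_, 2, by norm_num, by norm_num,
        ⟨[A, B], by simp [nAB], rfl, by simp [mA.1, mB.1], by simp [cAB, cAB.symm], by simp⟩,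
        3, by norm_num, le_rfl,
        ⟨[a, A, B], by simp [mA.2.1.symm, mB.2.1.symm, nAB], rfl, by simp [ha, mA.1, mB.1],
          by simp [mA.2.2, mA.2.2.symm, mB.2.2, mB.2.2.symm, cAB, cAB.symm],
          by simp⟩⟩
      rw [show (⟨A * B, mul_mem (mem_Hd mA) (mem_Hd mB)⟩ : ↥(Hd D a)) =
        ⟨A, mem_Hd mA⟩ * ⟨B, mem_Hd mB⟩ from rfl, map_mul, hAe, hBe, ← map_mul]
      simp
    · obtain ⟨e₁, e₂, e₃, hn, hmm, hcc, hprod⟩ := exists_seven hD hprim h22 ha C
      rw [← hA, ← hB, ← hE] at hprod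
      refine ⟨A * B * E, mul_mem (mul_mem (mem_Hd mA) (mem_Hd mB)) (mem_Hd mE), ?_, 3,
        by norm_num, le_rfl,
        ⟨[A, B, E], by simp [nAB, nAE, nBE], rfl, by simp [mA.1, mB.1, mE.1],
          by simp [cAB, cAB.symm, cAE, cAE.symm, cBE, cBE.symm], by simp [mul_assoc]⟩,
        3, by norm_num, le_rfl,
        ⟨[e₁, e₂, e₃], hn, rfl, fun x hx => (hmm x hx).1, hcc, ?_⟩⟩
      · rw [show (⟨A * B * E, mul_mem (mul_mem (mem_Hd mA) (mem_Hd mB)) (mem_Hd mE)⟩ : ↥(Hd D a)) =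
          ⟨A, mem_Hd mA⟩ * ⟨B, mem_Hd mB⟩ * ⟨E, mem_Hd mE⟩ from rfl, map_mul, map_mul, hAe, hBe,
          hEe, ← map_mul, ← map_mul]
        simp [mul_assoc]
      · have hsq : (A * B * E) * (A * B * E) = 1 := by
          rw [← pow_two, (cAE.mul_left cBE).mul_pow, cAB.mul_pow, pow_two, pow_two, pow_two,
            Classes.sq hD mA.1, Classes.sq hD mB.1, Classes.sq hD mE.1, one_mul, one_mul]
        have hca : Commute a (A * B * E) := (mA.2.2.mul_right mB.2.2).mul_right mE.2.2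
        calc [e₁, e₂, e₃].prod = (A * B * E) * (A * B * E) * (e₁ * e₂ * e₃) := by
              rw [hsq, one_mul]; simp [mul_assoc]
          _ = (A * B * E) * a := by rw [mul_assoc (A * B * E), hprod]
          _ = a * (A * B * E) := hca.eq.symm
  have hz := hker ((k' * ⟨P, hPH⟩ * k'⁻¹)⁻¹ * ⟨t, htH⟩) (by
    rw [map_mul, map_inv, map_mul, map_mul, map_inv, hk', hPρ, ← map_inv, ← map_mul, ← map_mul,
      ← hkl, hqs, inv_mul_cancel])
  simp only [Subgroup.coe_mul, InvMemClass.coe_inv] at hz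
  rcases hz with h | h
  · exact ⟨m, hm1, hm3, inv_mul_eq_one.1 h ▸ hP.conj hD (k' : G)⟩
  · refine ⟨m', hm1', hm3', ?_⟩
    have e : t = (k' : G) * (a * P) * (k' : G)⁻¹ := by
      have hka : Commute a (k' : G) := Factor.Hd_commute k'.2
      have hPa : Commute a P := Factor.Hd_commute hPH
      rw [inv_mul_eq_iff_eq_mul.1 h]
      calc (k' : G) * P * (k' : G)⁻¹ * a = (k' : G) * (P * a) * (k' : G)⁻¹ := by
            rw [mul_assoc ((k' : G) * P), ← (hka.inv_right).eq]; simp [mul_assoc]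
        _ = _ := by rw [hPa.eq]
    rw [e]; exact hP'.conj hD _

/-- A product of `m ≤ 3` commuting members exists. -/
theorem exists_isProd {m : ℕ} (h1 : 1 ≤ m) (h3 : m ≤ 3) : ∃ x, IsProd D m x := by
  obtain ⟨a, ha, -⟩ := hprim.2.1
  obtain ⟨b, hb⟩ := Set.nonempty_of_ncard_ne_zero
    ((ncard_nb hD hprim h22 ha).trans_ne (by norm_num : (693 : ℕ) ≠ 0))
  obtain ⟨c, hca, hcb⟩ := Set.nonempty_of_ncard_ne_zero
    ((ncard_nb_inter hD hprim h22 ha hb).trans_ne (by norm_num : (180 : ℕ) ≠ 0))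
  interval_cases m
  · exact ⟨a, [a], by simp, rfl, by simp [ha], by simp, by simp⟩
  · exact ⟨a * b, [a, b], by simp [hb.2.1.symm], rfl, by simp [ha, hb.1],
      by simp [hb.2.2, hb.2.2.symm], by simp⟩
  · exact ⟨a * b * c, [a, b, c], by simp [hb.2.1.symm, hca.2.1.symm, hcb.2.1.symm], rfl,
      by simp [ha, hb.1, hca.1],
      by simp [hb.2.2, hb.2.2.symm, hca.2.2, hca.2.2.symm, hcb.2.2, hcb.2.2.symm],
      by simp [mul_assoc]⟩

end Cfsg.Agent.ThreeTransp.M22
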