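import Cfsg.Agent.Lib.ThreeTransp.M22.Products

/-!
In a group of type M(22) the given class is the only generating class of 3-transpositions.
-/

set_option autoImplicit false
set_option linter.unusedSectionVars false

namespace Cfsg.Agent.ThreeTransp.M22

open Cfsg.Agent.ThreeTransp
open Cfsg.Agent.ThreeTransp.Factor (nb)

variable {G : Type*} [Group G] {D : Set G}

/-- For commuting distinct `a`, `b` and `c` commuting with neither, `(a * b * c)` has order 4,
and this stays so after multiplying by an involution commuting with it. -/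
theorem abc_bad (hD : Cfsg.IsThreeTranspositionSet D) {a b c z : G} (ha : a ∈ D) (hb : b ∈ D)
    (hc : c ∈ D) (hne : a ≠ b) (hab : Commute a b) (hac : ¬ Commute a c) (hbc : ¬ Commute b c)
    (hz : z * z = 1) (hzc : Commute (a * b * c) z) :
    ¬ ((a * b * c * z) ^ 2 = 1 ∨ (a * b * c * z) ^ 3 = 1) := by
  have ha2 := Basic.sq hD ha
  have hb2 := Basic.sq hD hb
  have hc2 := Basic.sq hD hc
  have hca : c * a * c = a * c * a := (Basic.braid hD ha hc hac).symm
  have hcb : c * b * c = b * c * b := (Basic.braid hD hb hc hbc).symm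
  have hsq : (a * b * c) ^ 2 = b * c * a * b * c * b := by
    calc (a * b * c) ^ 2 = a * b * (c * a * b * c) := by rw [pow_two]; simp [mul_assoc]
      _ = a * b * ((c * a * c) * (c * b * c)) := by
          congr 1
          simp only [mul_assoc]
          rw [← mul_assoc c c, hc2, one_mul]
      _ = a * b * (a * c * a * (b * c * b)) := by rw [hca, hcb]
      _ = (a * b * a) * c * a * (b * c * b) := by simp [mul_assoc]
      _ = b * c * a * (b * c * b) := by rw [hab.eq, mul_assoc b a a, ha2, mul_one]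
      _ = b * c * a * b * c * b := by simp [mul_assoc]
  have hne1 : (a * b * c) ^ 2 ≠ 1 := by
    intro h
    rw [hsq] at h
    refine hne ?_
    have h1 : c * (a * b) * c = 1 := by
      calc c * (a * b) * c = b * b * (c * (a * b) * c) * (b * b) := by rw [hb2]; simp
        _ = b * (b * c * a * b * c * b) * b := by simp [mul_assoc]
        _ = 1 := by rw [h, mul_one, hb2]
    have h2 : a * b = 1 := by
      calc a * b = (c * c) * (a * b) * (c * c) := by rw [hc2]; simp
        _ = c * (c * (a * b) * c) * c := by simp [mul_assoc]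
        _ = 1 := by rw [h1, mul_one, hc2]
    rw [eq_inv_of_mul_eq_one_left h2, Basic.inv_eq hD hb]
  have h4 : (a * b * c) ^ 4 = 1 := by
    rw [show 4 = 2 * 2 from rfl, pow_mul, hsq, pow_two]
    calc b * c * a * b * c * b * (b * c * a * b * c * b)
        = b * c * (a * b) * (c * ((b * b) * c)) * (a * b) * c * b := by simp [mul_assoc]
      _ = b * c * ((a * b) * (a * b)) * c * b := by
          rw [hb2, one_mul, hc2, mul_one]; simp [mul_assoc]
      _ = b * c * ((a * a) * (b * b)) * c * b := by rw [hab.symm.mul_mul_mul_comm]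
      _ = 1 := by rw [ha2, hb2, one_mul, mul_one, mul_assoc b c c, hc2, mul_one, hb2]
  rintro (h | h)
  · rw [hzc.mul_pow, pow_two z, hz, mul_one] at h
    exact hne1 h
  · have h4' : (a * b * c * z) ^ 4 = 1 := by
      rw [hzc.mul_pow, h4, one_mul, show z ^ 4 = (z * z) * (z * z) by simp [pow_succ, mul_assoc],
        hz, mul_one]
    have h1 : a * b * c * z = 1 := by rwa [pow_succ, h, one_mul] at h4'
    have h2 : (a * b * c * z) ^ 2 = 1 := by rw [h1, one_pow]
    rw [hzc.mul_pow, pow_two z, hz, mul_one] at h2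
    exact hne1 h2

variable [Finite G] (hD : Cfsg.IsThreeTranspositionGroup D)
  (hprim : Cfsg.IsPrimitiveUnderConj D) (h22 : Cfsg.IsOfTypeM22 G D)
include hD hprim h22

/-- Two non-commuting members, a commuting pair of common neighbours, and a further neighbour of
the first. -/
theorem exists_config : ∃ a c d f b : G, a ∈ D ∧ c ∈ D ∧ ¬ Commute a c ∧ d ∈ nb D a ∩ nb D c ∧
    f ∈ nb D a ∩ nb D c ∩ nb D d ∧ b ∈ nb D a ∩ nb D d ∩ nb D f ∧ ¬ Commute b c := by
  obtain ⟨a, ha, -⟩ := hprim.2.1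
  obtain ⟨c, hc, hac⟩ : (outer D a).Nonempty :=
    Set.nonempty_of_ncard_ne_zero (by rw [ncard_outer hD hprim h22 ha]; norm_num)
  obtain ⟨d, hd⟩ : (nb D a ∩ nb D c).Nonempty := inter_nonempty hD hprim h22 ha hc hac
  obtain ⟨f, hf⟩ : (nb D a ∩ nb D c ∩ nb D d).Nonempty :=
    Set.nonempty_of_ncard_ne_zero (by rw [inner_degree hD hprim h22 ha hc hac hd]; norm_num)
  refine ⟨a, c, d, f, ?_⟩
  by_contra hcon
  push Not at hcon
  have hsub : nb D a ∩ nb D d ∩ nb D f ⊆ nb D a ∩ nb D c ∩ nb D d ∩ nb D f := by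
    intro b hb
    have hbc := hcon b ha hc hac hd hf hb
    exact ⟨⟨⟨hb.1.1, hb.1.1.1, fun e => hac (e ▸ hb.1.1.2.2), hbc.symm⟩, hb.1.2⟩, hb.2⟩
  have := Set.ncard_le_ncard hsub
  rw [ncard_nb_three hD hprim h22 ha hd.1 hf.1.1 hf.2.2.1.symm hf.2.2.2,
    inner_pair hD hprim h22 ha hc hac hd hf] at this
  omega

/-- Uniqueness of the class, given that every involution is a product of at most three commuting
members. -/
theorem unique_class {D' : Set G} (hD' : Cfsg.IsThreeTranspositionClass D')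
    (hinv : ∀ x : G, orderOf x = 2 → ∃ m : ℕ, 1 ≤ m ∧ m ≤ 3 ∧ (∃ l : List G, l.Nodup ∧
      l.length = m ∧ (∀ a ∈ l, a ∈ D) ∧ (∀ a ∈ l, ∀ b ∈ l, Commute a b) ∧ l.prod = x)) :
    D' = D := by
  obtain ⟨hset, ⟨x, hx, hcls⟩, -⟩ := hD'
  have conj : ∀ g : G, g * x * g⁻¹ ∈ D' := fun g => by
    rw [hcls]; exact isConj_iff.2 ⟨g, rfl⟩
  obtain ⟨m, hm1, hm3, l, hnd, hlen, hlD, hlc, hprod⟩ := hinv x (hset.1 x hx)
  obtain ⟨a, c, d, f, b, ha, hc, hac, hd, hf, hb, hbc⟩ := exists_config hD hprim h22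
  interval_cases m
  · obtain ⟨p, rfl⟩ := List.length_eq_one_iff.1 hlen
    have hp : x ∈ D := by rw [← hprod]; simpa using hlD
    rw [hcls]
    ext y
    refine ⟨fun hy => ?_, fun hy => isConj_iff.2 (hprim.1 x hp y hy)⟩
    obtain ⟨g, rfl⟩ := isConj_iff.1 hy
    exact hD.2.1 g x hp
  · exfalso
    obtain ⟨p, q, rfl⟩ := List.length_eq_two.1 hlen
    have hx' : p * q = x := by simpa using hprod
    have hp : p ∈ D := hlD p (by simp)
    have hq : q ∈ nb D p := ⟨hlD q (by simp), fun e => by simp [e] at hnd,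
      hlc p (by simp) q (by simp)⟩
    have mem : ∀ u ∈ D, ∀ v ∈ nb D u, u * v ∈ D' := fun u hu v hv => by
      obtain ⟨g, hgp, hgq⟩ := pair_trans hD hprim h22 hp hq hu hv
      rw [← hgp, ← hgq, show g * p * g⁻¹ * (g * q * g⁻¹) = g * (p * q) * g⁻¹ by group, hx']
      exact conj g
    have h := hset.2 _ (mem a ha b hb.1.1) _ (mem c hc d hd.2)
    rw [← mul_assoc] at h
    exact abc_bad hD.1 ha hb.1.1.1 hc hb.1.1.2.1.symm hb.1.1.2.2 hac hbc
      (Basic.sq hD.1 hd.1.1)
      ((hd.1.2.2.mul_left hb.1.2.2.2.symm).mul_left hd.2.2.2) h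
  · exfalso
    obtain ⟨p, q, r, rfl⟩ := List.length_eq_three.1 hlen
    have hx' : p * q * r = x := by simpa [mul_assoc] using hprod
    have hp : p ∈ D := hlD p (by simp)
    have hq : q ∈ nb D p := ⟨hlD q (by simp), fun e => by simp [e] at hnd,
      hlc p (by simp) q (by simp)⟩
    have hr : r ∈ nb D p ∩ nb D q :=
      ⟨⟨hlD r (by simp), fun e => by simp [e] at hnd, hlc p (by simp) r (by simp)⟩,
        hlD r (by simp), fun e => by simp [e] at hnd, hlc q (by simp) r (by simp)⟩
    have mem : ∀ u ∈ D, ∀ v ∈ nb D u, ∀ w ∈ nb D u ∩ nb D v, u * v * w ∈ D' :=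
      fun u hu v hv w hw => by
      obtain ⟨g, hgp, hgq, hgr⟩ := triple_trans hD hprim h22 hp hq hr hu hv hw
      rw [← hgp, ← hgq, ← hgr, show g * p * g⁻¹ * (g * q * g⁻¹) * (g * r * g⁻¹) =
        g * (p * q * r) * g⁻¹ by group, hx']
      exact conj g
    have hbd : d ∈ nb D b := Cover.mem_nb_symm hd.1.1 hb.1.2
    have hbf : f ∈ nb D b := Cover.mem_nb_symm hf.1.1.1 hb.2
    have h := hset.2 _ (mem a ha b hb.1.1 d ⟨hd.1, hbd⟩) _ (mem c hc d hd.2 f ⟨hf.1.2, hf.2⟩)
    have he : a * b * d * (c * d * f) = a * b * c * f := by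
      calc a * b * d * (c * d * f) = a * b * (d * c) * d * f := by simp [mul_assoc]
        _ = a * b * (c * d) * d * f := by rw [hd.2.2.2.eq]
        _ = a * b * c * f := by rw [mul_assoc (a * b), mul_assoc c d d, Basic.sq hD.1 hd.1.1, mul_one]
    rw [he] at h
    exact abc_bad hD.1 ha hb.1.1.1 hc hb.1.1.2.1.symm hb.1.1.2.2 hac hbc
      (Basic.sq hD.1 hf.1.1.1)
      ((hf.1.1.2.2.mul_left hbf.2.2).mul_left hf.1.2.2.2) h

end Cfsg.Agent.ThreeTransp.M22
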