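import Cfsg.Agent.Lib.ThreeTransp.M22.Perfect

/-!
A double cover of a group of type M(22): lifts of commuting members commute, members lift to
involutions.
-/

set_option autoImplicit false
set_option linter.unusedSectionVars false

namespace Cfsg.Agent.ThreeTransp.M22.DoubleCover

open scoped commutatorElement
open Cfsg.Agent.ThreeTransp
open Cfsg.Agent.ThreeTransp.Factor (nb Hd)

variable {C Q : Type*} [Group C] [Group Q] [Finite Q] {D : Set Q}
  (hD : Cfsg.IsThreeTranspositionGroup D) (hprim : Cfsg.IsPrimitiveUnderConj D)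
  (h22 : Cfsg.IsOfTypeM22 Q D) (π : C →* Q) (hπ : Function.Surjective π) (z : C)
  (hz : z * z = 1) (hzc : ∀ c : C, Commute z c) (hker : ∀ c : C, π c = 1 → c = 1 ∨ c = z)
include hD hprim h22 hπ hz hzc hker

theorem ker_central {k : C} (hk : π k = 1) (c : C) : Commute k c := by
  rcases hker k hk with rfl | rfl
  exacts [Commute.one_left c, hzc c]

theorem ker_sq {k : C} (hk : π k = 1) : k * k = 1 := by
  rcases hker k hk with rfl | rfl
  exacts [one_mul 1, hz]

/-- Lifts of commuting members commute. -/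
theorem lift_commute {x y : C} (hx : π x ∈ D) (hy : π y ∈ D) (hxy : Commute (π x) (π y)) :
    Commute x y := by
  have kc := @ker_central C Q _ _ _ D hD hprim h22 π hπ z hz hzc hker
  by_cases he : π y = π x
  · have hk : π (x⁻¹ * y) = 1 := by rw [map_mul, map_inv, he, inv_mul_cancel]
    rw [show y = x * (x⁻¹ * y) by group]
    exact (Commute.refl x).mul_right (kc hk x).symm
  set a := π x with ha
  set M := (Hd D a).comap π with hM
  have hsh : ∀ m ∈ M, π (m * x * m⁻¹ * x⁻¹) = 1 := fun m hm => by
    rw [map_mul, map_mul, map_mul, map_inv, map_inv, ← ha,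
      ← (Factor.Hd_commute (show π m ∈ Hd D a from hm)).eq, mul_inv_cancel_right, mul_inv_cancel]
  let f : ↥M →* ↥(Subgroup.center C) := MonoidHom.mk'
    (fun m => ⟨(m : C) * x * (m : C)⁻¹ * x⁻¹,
      Subgroup.mem_center_iff.2 fun c => (kc (hsh m m.2) c).eq.symm⟩)
    fun m n => Subtype.ext (by
      simp only [Subgroup.coe_mul]
      have hc := (kc (hsh n n.2) (m : C)).eq
      calc (m : C) * n * x * ((m : C) * n)⁻¹ * x⁻¹
          = (m : C) * ((n : C) * x * (n : C)⁻¹ * x⁻¹) * x * (m : C)⁻¹ * x⁻¹ := by group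
        _ = (n : C) * x * (n : C)⁻¹ * x⁻¹ * ((m : C) * x * (m : C)⁻¹ * x⁻¹) := by
            rw [← hc]; group
        _ = _ := (kc (hsh n n.2) _).eq)
  have hcl : ⁅M, M⁆ ≤ Subgroup.centralizer ({x} : Set C) := by
    rw [Subgroup.commutator_le]
    intro m hm n hn
    refine Subgroup.mem_centralizer_iff.2 fun w hw => ?_
    rw [Set.mem_singleton_iff] at hw
    subst w
    have h : f ⁅(⟨m, hm⟩ : ↥M), ⟨n, hn⟩⁆ = 1 := by
      rw [map_commutatorElement, commutatorElement_eq_one_iff_mul_comm]
      exact Subtype.ext (Subgroup.mem_center_iff.1 (f ⟨n, hn⟩).2 _)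
    have h' : ⁅m, n⁆ * x * ⁅m, n⁆⁻¹ * x⁻¹ = 1 := by
      simpa [f, Subtype.ext_iff, commutatorElement_def] using h
    rw [mul_inv_eq_one, mul_inv_eq_iff_eq_mul] at h'
    exact h'.symm
  have hperf : ⁅Hd D a, Hd D a⁆ = Hd D a := by
    have h := congrArg (Subgroup.map (Hd D a).subtype) (perfect_Hd hD hprim h22 hx)
    rwa [commutator_def, Subgroup.map_commutator, ← MonoidHom.range_eq_map,
      Subgroup.range_subtype] at h
  have hmap : (⁅M, M⁆).map π = Hd D a := by
    rw [Subgroup.map_commutator, hM, Subgroup.map_comap_eq_self_of_surjective hπ, hperf]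
  obtain ⟨c, hc, hcy⟩ : π y ∈ (⁅M, M⁆).map π :=
    hmap ▸ Subgroup.subset_closure ⟨hy, he, hxy⟩
  have hk : π (c⁻¹ * y) = 1 := by rw [map_mul, map_inv, hcy, inv_mul_cancel]
  rw [show y = c * (c⁻¹ * y) by group]
  exact Commute.mul_right (Subgroup.mem_centralizer_iff.1 (hcl hc) x rfl) (kc hk x).symm

/-- Lifts of members are involutions. -/
theorem lift_sq {x : C} (hx : π x ∈ D) : x * x = 1 := by
  have kc := @ker_central C Q _ _ _ D hD hprim h22 π hπ z hz hzc hker
  have ks := @ker_sq C Q _ _ _ D hD hprim h22 π hπ z hz hzc hker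
  have hsq : π (x * x) = 1 := by rw [map_mul]; exact Basic.sq hD.1 hx
  have hconst : ∀ y, π y ∈ D → y * y = x * x := by
    intro y hy
    obtain ⟨g, hg⟩ := hprim.1 _ hx _ hy
    obtain ⟨g, rfl⟩ := hπ g
    have hk : π ((g * x * g⁻¹)⁻¹ * y) = 1 := by
      rw [map_mul, map_inv, map_mul, map_mul, map_inv, hg, inv_mul_cancel]
    rw [show y = (g * x * g⁻¹) * ((g * x * g⁻¹)⁻¹ * y) by group,
      (kc hk (g * x * g⁻¹)).mul_mul_mul_comm, ks hk, mul_one,
      show g * x * g⁻¹ * (g * x * g⁻¹) = g * (x * x) * g⁻¹ by group,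
      ← (kc hsq g).eq, mul_inv_cancel_right]
  obtain ⟨l, hlen, hl, hlc, hp⟩ := exists_six_comm hD hprim h22 hx
  let s := Function.surjInv hπ
  have hs : ∀ q, π (s q) = q := Function.surjInv_eq hπ
  have hm : π (l.map s).prod = π x := by
    rw [map_list_prod, List.map_map, show (π ∘ s : Q → Q) = id from funext hs, List.map_id, hp]
  have hpow : ∀ t : List Q, (∀ q ∈ t, q ∈ D) → (∀ p ∈ t, ∀ q ∈ t, Commute p q) →
      (t.map s).prod * (t.map s).prod = (x * x) ^ t.length := by
    intro t
    induction t with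
    | nil => simp
    | cons q t ih =>
      intro h1 h2
      have hc : Commute (t.map s).prod (s q) := by
        refine Commute.list_prod_left _ _ fun w hw => ?_
        obtain ⟨p, hp', rfl⟩ := List.mem_map.1 hw
        refine lift_commute hD hprim h22 π hπ z hz hzc hker (by rw [hs]; exact h1 p (by simp [hp']))
          (by rw [hs]; exact h1 q (by simp)) ?_
        rw [hs, hs]
        exact h2 p (by simp [hp']) q (by simp)
      rw [List.map_cons, List.prod_cons, hc.mul_mul_mul_comm, List.length_cons, pow_succ',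
        hconst (s q) (by rw [hs]; exact h1 q (by simp)),
        ih (fun p hp' => h1 p (by simp [hp'])) fun p hp' r hr => h2 p (by simp [hp']) r (by simp [hr])]
  have h6 := hpow l (fun q hq => (hl q hq).1) hlc
  rw [hconst _ (hm ▸ hx), hlen, show (6 : ℕ) = 2 * 3 from rfl, pow_mul, pow_two, ks hsq,
    one_pow] at h6
  exact h6

/-- An involution which is a product of commuting members is the image of an involution. -/
theorem lift_involution {q : Q} (hq : orderOf q = 2) {l : List Q} (hl : ∀ a ∈ l, a ∈ D)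
    (hlc : ∀ a ∈ l, ∀ b ∈ l, Commute a b) (hp : l.prod = q) :
    ∃ y : C, orderOf y = 2 ∧ π y = q := by
  let s := Function.surjInv hπ
  have hs : ∀ p, π (s p) = p := Function.surjInv_eq hπ
  have hm : π (l.map s).prod = q := by
    rw [map_list_prod, List.map_map, show (π ∘ s : Q → Q) = id from funext hs, List.map_id, hp]
  have hpow : ∀ t : List Q, (∀ p ∈ t, p ∈ D) → (∀ p ∈ t, ∀ r ∈ t, Commute p r) →
      (t.map s).prod * (t.map s).prod = 1 := by
    intro t
    induction t with
    | nil => simp
    | cons r t ih =>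
      intro h1 h2
      have hc : Commute (t.map s).prod (s r) := by
        refine Commute.list_prod_left _ _ fun w hw => ?_
        obtain ⟨p, hp', rfl⟩ := List.mem_map.1 hw
        refine lift_commute hD hprim h22 π hπ z hz hzc hker (by rw [hs]; exact h1 p (by simp [hp']))
          (by rw [hs]; exact h1 r (by simp)) ?_
        rw [hs, hs]
        exact h2 p (by simp [hp']) r (by simp)
      rw [List.map_cons, List.prod_cons, hc.mul_mul_mul_comm,
        lift_sq hD hprim h22 π hπ z hz hzc hker (x := s r) (by rw [hs]; exact h1 r (by simp)),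
        one_mul,
        ih (fun p hp' => h1 p (by simp [hp'])) fun p hp' w hw => h2 p (by simp [hp']) w (by simp [hw])]
  haveI : Fact (Nat.Prime 2) := ⟨Nat.prime_two⟩
  refine ⟨_, orderOf_eq_prime (by rw [pow_two]; exact hpow l hl hlc) fun h => ?_, hm⟩
  rw [h, map_one] at hm
  rw [← hm, orderOf_one] at hq
  omega

end Cfsg.Agent.ThreeTransp.M22.DoubleCover
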