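import Cfsg.Agent.Lib.ThreeTransp.M22.Products

/-!
In a group of type M(22), six members commuting with a given one whose product is trivial.
-/

set_option autoImplicit false
set_option linter.unusedSectionVars false

namespace Cfsg.Agent.ThreeTransp.M22

open Cfsg.Agent.ThreeTransp
open Cfsg.Agent.ThreeTransp.Factor (nb Third exists_other)

variable {G : Type*} [Group G] {D : Set G} [Finite G] (hD : Cfsg.IsThreeTranspositionGroup D)
  (hprim : Cfsg.IsPrimitiveUnderConj D) (h22 : Cfsg.IsOfTypeM22 G D)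
include hD hprim h22

/-- Six commuting neighbours of a member with trivial product. -/
theorem exists_six_one {a : G} (ha : a ∈ D) :
    ∃ l : List G, l.length = 6 ∧ l.Nodup ∧ (∀ x ∈ l, x ∈ nb D a) ∧
      (∀ x ∈ l, ∀ y ∈ l, Commute x y) ∧ l.prod = 1 := by
  obtain ⟨b, hb⟩ : (nb D a).Nonempty :=
    Set.nonempty_of_ncard_ne_zero (by rw [ncard_nb hD hprim h22 ha]; norm_num)
  obtain ⟨p, hp⟩ : (nb D a ∩ nb D b).Nonempty :=
    Set.nonempty_of_ncard_ne_zero (by rw [ncard_nb_inter hD hprim h22 ha hb]; norm_num)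
  obtain ⟨x, y, z, -, -, -, -, -, hall, -⟩ := exists_other hD hprim h22 hb.1 hp.1.1 ha
    hp.2.2.1.symm hb.2.1 hp.1.2.1 hp.2.2.2 hb.2.2.symm hp.1.2.2.symm
  obtain ⟨c, hc, hcT⟩ :=
    Set.exists_mem_notMem_of_ncard_lt_ncard (s := ({x, y, z} : Set G))
      (t := nb D a ∩ nb D b ∩ nb D p) (by
        rw [ncard_nb_three hD hprim h22 ha hb hp.1 hp.2.2.1.symm hp.2.2.2]
        refine lt_of_le_of_lt (Set.ncard_insert_le _ _) ?_
        have := Set.ncard_insert_le y ({z} : Set G)
        rw [Set.ncard_singleton] at this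
        omega) (Set.toFinite _)
  simp only [Set.mem_insert_iff, Set.mem_singleton_iff, not_or] at hcT
  obtain ⟨x', y', z', hx, hy, hz, hnd, ⟨cxy, cxz, cyz⟩, -, hprod⟩ :=
    exists_other hD hprim h22 hb.1 hp.1.1 hc.1.1.1 hp.2.2.1.symm hc.1.2.2.1.symm hc.2.2.1.symm
      hp.2.2.2 hc.1.2.2.2 hc.2.2.2
  have hcm : ∀ q, Third D b p c q → q ≠ a → q ∈ nb D a := fun q hq hne =>
    ⟨hq.1, hne, hq.2.2.2 a ha hb.2.2 hp.1.2.2 hc.1.1.2.2⟩
  -- `c` would be a third point of the triple `b`, `p`, `a`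
  have hbad : ∀ u v w : G, Third D b p c u → Third D b p c v → Third D b p c w → Commute u v →
      Commute u w → Commute v w → v ≠ w → u * v * w = b * p * c → u ≠ a := by
    intro u v w hu hv hw huv huw hvw hne he hua
    subst hua
    have hvc := hv.2.1.2.2
    have hwc := hw.2.1.2.2
    have hj : b * p * u = c * v * w := by
      have h1 : b * p = u * v * w * c := by
        rw [he, mul_assoc, Classes.sq hD hc.1.1.1, mul_one]
      calc b * p * u = u * v * w * c * u := by rw [h1]
        _ = u * (v * w * c) * u := by simp [mul_assoc]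
        _ = v * w * c * u * u := by rw [((huv.mul_right huw).mul_right hc.1.1.2.2).eq]
        _ = v * w * c := by rw [mul_assoc, Classes.sq hD hu.1, mul_one]
        _ = c * (v * w) := by rw [((hv.2.2.1.2.2.symm).mul_right hw.2.2.1.2.2.symm).eq]
        _ = c * v * w := by rw [mul_assoc]
    have h3 : Third D b p u c := by
      refine ⟨hc.1.1.1, ⟨hc.1.2.2.1, hc.2.2.1, fun e => hu.2.1.2.2 e.symm⟩,
        ⟨hc.1.2.2.2.symm, hc.2.2.2.symm, hc.1.1.2.2.symm⟩, fun f hf h1 h2 h4 => ?_⟩
      refine (Factor.commute_each_three hD hc.1.1.1 hv.1 hw.1 hf (Ne.symm hvc) (Ne.symm hwc) hne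
        hv.2.2.1.2.2.symm hw.2.2.1.2.2.symm hvw ?_).1
      rw [← hj]
      exact (h1.mul_right h2).mul_right h4
    rcases hall c h3 with e | e | e
    exacts [hcT.1 e, hcT.2.1 e, hcT.2.2 e]
  have hnd' := hnd
  simp only [List.nodup_cons, List.mem_cons, List.not_mem_nil, or_false, not_or, List.nodup_nil,
    and_true, not_false_eq_true] at hnd'
  obtain ⟨-, -, -, ⟨nxy, nxz⟩, nyz⟩ := hnd'
  have hyxz : y' * x' * z' = b * p * c := by rw [cxy.symm.eq, hprod]
  have hzxy : z' * x' * y' = b * p * c := by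
    rw [hprod, mul_assoc, (cxz.symm.mul_right cyz.symm).eq]
  have hxa := hbad x' y' z' hx hy hz cxy cxz cyz nyz hprod.symm
  have hya := hbad y' x' z' hy hx hz cxy.symm cyz cxz nxz hyxz
  have hza := hbad z' x' y' hz hx hy cxz.symm cyz.symm cxy nxy hzxy
  have mx := hcm x' hx hxa
  have my := hcm y' hy hya
  have mz := hcm z' hz hza
  refine ⟨[b, p, c, x', y', z'], rfl, hnd, ?_, ?_, ?_⟩
  · intro q hq
    simp only [List.mem_cons, List.not_mem_nil, or_false] at hq
    rcases hq with rfl | rfl | rfl | rfl | rfl | rfl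
    exacts [hb, hp.1, hc.1.1, mx, my, mz]
  · have h2 : ∀ q, Third D b p c q → Commute q b ∧ Commute q p ∧ Commute q c := fun q hq => hq.2.2.1
    intro u hu v hv
    simp only [List.mem_cons, List.not_mem_nil, or_false] at hu hv
    rcases hu with rfl | rfl | rfl | rfl | rfl | rfl <;>
      rcases hv with rfl | rfl | rfl | rfl | rfl | rfl <;>
      first
        | exact Commute.refl _
        | exact hp.2.2.2 | exact hp.2.2.2.symm | exact hc.1.2.2.2 | exact hc.1.2.2.2.symm
        | exact hc.2.2.2 | exact hc.2.2.2.symm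
        | exact cxy | exact cxz | exact cyz | exact cxy.symm | exact cxz.symm | exact cyz.symm
        | exact hx.2.2.1.1 | exact hx.2.2.1.2.1 | exact hx.2.2.1.2.2
        | exact hy.2.2.1.1 | exact hy.2.2.1.2.1 | exact hy.2.2.1.2.2
        | exact hz.2.2.1.1 | exact hz.2.2.1.2.1 | exact hz.2.2.1.2.2
        | exact hx.2.2.1.1.symm | exact hx.2.2.1.2.1.symm | exact hx.2.2.1.2.2.symm
        | exact hy.2.2.1.1.symm | exact hy.2.2.1.2.1.symm | exact hy.2.2.1.2.2.symm
        | exact hz.2.2.1.1.symm | exact hz.2.2.1.2.1.symm | exact hz.2.2.1.2.2.symm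
  · have hsq : (b * p * c) * (b * p * c) = 1 := by
      rw [← pow_two, (hc.1.2.2.2.mul_left hc.2.2.2).mul_pow, hp.2.2.2.mul_pow, pow_two, pow_two,
        pow_two, Classes.sq hD hb.1, Classes.sq hD hp.1.1, Classes.sq hD hc.1.1.1, one_mul, one_mul]
    calc [b, p, c, x', y', z'].prod = (b * p * c) * (x' * y' * z') := by simp [mul_assoc]
      _ = 1 := by rw [← hprod, hsq]

end Cfsg.Agent.ThreeTransp.M22
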