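import Cfsg.Agent.Lib.ThreeTransp.M22.Local
import Cfsg.Agent.S5463

/-!
In a group of type M(22) some six commuting neighbours of a member have that member as their
product; hence the group and the groups generated by the neighbours are perfect.
-/

set_option autoImplicit false
set_option linter.unusedSectionVars false

namespace Cfsg.Agent.ThreeTransp.M22

open Matrix Cfsg.Agent.Classical.Unitary
open Cfsg.Agent.Forms
open Cfsg.Agent.GroupStructure3.ThreeTransUnitary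
open Cfsg.Agent.ThreeTransp
open Cfsg.Agent.ThreeTransp.Factor (Hd Dl nb mem_Hd grp_Dl)

namespace Hyperoval

variable {F : Type*} [Field F] [Fintype F]

local notation "Vec" => (Fin 6 → F)
local notation "H" => Cfsg.hermForm 6 F 2

/-- The vectors of a totally isotropic plane. -/
def pl (s t r : F) : Vec := ![s, s, t, t, r, r]

variable (hF : Fintype.card F = 2 ^ 2)
include hF

theorem pl_H (s t r s' t' r' : F) : H (pl s t r) (pl s' t' r') = 0 := by
  simp only [Cfsg.hermForm, pl, Fin.sum_univ_six, Matrix.cons_val]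
  linear_combination (s * s' ^ 2 + t * t' ^ 2 + r * r' ^ 2) * two_zero hF

/-- Three base points and three further ones with vanishing sum of rank one forms. -/
theorem sum_zero {ω k : F} (h3 : ω ^ 3 = 1) (hω : ω ^ 2 + ω + 1 = 0) (hk : k ^ 3 = 1) (x : Vec) :
    ([pl 1 0 0, pl 0 1 0, pl 0 0 1, pl 1 1 k, pl 1 ω (k * ω ^ 2),
      pl 1 (ω ^ 2) (k * (ω ^ 2) ^ 2)].map fun v => H x v • v).sum = 0 := by
  have h2 := two_zero hF
  obtain ⟨X, hX⟩ : ∃ X, X = x 0 + x 1 := ⟨_, rfl⟩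
  obtain ⟨Y, hY⟩ : ∃ Y, Y = x 2 + x 3 := ⟨_, rfl⟩
  obtain ⟨Z, hZ⟩ : ∃ Z, Z = x 4 + x 5 := ⟨_, rfl⟩
  have hH : ∀ s t r : F, H x (pl s t r) = X * s ^ 2 + Y * t ^ 2 + Z * r ^ 2 := fun s t r => by
    simp only [Cfsg.hermForm, pl, Fin.sum_univ_six, Matrix.cons_val, hX, hY, hZ]
    ring
  have e4 : ω ^ 4 = ω := by linear_combination ω * h3
  have e5 : ω ^ 5 = ω ^ 2 := by linear_combination ω ^ 2 * h3
  have e6 : ω ^ 6 = 1 := by linear_combination (ω ^ 3 + 1) * h3
  have s1 : (1 : F) + ω + ω ^ 2 = 0 := by linear_combination hω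
  have s2 : (1 : F) + ω ^ 2 + ω ^ 4 = 0 := by linear_combination hω + e4
  have s3 : (1 : F) + ω ^ 4 + ω ^ 8 = 0 := by
    linear_combination hω + e4 + ω ^ 4 * e4 + e5
  have s4 : (1 : F) + ω ^ 5 + ω ^ 10 = 0 := by
    linear_combination hω + e5 + ω ^ 5 * e5 + ω ^ 2 * e5 + e4
  have s5 : (1 : F) + (1 + ω ^ 3 + ω ^ 6) = 0 := by
    linear_combination h3 + e6 + 2 * h2
  have s6 : (1 : F) + k ^ 3 * (1 + ω ^ 6 + ω ^ 12) = 0 := by
    linear_combination (1 + ω ^ 6 + ω ^ 12) * hk + (ω ^ 6 + 2) * e6 + 2 * h2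
  simp only [List.map_cons, List.map_nil, List.sum_cons, List.sum_nil, hH]
  funext i
  fin_cases i <;>
    simp only [pl, Fin.zero_eta, Fin.mk_one, Fin.reduceFinMk, Pi.add_apply, Pi.smul_apply,
      Pi.zero_apply, smul_eq_mul, Matrix.cons_val]
  · linear_combination 2 * X * h2 + Y * s2 + Z * k ^ 2 * s3
  · linear_combination 2 * X * h2 + Y * s2 + Z * k ^ 2 * s3
  · linear_combination X * s1 + Y * s5 + Z * k ^ 2 * s4
  · linear_combination X * s1 + Y * s5 + Z * k ^ 2 * s4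
  · linear_combination X * k * s2 + Y * k * s3 + Z * s6
  · linear_combination X * k * s2 + Y * k * s3 + Z * s6

end Hyperoval

variable {G : Type*} [Group G] [Finite G] {D : Set G} (hD : Cfsg.IsThreeTranspositionGroup D)
  (hprim : Cfsg.IsPrimitiveUnderConj D) (h22 : Cfsg.IsOfTypeM22 G D)
include hD hprim h22

theorem d₀_cores {a : G} (ha : a ∈ D) (p : ℕ) [Fact p.Prime] :
    Cfsg.pCore p ↥(Hd D a) ≤ Subgroup.center ↥(Hd D a) := by
  obtain ⟨-, -, hat⟩ := Factor.M22_core hD h22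
  obtain ⟨-, -, F, i1, i2, hF, ⟨φ⟩⟩ := hat a ha
  obtain ⟨hs, -, hnab, -⟩ := Factor.simple_of_iso hF φ
  exact Factor.pCore_le_center_of_quot (Factor.pCore_eq_bot_of_simple hnab)

/-- The three base points of a plane and three further ones of it have the member as product. -/
theorem exists_seven_comm {a : G} (ha : a ∈ D) (C : Chart D a) :
    ∃ e₁ e₂ e₃ : G, [e₁, e₂, e₃].Nodup ∧ (∀ x ∈ [e₁, e₂, e₃], x ∈ nb D a) ∧
      (∀ x ∈ [e₁, e₂, e₃], ∀ y ∈ [e₁, e₂, e₃], Commute x y) ∧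
      (∀ x ∈ [C.f (Hyperoval.pl 1 0 0), C.f (Hyperoval.pl 0 1 0), C.f (Hyperoval.pl 0 0 1),
          e₁, e₂, e₃], x ∈ nb D a) ∧
      (∀ x ∈ [C.f (Hyperoval.pl 1 0 0), C.f (Hyperoval.pl 0 1 0), C.f (Hyperoval.pl 0 0 1),
          e₁, e₂, e₃], ∀ y ∈ [C.f (Hyperoval.pl 1 0 0), C.f (Hyperoval.pl 0 1 0),
          C.f (Hyperoval.pl 0 0 1), e₁, e₂, e₃], Commute x y) ∧
      C.f (Hyperoval.pl 1 0 0) * C.f (Hyperoval.pl 0 1 0) * C.f (Hyperoval.pl 0 0 1) *
        (e₁ * e₂ * e₃) = a := by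
  classical
  obtain ⟨ω, h3, hω, hω0⟩ := UnitaryPoints.exists_omega C.hF
  have h2 := two_zero C.hF
  let w : C.F → C.F → (Fin 6 → C.F) := fun k s => Hyperoval.pl 1 s (k * s ^ 2)
  let base : List (Fin 6 → C.F) := [Hyperoval.pl 1 0 0, Hyperoval.pl 0 1 0, Hyperoval.pl 0 0 1]
  let ext' : C.F → List (Fin 6 → C.F) := fun k => [w k 1, w k ω, w k (ω ^ 2)]
  have hpl : ∀ s t r : C.F, Hyperoval.pl s t r = 0 → s = 0 ∧ t = 0 ∧ r = 0 := fun s t r h =>
    ⟨congrFun h 0, congrFun h 2, congrFun h 4⟩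
  have hmul : ∀ (c s t r : C.F),
      c • Hyperoval.pl s t r = Hyperoval.pl (c * s) (c * t) (c * r) := fun c s t r => by
    funext i; fin_cases i <;> simp [Hyperoval.pl]
  have hv : ∀ k, k ≠ 0 → ∀ v ∈ base ++ ext' k, v ≠ 0 ∧ ∀ u ∈ base ++ ext' k,
      Cfsg.hermForm 6 C.F 2 v u = 0 := by
    intro k hk v hv
    simp only [base, ext', w, List.cons_append, List.nil_append, List.mem_cons,
      List.not_mem_nil, or_false] at hv ⊢
    constructor
    · rcases hv with rfl | rfl | rfl | rfl | rfl | rfl <;> intro e <;>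
        obtain ⟨e1, e2, e3⟩ := hpl _ _ _ e <;> first
          | exact one_ne_zero e1 | exact one_ne_zero e2 | exact one_ne_zero e3
    · intro u hu
      rcases hv with rfl | rfl | rfl | rfl | rfl | rfl <;>
        rcases hu with rfl | rfl | rfl | rfl | rfl | rfl <;> exact Hyperoval.pl_H C.hF _ _ _ _ _ _
  have hprod : ∀ k, k ^ 3 = 1 → ((base ++ ext' k).map C.f).prod = 1 ∨
      ((base ++ ext' k).map C.f).prod = a := by
    intro k hk
    have hk0 : k ≠ 0 := fun e => by simp [e] at hk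
    let m : List {v : Fin 6 → C.F // Cfsg.hermForm 6 C.F 2 v v = 0} :=
      (base ++ ext' k).pmap Subtype.mk fun v hv' => (hv k hk0 v hv').2 v hv'
    have hm : m.map Subtype.val = base ++ ext' k := by
      rw [List.map_pmap]; exact (List.pmap_eq_map (f := id) _).trans (List.map_id _)
    have hmem : ∀ v ∈ base ++ ext' k, C.f v ∈ nb D a := fun v hv' =>
      C.mem v (hv k hk0 v hv').1 ((hv k hk0 v hv').2 v hv')
    have hρ : ∀ p : List {v : Fin 6 → C.F // Cfsg.hermForm 6 C.F 2 v v = 0},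
        (∀ v ∈ p, v.1 ≠ 0) → ∃ hp : (p.map fun v => C.f v.1).prod ∈ Hd D a,
          C.ρ ⟨_, hp⟩ = QuotientGroup.mk' _ (p.map fun v => tr C.hF v.2).prod := by
      intro p
      induction p with
      | nil =>
        intro _
        refine ⟨by simp, ?_⟩
        simp only [List.map_nil, List.prod_nil]
        exact (map_one C.ρ).trans (map_one _).symm
      | cons q t ih =>
        intro hp
        obtain ⟨h1, h2⟩ := ih fun v hv => hp v (by simp [hv])
        have hq := mem_Hd (C.mem q.1 (hp q (by simp)) q.2)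
        simp only [List.map_cons, List.prod_cons]
        refine ⟨mul_mem hq h1, ?_⟩
        rw [show (⟨_, mul_mem hq h1⟩ : ↥(Hd D a)) = ⟨_, hq⟩ * ⟨_, h1⟩ from rfl, map_mul, h2,
          C.img q.1 (hp q (by simp)) q.2, map_mul]
    obtain ⟨hp, hpe⟩ := hρ m fun v hv' => (hv k hk0 v.1 (hm ▸ List.mem_map_of_mem hv')).1
    have hone : (m.map fun v => tr C.hF v.2).prod = 1 := by
      refine SU_ext fun x => ?_
      rw [Factor.UnitarySix.prod_mulVec C.hF m (fun p hp' q hq' =>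
        (hv k hk0 p.1 (hm ▸ List.mem_map_of_mem hp')).2 q.1 (hm ▸ List.mem_map_of_mem hq')) x,
        mat_one, one_mulVec]
      have := Hyperoval.sum_zero C.hF h3 hω hk x
      rw [show [Hyperoval.pl (1 : C.F) 0 0, Hyperoval.pl 0 1 0, Hyperoval.pl 0 0 1,
        Hyperoval.pl 1 1 k, Hyperoval.pl 1 ω (k * ω ^ 2),
        Hyperoval.pl 1 (ω ^ 2) (k * (ω ^ 2) ^ 2)] = base ++ ext' k by simp [base, ext', w],
        ← hm, List.map_map] at this
      simp only [Function.comp_def] at this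
      rw [this, add_zero]
    rw [hone, map_one] at hpe
    have hz := C.ker ▸ (MonoidHom.mem_ker.2 hpe)
    rw [center_eq hD hprim h22 ha, Subgroup.mem_subgroupOf] at hz
    have e : ((base ++ ext' k).map C.f).prod = (m.map fun v => C.f v.1).prod := by
      rw [← hm, List.map_map]; rfl
    rw [e]
    obtain ⟨j, hj⟩ := Subgroup.mem_zpowers_iff.1 hz
    simp only at hj
    rw [← hj]
    rcases Int.even_or_odd j with ⟨r, rfl⟩ | ⟨r, rfl⟩
    · left
      rw [← two_mul, _root_.zpow_mul, _root_.zpow_two, Classes.sq hD ha, _root_.one_zpow]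
    · right
      rw [_root_.zpow_add, _root_.zpow_one, _root_.zpow_mul, _root_.zpow_two, Classes.sq hD ha,
        _root_.one_zpow, one_mul]
  have hlist : ∀ k, k ≠ 0 → ∀ x ∈ (base ++ ext' k).map C.f, x ∈ nb D a := by
    intro k hk x hx
    obtain ⟨v, hv', rfl⟩ := List.mem_map.1 hx
    exact C.mem v (hv k hk v hv').1 ((hv k hk v hv').2 v hv')
  -- the base triple and the two extensions are three triples with one product
  have hcomm : ∀ k, k ≠ 0 → ∀ x ∈ (base ++ ext' k).map C.f, ∀ y ∈ (base ++ ext' k).map C.f,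
      Commute x y := by
    intro k hk x hx y hy
    obtain ⟨v, hv', rfl⟩ := List.mem_map.1 hx
    obtain ⟨u, hu', rfl⟩ := List.mem_map.1 hy
    exact (C.comm_iff v u (hv k hk v hv').1 ((hv k hk v hv').2 v hv') (hv k hk u hu').1
      ((hv k hk u hu').2 u hu')).2 ((hv k hk v hv').2 u hu')
  have hiso : ∀ s t r : C.F, Cfsg.hermForm 6 C.F 2 (Hyperoval.pl s t r) (Hyperoval.pl s t r) = 0 :=
    fun s t r => Hyperoval.pl_H C.hF _ _ _ _ _ _
  have hne : ∀ s t r : C.F, (s ≠ 0 ∨ t ≠ 0 ∨ r ≠ 0) → Hyperoval.pl s t r ≠ 0 := fun s t r h e => by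
    obtain ⟨e1, e2, e3⟩ := hpl _ _ _ e
    simp [e1, e2, e3] at h
  have hinj : ∀ s t r s' t' r' : C.F, (s ≠ 0 ∨ t ≠ 0 ∨ r ≠ 0) → (s' ≠ 0 ∨ t' ≠ 0 ∨ r' ≠ 0) →
      C.f (Hyperoval.pl s t r) = C.f (Hyperoval.pl s' t' r') →
      ∃ c : C.F, s' = c * s ∧ t' = c * t ∧ r' = c * r := by
    intro s t r s' t' r' h h' e
    obtain ⟨c, hc⟩ := (C.eq_iff _ _ (hne s t r h) (hiso s t r) (hne s' t' r' h')
      (hiso s' t' r')).1 e
    rw [hmul] at hc
    exact ⟨c, congrFun hc 0, congrFun hc 2, congrFun hc 4⟩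
  have hω1 : ω ≠ 1 := fun e => by
    rw [e] at hω
    exact one_ne_zero (show (1 : C.F) = 0 by linear_combination hω - h2)
  have hω21 : ω ^ 2 ≠ 1 := fun e => hω1 (by linear_combination h3 - ω * e)
  have hωω : ω ≠ ω ^ 2 := fun e => hω21 (by linear_combination h3 + ω * e)
  have hwne : ∀ k s k' s', C.f (w k s) = C.f (w k' s') → s' = s ∧ k' * s' ^ 2 = k * s ^ 2 := by
    intro k s k' s' e
    obtain ⟨c, e1, e2, e3⟩ :=
      hinj _ _ _ _ _ _ (Or.inl one_ne_zero) (Or.inl one_ne_zero) e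
    rw [mul_one] at e1
    subst e1
    exact ⟨by rw [e2, one_mul], by rw [e3, one_mul]⟩
  have hbase : ∀ k s, s ≠ 0 → k ≠ 0 → ∀ v ∈ base, C.f (w k s) ≠ C.f v := by
    intro k s hs hk v hv' e
    simp only [base, List.mem_cons, List.not_mem_nil, or_false] at hv'
    rcases hv' with rfl | rfl | rfl <;>
      obtain ⟨c, e1, e2, e3⟩ := hinj _ _ _ _ _ _ (Or.inl one_ne_zero) (by simp) e
    · rw [mul_one] at e1; subst e1; exact hs (by rw [← one_mul s]; exact e2.symm)
    · rw [mul_one] at e1; subst e1; simp at e2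
    · rw [mul_one] at e1; subst e1; simp at e3
  let A0 : List G := base.map C.f
  let E : C.F → List G := fun k => (ext' k).map C.f
  have hnA : A0.Nodup := by
    have h12 : ∀ s t r s' t' r' : C.F, (s ≠ 0 ∨ t ≠ 0 ∨ r ≠ 0) → (s' ≠ 0 ∨ t' ≠ 0 ∨ r' ≠ 0) →
        (s = 0 ∧ s' ≠ 0 ∨ t = 0 ∧ t' ≠ 0 ∨ r = 0 ∧ r' ≠ 0) →
        C.f (Hyperoval.pl s t r) ≠ C.f (Hyperoval.pl s' t' r') := by
      intro s t r s' t' r' h h' hz e
      obtain ⟨c, e1, e2, e3⟩ := hinj _ _ _ _ _ _ h h' e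
      rcases hz with ⟨z, z'⟩ | ⟨z, z'⟩ | ⟨z, z'⟩
      · exact z' (by rw [e1, z, mul_zero])
      · exact z' (by rw [e2, z, mul_zero])
      · exact z' (by rw [e3, z, mul_zero])
    simp only [A0, base, List.map_cons, List.map_nil, List.nodup_cons, List.mem_cons,
      List.not_mem_nil, or_false, not_or, List.nodup_nil, and_true, not_false_eq_true]
    exact ⟨⟨h12 _ _ _ _ _ _ (by simp) (by simp) (by simp), h12 _ _ _ _ _ _ (by simp) (by simp)
      (by simp)⟩, h12 _ _ _ _ _ _ (by simp) (by simp) (by simp)⟩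
  have hnE : ∀ k, (E k).Nodup := by
    intro k
    simp only [E, ext', List.map_cons, List.map_nil, List.nodup_cons, List.mem_cons,
      List.not_mem_nil, or_false, not_or, List.nodup_nil, and_true, not_false_eq_true]
    exact ⟨⟨fun e => hω1 (hwne _ _ _ _ e).1, fun e => hω21 (hwne _ _ _ _ e).1⟩,
      fun e => hωω (hwne _ _ _ _ e).1.symm⟩
  have hmem0 : ∀ x ∈ A0, x ∈ (base ++ ext' (1 : C.F)).map C.f := fun x hx => by
    rw [List.map_append, List.mem_append]; exact Or.inl hx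
  have hmemE : ∀ k, ∀ x ∈ E k, x ∈ (base ++ ext' k).map C.f := fun k x hx => by
    rw [List.map_append, List.mem_append]; exact Or.inr hx
  obtain ⟨k₀, hk₀, hk₀a⟩ : ∃ k : C.F, k ^ 3 = 1 ∧ ((base ++ ext' k).map C.f).prod = a := by
    by_contra hcon
    push Not at hcon
    have hone : ∀ k, k ^ 3 = 1 → ((base ++ ext' k).map C.f).prod = 1 := fun k hk =>
      (hprod k hk).resolve_right (hcon k hk)
    obtain ⟨j, hj⟩ : ∃ j, j = A0.prod := ⟨_, rfl⟩
    have hA0 : A0.Nodup ∧ A0.length = 3 ∧ (∀ x ∈ A0, x ∈ D) ∧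
        (∀ x ∈ A0, ∀ y ∈ A0, Commute x y) ∧ A0.prod = j :=
      ⟨hnA, rfl, fun x hx => (hlist 1 one_ne_zero x (hmem0 x hx)).1,
        fun x hx y hy => hcomm 1 one_ne_zero x (hmem0 x hx) y (hmem0 y hy), hj.symm⟩
    have hjj : j⁻¹ = j := by
      rw [inv_eq_iff_mul_eq_one, ← pow_two, hj]
      obtain ⟨-, -, hm', hc', -⟩ := hA0
      simp only [A0, base, List.map_cons, List.map_nil, List.prod_cons, List.prod_nil,
        mul_one] at hm' hc' ⊢
      rw [((hc' _ (by simp) _ (by simp)).mul_right (hc' _ (by simp) _ (by simp))).mul_pow,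
        (hc' _ (by simp) _ (by simp)).mul_pow, pow_two, pow_two, pow_two,
        Classes.sq hD (hm' _ (by simp)), Classes.sq hD (hm' _ (by simp)),
        Classes.sq hD (hm' _ (by simp)), one_mul, one_mul]
    have hE : ∀ k : C.F, k ^ 3 = 1 → (E k).Nodup ∧ (E k).length = 3 ∧ (∀ x ∈ E k, x ∈ D) ∧
        (∀ x ∈ E k, ∀ y ∈ E k, Commute x y) ∧ (E k).prod = j := by
      intro k hk
      have hk0 : k ≠ 0 := fun e => by simp [e] at hk
      refine ⟨hnE k, rfl, fun x hx => (hlist k hk0 x (hmemE k x hx)).1,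
        fun x hx y hy => hcomm k hk0 x (hmemE k x hx) y (hmemE k y hy), ?_⟩
      have h := hone k hk
      rw [List.map_append, List.prod_append] at h
      rw [← hjj, hj]
      exact eq_inv_of_mul_eq_one_right h
    haveI : Fact (Nat.Prime 2) := ⟨Nat.prime_two⟩
    haveI : Fact (Nat.Prime 3) := ⟨Nat.prime_three⟩
    obtain ⟨l₁, l₂, -, -, -, hall⟩ := (Cfsg.Agent.S5463.result hD hprim a ha
      (d₀_cores hD hprim h22 ha 3) (d₀_cores hD hprim h22 ha 2) h22).2 j A0 hA0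
    have c0 := hall A0 hA0
    have c1 := hall (E 1) (hE 1 (one_pow 3))
    have cω := hall (E ω) (hE ω h3)
    have d01 : ∀ k, k ≠ 0 → ¬ ∀ x, x ∈ A0 ↔ x ∈ E k := by
      intro k hk h
      have hx : C.f (w k 1) ∈ A0 := (h _).2 (by simp [E, ext'])
      obtain ⟨v, hv', e⟩ := List.mem_map.1 hx
      exact hbase k 1 one_ne_zero hk v hv' e.symm
    have d12 : ¬ ∀ x, x ∈ E 1 ↔ x ∈ E ω := by
      intro h
      have hx : C.f (w 1 1) ∈ E ω := (h _).1 (by simp [E, ext'])
      obtain ⟨v, hv', e⟩ := List.mem_map.1 hx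
      simp only [ext', List.mem_cons, List.not_mem_nil, or_false] at hv'
      rcases hv' with rfl | rfl | rfl
      · exact hω1 (by simpa using (hwne _ _ _ _ e).2.symm)
      · exact hω1 (hwne _ _ _ _ e).1.symm
      · exact hω21 (hwne _ _ _ _ e).1.symm
    rcases c0 with a0 | a0 <;> rcases c1 with a1 | a1
    · exact d01 1 one_ne_zero fun x => (a0 x).trans (a1 x).symm
    · rcases cω with a2 | a2
      · exact d01 ω hω0 fun x => (a0 x).trans (a2 x).symm
      · exact d12 fun x => (a1 x).trans (a2 x).symm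
    · rcases cω with a2 | a2
      · exact d12 fun x => (a1 x).trans (a2 x).symm
      · exact d01 ω hω0 fun x => (a0 x).trans (a2 x).symm
    · exact d01 1 one_ne_zero fun x => (a0 x).trans (a1 x).symm
  have hk0 : k₀ ≠ 0 := fun e => by simp [e] at hk₀
  refine ⟨C.f (w k₀ 1), C.f (w k₀ ω), C.f (w k₀ (ω ^ 2)), hnE k₀,
    fun x hx => hlist k₀ hk0 x (hmemE k₀ x hx),
    fun x hx y hy => hcomm k₀ hk0 x (hmemE k₀ x hx) y (hmemE k₀ y hy),
    fun x hx => hlist k₀ hk0 x (by simpa [base, ext'] using hx),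
    fun x hx y hy => hcomm k₀ hk0 x (by simpa [base, ext'] using hx) y
      (by simpa [base, ext'] using hy), ?_⟩
  refine Eq.trans ?_ hk₀a
  simp [base, ext', mul_assoc]

/-- The three base points of a plane and three further ones have the member as product. -/
theorem exists_seven {a : G} (ha : a ∈ D) (C : Chart D a) :
    ∃ e₁ e₂ e₃ : G, [e₁, e₂, e₃].Nodup ∧ (∀ x ∈ [e₁, e₂, e₃], x ∈ nb D a) ∧
      (∀ x ∈ [e₁, e₂, e₃], ∀ y ∈ [e₁, e₂, e₃], Commute x y) ∧
      C.f (Hyperoval.pl 1 0 0) * C.f (Hyperoval.pl 0 1 0) * C.f (Hyperoval.pl 0 0 1) *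
        (e₁ * e₂ * e₃) = a := by
  obtain ⟨e₁, e₂, e₃, h1, h2, h3, -, -, hp⟩ := exists_seven_comm hD hprim h22 ha C
  exact ⟨e₁, e₂, e₃, h1, h2, h3, hp⟩

/-- A member is a product of six of its neighbours, commuting pairwise. -/
theorem exists_six_comm {a : G} (ha : a ∈ D) :
    ∃ l : List G, l.length = 6 ∧ (∀ x ∈ l, x ∈ nb D a) ∧
      (∀ x ∈ l, ∀ y ∈ l, Commute x y) ∧ l.prod = a := by
  obtain ⟨C⟩ := exists_chart hD h22 ha
  obtain ⟨e₁, e₂, e₃, -, -, -, hm, hc, hp⟩ := exists_seven_comm hD hprim h22 ha C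
  exact ⟨_, rfl, hm, hc, by simpa [mul_assoc] using hp⟩

/-- A member is a product of six of its commuting neighbours. -/
theorem exists_six {a : G} (ha : a ∈ D) :
    ∃ l : List G, l.length = 6 ∧ (∀ x ∈ l, x ∈ nb D a) ∧ l.prod = a := by
  obtain ⟨l, h1, h2, -, h3⟩ := exists_six_comm hD hprim h22 ha
  exact ⟨l, h1, h2, h3⟩

theorem mem_commutator_Hd {a : G} (ha : a ∈ D) :
    (⟨a, mem_Hd_self hD hprim h22 ha⟩ : ↥(Hd D a)) ∈ commutator ↥(Hd D a) := by
  obtain ⟨l, hlen, hl, hp⟩ := exists_six hD hprim h22 ha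
  obtain ⟨x₀, hx₀⟩ : ∃ x, x ∈ l := List.exists_mem_of_length_pos (by omega)
  have hx₀' : (⟨x₀, mem_Hd (hl x₀ hx₀)⟩ : ↥(Hd D a)) ∈ Dl D a := hl x₀ hx₀
  have htr := Factor.transitive_Dl hD hprim ha (exists_commuting hD hprim h22)
  set π := QuotientGroup.mk' (commutator ↥(Hd D a)) with hπ
  have hπc : ∀ y ∈ Dl D a, π y = π ⟨x₀, mem_Hd (hl x₀ hx₀)⟩ := by
    intro y hy
    obtain ⟨g, hg⟩ := htr _ hx₀' y hy
    rw [← hg, map_mul, map_mul, map_inv]
    have hab : ∀ p q : ↥(Hd D a) ⧸ commutator ↥(Hd D a), p * q = q * p := fun p q => by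
      obtain ⟨p, rfl⟩ := QuotientGroup.mk'_surjective _ p
      obtain ⟨q, rfl⟩ := QuotientGroup.mk'_surjective _ q
      rw [← commutatorElement_eq_one_iff_mul_comm, ← map_commutatorElement]
      exact (QuotientGroup.eq_one_iff _).2 (Subgroup.commutator_mem_commutator
        (Subgroup.mem_top _) (Subgroup.mem_top _))
    rw [hab (π g), mul_inv_cancel_right]
  let m : List ↥(Hd D a) := l.pmap Subtype.mk fun x hx => mem_Hd (hl x hx)
  have hm : m.map Subtype.val = l := by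
    rw [List.map_pmap]; exact (List.pmap_eq_map (f := id) _).trans (List.map_id _)
  have hmp : m.prod = ⟨a, mem_Hd_self hD hprim h22 ha⟩ :=
    Subtype.ext (by rw [Subgroup.val_list_prod, hm, hp])
  rw [← hmp, ← QuotientGroup.eq_one_iff (N := commutator ↥(Hd D a))]
  show π m.prod = 1
  rw [map_list_prod, List.map_eq_replicate_iff.2 (fun y hy => hπc y (hl y.1
    (hm ▸ List.mem_map_of_mem hy))), List.prod_replicate, List.length_pmap, hlen,
    show 6 = 2 * 3 by rfl, pow_mul, ← map_pow, pow_two, Classes.sq (grp_Dl hD a) hx₀', map_one,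
    one_pow]

theorem perfect_Hd {a : G} (ha : a ∈ D) : commutator ↥(Hd D a) = ⊤ := by
  obtain ⟨C⟩ := exists_chart hD h22 ha
  rw [eq_top_iff]
  intro x _
  have hmap : (commutator ↥(Hd D a)).map C.ρ = ⊤ := by
    rw [commutator_def, Subgroup.map_commutator, Subgroup.map_top_of_surjective _ C.surj,
      ← commutator_def]
    rw [eq_top_iff]
    intro y _
    obtain ⟨g, rfl⟩ := QuotientGroup.mk'_surjective _ y
    have hg : g ∈ commutator (Cfsg.SU 6 C.F 2) := by
      rw [Factor.UnitarySix.commutator_top C.hF]; exact Subgroup.mem_top _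
    have := Subgroup.mem_map_of_mem (QuotientGroup.mk' (Subgroup.center (Cfsg.SU 6 C.F 2))) hg
    rw [commutator_def, Subgroup.map_commutator] at this
    rw [commutator_def]
    exact Subgroup.commutator_mono le_top le_top this
  obtain ⟨y, hy, hyx⟩ : C.ρ x ∈ (commutator ↥(Hd D a)).map C.ρ := hmap ▸ Subgroup.mem_top _
  have hz : y⁻¹ * x ∈ Subgroup.center ↥(Hd D a) := by
    rw [← C.ker, MonoidHom.mem_ker, map_mul, map_inv, hyx, inv_mul_cancel]
  rw [center_eq hD hprim h22 ha, Subgroup.mem_subgroupOf] at hz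
  obtain ⟨n, hn⟩ := Subgroup.mem_zpowers_iff.1 hz
  have : y⁻¹ * x = (⟨a, mem_Hd_self hD hprim h22 ha⟩ : ↥(Hd D a)) ^ n := Subtype.ext (by
    rw [SubgroupClass.coe_zpow]; exact hn.symm)
  rw [show x = y * (y⁻¹ * x) by group, this]
  exact mul_mem hy (zpow_mem (mem_commutator_Hd hD hprim h22 ha) n)

theorem perfect_group : commutator G = ⊤ := by
  rw [eq_top_iff, ← hD.2.2, Subgroup.closure_le]
  intro a ha
  have h : (⟨a, mem_Hd_self hD hprim h22 ha⟩ : ↥(Hd D a)) ∈ commutator ↥(Hd D a) :=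
    mem_commutator_Hd hD hprim h22 ha
  have := Subgroup.mem_map_of_mem (Hd D a).subtype h
  rw [commutator_def, Subgroup.map_commutator] at this
  rw [SetLike.mem_coe, commutator_def]
  exact Subgroup.commutator_mono le_top le_top this

end Cfsg.Agent.ThreeTransp.M22
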