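import Cfsg.Agent.Lib.ThreeTransp.M22.Stab
import Cfsg.Agent.Lib.ThreeTransp.Factor.Triples
import Cfsg.Agent.Lib.ThreeTransp.Factor.Perm
import Cfsg.Agent.Lib.Classical.UnitaryFrames

/-!
The members commuting with one member of a group of type M(22), seen as the isotropic points of the
six-dimensional unitary space over the field with four elements.
-/

set_option autoImplicit false
set_option linter.unusedSectionVars false

namespace Cfsg.Agent.ThreeTransp.M22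

open Matrix Cfsg.Agent.Classical.Unitary
open Cfsg.Agent.Forms
open Cfsg.Agent.GroupStructure3.ThreeTransUnitary
open Cfsg.Agent.ThreeTransp
open Cfsg.Agent.ThreeTransp.Factor (Hd Dl Dq Sd Sep nb mem_Hd Hd_commute grp_Dl commute_Dl)
open Cfsg.Agent.ThreeTransp.Factor.UnitarySix (exists_vec exists_sep)
open Cfsg.Agent.ThreeTransp.RankThree (loc)

universe u

variable {G : Type u} [Group G] {D : Set G}

/-- The identification of the neighbours of `a` with isotropic points. -/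
structure Chart (D : Set G) (a : G) where
  F : Type
  [fld : Field F]
  [fin : Fintype F]
  hF : Fintype.card F = 2 ^ 2
  ρ : ↥(Hd D a) →* Cfsg.PSU 6 F 2
  surj : Function.Surjective ρ
  ker : ρ.ker = Subgroup.center ↥(Hd D a)
  inj : ∀ x ∈ Dl D a, ∀ y ∈ Dl D a, ρ x = ρ y → x = y
  f : (Fin 6 → F) → G
  mem : ∀ v : Fin 6 → F, v ≠ 0 → Cfsg.hermForm 6 F 2 v v = 0 → f v ∈ nb D a
  img : ∀ (v : Fin 6 → F) (h0 : v ≠ 0) (hv : Cfsg.hermForm 6 F 2 v v = 0),
    ρ ⟨f v, mem_Hd (mem v h0 hv)⟩ = QuotientGroup.mk' _ (tr hF hv)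
  cover : ∀ x ∈ nb D a, ∃ v : Fin 6 → F, v ≠ 0 ∧ Cfsg.hermForm 6 F 2 v v = 0 ∧ f v = x
  eq_iff : ∀ v w : Fin 6 → F, v ≠ 0 → Cfsg.hermForm 6 F 2 v v = 0 → w ≠ 0 →
    Cfsg.hermForm 6 F 2 w w = 0 → (f v = f w ↔ ∃ c : F, w = c • v)
  comm_iff : ∀ v w : Fin 6 → F, v ≠ 0 → Cfsg.hermForm 6 F 2 v v = 0 → w ≠ 0 →
    Cfsg.hermForm 6 F 2 w w = 0 → (Commute (f v) (f w) ↔ Cfsg.hermForm 6 F 2 v w = 0)

attribute [instance] Chart.fld Chart.fin

section

variable [Finite G] (hD : Cfsg.IsThreeTranspositionGroup D) (h22 : Cfsg.IsOfTypeM22 G D)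
include hD h22

theorem exists_chart {a : G} (ha : a ∈ D) : Nonempty (Chart D a) := by
  classical
  obtain ⟨-, -, hat⟩ := Factor.M22_core hD h22
  obtain ⟨hsep, hne, F, i1, i2, hF, ⟨φ⟩⟩ := hat a ha
  haveI := Factor.UnitarySix.simple_PSU hF
  set E := φ '' Dq D a with hE
  have hEg : Cfsg.IsThreeTranspositionGroup E := Factor.grp_image φ (Factor.grp_Dq hD hne)
  obtain ⟨ρ, hρ⟩ : ∃ ρ : ↥(Hd D a) →* Cfsg.PSU 6 F 2,
      ρ = φ.toMonoidHom.comp (QuotientGroup.mk' _) := ⟨_, rfl⟩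
  have hρa : ∀ x, ρ x = φ (QuotientGroup.mk x) := fun x => by rw [hρ]; rfl
  have hinj : ∀ x ∈ Dl D a, ∀ y ∈ Dl D a, ρ x = ρ y → x = y := fun x hx y hy h =>
    hsep x hx y hy (φ.injective (by rwa [hρa, hρa] at h))
  obtain ⟨x₀, hx₀⟩ : E.Nonempty := by
    rw [Set.nonempty_iff_ne_empty]
    intro he
    have h := hEg.2.2
    rw [he, Subgroup.closure_empty] at h
    exact bot_ne_top h
  obtain ⟨v₀, hv₀, hv₀0, rfl⟩ := exists_vec hF hEg hx₀
  have hall : ∀ v : Fin 6 → F, ∃ x : G, ∀ (_ : v ≠ 0) (hv : Cfsg.hermForm 6 F 2 v v = 0),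
      ∃ hx : x ∈ nb D a, ρ ⟨x, mem_Hd hx⟩ = QuotientGroup.mk' _ (tr hF hv) := by
    intro v
    by_cases hv : v ≠ 0 ∧ Cfsg.hermForm 6 F 2 v v = 0
    · obtain ⟨k, c, hk⟩ := exists_su_point hF hv₀0 hv.1 hv₀ hv.2
      have hc : c ≠ 0 := by
        rintro rfl
        rw [zero_smul] at hk
        exact mat_mulVec_ne_zero k hv₀0 hk
      obtain ⟨hcv, ecv⟩ := UnitaryPoints.tr_scale hF hv.2 hc
      have hmem : QuotientGroup.mk' (Subgroup.center (Cfsg.SU 6 F 2)) (tr hF hv.2) ∈ E := by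
        rw [← ecv, ← tr_conj hF k hv₀ hcv hk, map_mul, map_mul, map_inv]
        exact hEg.2.1 _ _ hx₀
      obtain ⟨_, ⟨x, hx, rfl⟩, hxe⟩ := hmem
      exact ⟨x, fun _ _ => ⟨hx, (hρa x).trans hxe⟩⟩
    · exact ⟨1, fun h1 h2 => absurd ⟨h1, h2⟩ hv⟩
  choose f hf using hall
  have hmem : ∀ v : Fin 6 → F, v ≠ 0 → Cfsg.hermForm 6 F 2 v v = 0 → f v ∈ nb D a :=
    fun v h0 hv => (hf v h0 hv).choose
  have himg : ∀ (v : Fin 6 → F) (h0 : v ≠ 0) (hv : Cfsg.hermForm 6 F 2 v v = 0),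
      ρ ⟨f v, mem_Hd (hmem v h0 hv)⟩ = QuotientGroup.mk' _ (tr hF hv) :=
    fun v h0 hv => (hf v h0 hv).choose_spec
  refine ⟨{ F := F
            hF := hF
            ρ := ρ
            surj := ?_
            ker := ?_
            inj := hinj
            f := f
            «mem» := hmem
            img := himg
            cover := ?_
            eq_iff := ?_
            comm_iff := ?_ }⟩
  · rw [hρ]; exact φ.surjective.comp (QuotientGroup.mk'_surjective _)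
  · ext x
    rw [MonoidHom.mem_ker, hρa, φ.map_eq_one_iff, QuotientGroup.eq_one_iff]
  · intro x hx
    obtain ⟨v, hv, hv0, he⟩ := exists_vec hF hEg
      (show φ (QuotientGroup.mk (⟨x, mem_Hd hx⟩ : ↥(Hd D a))) ∈ E from
        ⟨_, ⟨⟨x, mem_Hd hx⟩, hx, rfl⟩, rfl⟩)
    exact ⟨v, hv0, hv, congrArg Subtype.val (hinj ⟨f v, mem_Hd (hmem v hv0 hv)⟩ (hmem v hv0 hv)
      ⟨x, mem_Hd hx⟩ hx ((himg v hv0 hv).trans (he.symm.trans (hρa _).symm)))⟩
  · intro v w hv0 hv hw0 hw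
    constructor
    · intro e
      have h1 : ρ ⟨f v, mem_Hd (hmem v hv0 hv)⟩ = ρ ⟨f w, mem_Hd (hmem w hw0 hw)⟩ :=
        congrArg ρ (Subtype.ext e)
      rw [himg v hv0 hv, himg w hw0 hw] at h1
      have e' := Factor.UnitarySix.tr_eq_of_mk hF hv hw h1
      obtain ⟨x, -, hx⟩ := exists_sep hF (S := (∅ : Set (Fin 6 → F))) (v := w)
        (by simpa using hw0)
      have e'' := congrArg (fun g => mat g *ᵥ x) e'
      simp only [tr_mulVec, hx, one_smul, add_right_inj] at e''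
      exact ⟨_, e''.symm⟩
    · rintro ⟨c, hc⟩
      refine congrArg Subtype.val (hinj ⟨f v, mem_Hd (hmem v hv0 hv)⟩ (hmem v hv0 hv)
        ⟨f w, mem_Hd (hmem w hw0 hw)⟩ (hmem w hw0 hw) ?_)
      rw [himg v hv0 hv, himg w hw0 hw, Factor.UnitarySix.tr_eq_of_smul hF hv hw hw0 hc]
  · intro v w hv0 hv hw0 hw
    constructor
    · intro h
      refine Factor.UnitarySix.tr_comm_of_mk hF hv hw hv0 hw0 ?_
      rw [← himg v hv0 hv, ← himg w hw0 hw]
      exact (show Commute (⟨f v, _⟩ : ↥(Hd D a)) ⟨f w, _⟩ from Subtype.ext h.eq).map ρ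
    · intro h
      refine commute_Dl hD (x := ⟨f v, mem_Hd (hmem v hv0 hv)⟩)
        (y := ⟨f w, mem_Hd (hmem w hw0 hw)⟩) (hmem v hv0 hv) (hmem w hw0 hw) ?_
      have h1 := ((UnitaryPoints.tr_commute_iff hF hv hw hv0 hw0).2 h).map
        (QuotientGroup.mk' (Subgroup.center (Cfsg.SU 6 F 2)))
      rw [← himg v hv0 hv, ← himg w hw0 hw, hρa, hρa] at h1
      have h2 := h1.map φ.symm
      rwa [φ.symm_apply_apply, φ.symm_apply_apply] at h2

end

namespace Chart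

variable {a : G} (C : Chart D a)
include C

local notation "H" => Cfsg.hermForm 6 C.F 2

/-- The non-zero isotropic vectors orthogonal to a list. -/
def pts (l : List (Fin 6 → C.F)) : Set (Fin 6 → C.F) := {v | v ∈ Count.I l ∧ v ≠ 0}

theorem ncard_pts (l : List (Fin 6 → C.F)) :
    3 * (C.f '' C.pts l).ncard + 1 = (Count.I l).ncard := by
  rw [← Count.points C.hF C.f (P := C.pts l) (fun v hv => hv.2) ?_
    (fun v hv w hw => C.eq_iff v w hv.2 hv.1.2 hw.2 hw.1.2)]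
  · have h0 : (0 : Fin 6 → C.F) ∈ Count.I l :=
      ⟨fun w _ => H_zero_left w, H_zero_left 0⟩
    rw [show C.pts l = Count.I l \ {0} by ext v; simp [pts],
      Set.ncard_diff_singleton_add_one h0 (Set.toFinite _)]
  · rintro v ⟨⟨hv, hvv⟩, hv0⟩ c hc
    exact ⟨⟨Count.K_smul c hv, by rw [H_smul_left, H_smul_right, hvv, mul_zero, mul_zero]⟩,
      smul_ne_zero hc hv0⟩

theorem image_pts {l : List (Fin 6 → C.F)} (hl : ∀ w ∈ l, w ≠ 0 ∧ H w w = 0) :
    C.f '' C.pts l = {y | y ∈ nb D a ∧ ∀ w ∈ l, Commute y (C.f w)} := by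
  ext y
  constructor
  · rintro ⟨v, ⟨⟨hv, hvv⟩, hv0⟩, rfl⟩
    exact ⟨C.mem v hv0 hvv, fun w hw =>
      (C.comm_iff v w hv0 hvv (hl w hw).1 (hl w hw).2).2 (hv w hw)⟩
  · rintro ⟨hy, hc⟩
    obtain ⟨v, hv0, hvv, rfl⟩ := C.cover y hy
    exact ⟨v, ⟨⟨fun w hw => (C.comm_iff v w hv0 hvv (hl w hw).1 (hl w hw).2).1 (hc w hw), hvv⟩,
      hv0⟩, rfl⟩

theorem not_smul {v w : Fin 6 → C.F} (hv0 : v ≠ 0) (hv : H v v = 0) (hw0 : w ≠ 0)
    (hw : H w w = 0) (h : C.f v ≠ C.f w) : ∀ c : C.F, w ≠ c • v :=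
  fun c e => h ((C.eq_iff v w hv0 hv hw0 hw).2 ⟨c, e⟩)

theorem finite_nb : (nb D a).Finite :=
  ((Set.toFinite (Set.univ : Set (Fin 6 → C.F))).image C.f).subset fun x hx => by
    obtain ⟨v, -, -, rfl⟩ := C.cover x hx
    exact ⟨v, Set.mem_univ _, rfl⟩

theorem ncard_nb : (nb D a).ncard = 693 := by
  have h := C.ncard_pts []
  rw [C.image_pts (l := []) (by simp), Count.card_I_nil C.hF] at h
  rw [show nb D a = {y | y ∈ nb D a ∧ ∀ w ∈ ([] : List (Fin 6 → C.F)), Commute y (C.f w)} by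
    ext; simp]
  omega

theorem ncard_one {x : G} (hx : x ∈ nb D a) : (nb D a ∩ nb D x).ncard = 180 := by
  obtain ⟨u, hu0, hu, rfl⟩ := C.cover x hx
  have h := C.ncard_pts [u]
  rw [C.image_pts (l := [u]) (by simp [hu0, hu]), (Count.one C.hF hu hu0).2] at h
  have hset : {y | y ∈ nb D a ∧ ∀ w ∈ [u], Commute y (C.f w)} =
      insert (C.f u) (nb D a ∩ nb D (C.f u)) := by
    ext y
    simp only [List.mem_singleton, forall_eq, Set.mem_setOf_eq, Set.mem_insert_iff, Set.mem_inter_iff]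
    constructor
    · rintro ⟨hy, hc⟩
      by_cases e : y = C.f u
      · exact Or.inl e
      · exact Or.inr ⟨hy, hy.1, e, hc.symm⟩
    · rintro (rfl | ⟨hy, -, -, hc⟩)
      · exact ⟨hx, Commute.refl _⟩
      · exact ⟨hy, hc.symm⟩
  rw [hset, Set.ncard_insert_of_notMem (fun h => h.2.2.1 rfl)
    (C.finite_nb.subset Set.inter_subset_left)] at h
  omega

theorem ncard_two {x z : G} (hx : x ∈ nb D a) (hz : z ∈ nb D a) (hne : x ≠ z)
    (hc : Commute x z) : (nb D a ∩ nb D x ∩ nb D z).ncard = 51 := by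
  obtain ⟨u, hu0, hu, rfl⟩ := C.cover x hx
  obtain ⟨v, hv0, hv, rfl⟩ := C.cover z hz
  have h := C.ncard_pts [v, u]
  rw [C.image_pts (l := [v, u]) (by simp [hu0, hu, hv0, hv]),
    Count.two_perp C.hF hu hv hu0 (C.not_smul hu0 hu hv0 hv hne)
      ((C.comm_iff v u hv0 hv hu0 hu).1 hc.symm)] at h
  have hset : {y | y ∈ nb D a ∧ ∀ w ∈ [v, u], Commute y (C.f w)} =
      insert (C.f u) (insert (C.f v) (nb D a ∩ nb D (C.f u) ∩ nb D (C.f v))) := by
    ext y
    simp only [List.mem_cons, List.not_mem_nil, or_false, forall_eq_or_imp, forall_eq,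
      Set.mem_setOf_eq, Set.mem_insert_iff, Set.mem_inter_iff]
    constructor
    · rintro ⟨hy, hcv, hcu⟩
      by_cases e : y = C.f u
      · exact Or.inl e
      by_cases e' : y = C.f v
      · exact Or.inr (Or.inl e')
      exact Or.inr (Or.inr ⟨⟨hy, hy.1, e, hcu.symm⟩, hy.1, e', hcv.symm⟩)
    · rintro (rfl | rfl | ⟨⟨hy, -, -, hcu⟩, -, -, hcv⟩)
      · exact ⟨hx, hc, Commute.refl _⟩
      · exact ⟨hz, Commute.refl _, hc.symm⟩
      · exact ⟨hy, hcv.symm, hcu.symm⟩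
  have hfin : (nb D a ∩ nb D (C.f u) ∩ nb D (C.f v)).Finite :=
    C.finite_nb.subset (Set.inter_subset_left.trans Set.inter_subset_left)
  rw [hset, Set.ncard_insert_of_notMem ?_ (hfin.insert _),
    Set.ncard_insert_of_notMem (fun h => h.2.2.1 rfl) hfin] at h
  · omega
  · rintro (e | h')
    · exact hne e
    · exact h'.1.2.2.1 rfl

theorem image_cross {u v : Fin 6 → C.F} (hu0 : u ≠ 0) (hu : H u u = 0) (hv0 : v ≠ 0)
    (hv : H v v = 0) (hnc : ¬ Commute (C.f u) (C.f v)) :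
    C.f '' C.pts [v, u] = nb D a ∩ nb D (C.f u) ∩ nb D (C.f v) := by
  rw [C.image_pts (l := [v, u]) (by simp [hu0, hu, hv0, hv])]
  ext y
  simp only [List.mem_cons, List.not_mem_nil, or_false, forall_eq_or_imp, forall_eq,
    Set.mem_setOf_eq, Set.mem_inter_iff]
  constructor
  · rintro ⟨hy, hcv, hcu⟩
    exact ⟨⟨hy, hy.1, fun e => hnc (e ▸ hcv), hcu.symm⟩, hy.1, fun e => hnc (e ▸ hcu).symm,
      hcv.symm⟩
  · rintro ⟨⟨hy, -, -, hcu⟩, -, -, hcv⟩
    exact ⟨hy, hcv.symm, hcu.symm⟩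

theorem ncard_cross {x z : G} (hx : x ∈ nb D a) (hz : z ∈ nb D a) (hnc : ¬ Commute x z) :
    (nb D a ∩ nb D x ∩ nb D z).ncard = 45 := by
  obtain ⟨u, hu0, hu, rfl⟩ := C.cover x hx
  obtain ⟨v, hv0, hv, rfl⟩ := C.cover z hz
  have h := C.ncard_pts [v, u]
  rw [C.image_cross hu0 hu hv0 hv hnc, Count.two_cross C.hF hu hu0
    (fun e => hnc ((C.comm_iff u v hu0 hu hv0 hv).2 e))] at h
  omega

theorem ncard_three {x z y : G} (hx : x ∈ nb D a) (hz : z ∈ nb D a) (hnc : ¬ Commute x z)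
    (hy : y ∈ nb D a ∩ nb D x ∩ nb D z) :
    (nb D a ∩ nb D x ∩ nb D z ∩ nb D y).ncard = 12 := by
  obtain ⟨u, hu0, hu, rfl⟩ := C.cover x hx
  obtain ⟨v, hv0, hv, rfl⟩ := C.cover z hz
  obtain ⟨b, hb0, hb, rfl⟩ := C.cover y hy.1.1
  have h := C.ncard_pts [b, v, u]
  have hbu : H b u = 0 := (C.comm_iff b u hb0 hb hu0 hu).1 hy.1.2.2.2.symm
  have hbv : H b v = 0 := (C.comm_iff b v hb0 hb hv0 hv).1 hy.2.2.2.symm
  rw [C.image_pts (l := [b, v, u]) (by simp [hu0, hu, hv0, hv, hb0, hb]), Count.three_cross C.hF hu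
    hv hu0 (fun e => hnc ((C.comm_iff u v hu0 hu hv0 hv).2 e)) hb hb0 hbu hbv] at h
  have hset : {y | y ∈ nb D a ∧ ∀ w ∈ [b, v, u], Commute y (C.f w)} =
      insert (C.f b) (nb D a ∩ nb D (C.f u) ∩ nb D (C.f v) ∩ nb D (C.f b)) := by
    ext y
    simp only [List.mem_cons, List.not_mem_nil, or_false, forall_eq_or_imp, forall_eq,
      Set.mem_setOf_eq, Set.mem_insert_iff, Set.mem_inter_iff]
    constructor
    · rintro ⟨hy, hcb, hcv, hcu⟩
      by_cases e : y = C.f b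
      · exact Or.inl e
      exact Or.inr ⟨⟨⟨hy, hy.1, fun e => hnc (e ▸ hcv), hcu.symm⟩, hy.1,
        fun e => hnc (e ▸ hcu).symm, hcv.symm⟩, hy.1, e, hcb.symm⟩
    · rintro (rfl | ⟨⟨⟨hy, -, -, hcu⟩, -, -, hcv⟩, -, -, hcb⟩)
      · exact ⟨hy.1.1, Commute.refl _, hy.2.2.2.symm, hy.1.2.2.2.symm⟩
      · exact ⟨hy, hcb.symm, hcv.symm, hcu.symm⟩
  rw [hset, Set.ncard_insert_of_notMem (fun h => h.2.2.1 rfl) (C.finite_nb.subset
    ((Set.inter_subset_left.trans Set.inter_subset_left).trans Set.inter_subset_left))] at h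
  omega

variable (hD : Cfsg.IsThreeTranspositionGroup D)
include hD

omit C in
theorem conj_mem_nb {h x : G} (hh : Commute h a) (hx : x ∈ nb D a) :
    h * x * h⁻¹ ∈ nb D a := by
  have e : h * a * h⁻¹ = a := mul_inv_eq_iff_eq_mul.2 hh.eq
  refine ⟨hD.2.1 h x hx.1, fun e' => hx.2.1 ?_, ?_⟩
  · exact mul_left_cancel (mul_right_cancel (e'.trans e.symm))
  · have := (Basic.commute_conj (g := h)).2 hx.2.2
    rwa [e] at this

theorem f_conj {h : ↥(Hd D a)} {g : Cfsg.SU 6 C.F 2}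
    (hg : C.ρ h = QuotientGroup.mk' _ g) {v : Fin 6 → C.F} (hv0 : v ≠ 0) (hv : H v v = 0) :
    (h : G) * C.f v * (h : G)⁻¹ = C.f (mat g *ᵥ v) := by
  have hgv0 : mat g *ᵥ v ≠ 0 := mat_mulVec_ne_zero g hv0
  have hgv : H (mat g *ᵥ v) (mat g *ᵥ v) = 0 := by rw [SU_H, hv]
  have hx : h * (⟨C.f v, mem_Hd (C.mem v hv0 hv)⟩ : ↥(Hd D a)) * h⁻¹ ∈ Dl D a :=
    conj_mem_nb hD (Hd_commute h.2).symm (C.mem v hv0 hv)
  refine congrArg Subtype.val (C.inj _ hx ⟨_, mem_Hd (C.mem _ hgv0 hgv)⟩ (C.mem _ hgv0 hgv) ?_)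
  rw [map_mul, map_mul, map_inv, C.img v hv0 hv, C.img _ hgv0 hgv, hg, ← map_inv, ← map_mul,
    ← map_mul, tr_conj C.hF g hv hgv rfl]

theorem hull {x z y : G} (hx : x ∈ nb D a) (hz : z ∈ nb D a) (hnc : ¬ Commute x z)
    (hy : y ∈ nb D a) (hcomm : ∀ t ∈ nb D a ∩ nb D x ∩ nb D z, Commute y t) :
    y = x ∨ y = z ∨ y = x * z * x := by
  obtain ⟨u, hu0, hu, rfl⟩ := C.cover x hx
  obtain ⟨v, hv0, hv, rfl⟩ := C.cover z hz
  obtain ⟨w, hw0, hw, rfl⟩ := C.cover y hy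
  have huv : H u v ≠ 0 := fun e => hnc ((C.comm_iff u v hu0 hu hv0 hv).2 e)
  have hspan : w ∈ Submodule.span C.F ({v, u} : Set (Fin 6 → C.F)) := by
    refine Count.hull C.hF hu hu0 huv fun t htt htu htv => ?_
    by_cases ht0 : t = 0
    · rw [ht0, H_zero_left]
    have ht : C.f t ∈ nb D a ∩ nb D (C.f u) ∩ nb D (C.f v) := by
      rw [← C.image_cross hu0 hu hv0 hv hnc]
      exact ⟨t, ⟨⟨by simp [Count.K, htu, htv], htt⟩, ht0⟩, rfl⟩
    exact (C.comm_iff t w ht0 htt hw0 hw).1 (hcomm _ ht).symm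
  obtain ⟨α, β, hαβ⟩ := Factor.UnitarySix.mem_span_two hspan
  by_cases hα : α = 0
  · left
    exact ((C.eq_iff u w hu0 hu hw0 hw).2 ⟨β, by rw [hαβ, hα, zero_smul, zero_add]⟩).symm
  by_cases hβ : β = 0
  · right; left
    exact ((C.eq_iff v w hv0 hv hw0 hw).2 ⟨α, by rw [hαβ, hβ, zero_smul, add_zero]⟩).symm
  right; right
  have hgx := C.img u hu0 hu
  have h2 := two_zero C.hF
  obtain ⟨t, ht⟩ : ∃ t, t = H v u := ⟨_, rfl⟩
  have ht0 : t ≠ 0 := fun e => huv ((H_eq_zero_comm C.hF).1 (ht ▸ e))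
  have hconj := C.f_conj hD hgx hv0 hv
  have hinv : (C.f u)⁻¹ = C.f u := Classes.inv hD hx.1
  rw [show ((⟨C.f u, mem_Hd (C.mem u hu0 hu)⟩ : ↥(Hd D a)) : G) = C.f u from rfl, hinv,
    tr_mulVec, ← ht] at hconj
  rw [hconj]
  have hu' : v + t • u ≠ 0 := by
    rw [ht, ← tr_mulVec C.hF hu]
    exact mat_mulVec_ne_zero _ hv0
  have hu'' : H (v + t • u) (v + t • u) = 0 := by rw [ht, ← tr_mulVec C.hF hu, SU_H, hv]
  refine ((C.eq_iff (v + t • u) w hu' hu'' hw0 hw).2 ⟨α, ?_⟩).symm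
  have hwu : H u v = t ^ 2 := by rw [ht, H_conj C.hF]
  have h0 := hw
  rw [hαβ] at h0
  simp only [H_add_left, H_add_right C.hF, H_smul_left, H_smul_right, hu, hv, ← ht, hwu] at h0
  have hs : α * β ^ 2 * t + (α * β ^ 2 * t) ^ 2 = 0 := by
    linear_combination h0 + (α ^ 2 * β * t ^ 2) * (cube C.hF hβ)
  have h1 : α * β ^ 2 * t = 1 := by
    have h3 : α * β ^ 2 * t * (1 + α * β ^ 2 * t) = 0 := by linear_combination hs
    linear_combination (mul_eq_zero.1 h3).resolve_left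
      (mul_ne_zero (mul_ne_zero hα (pow_ne_zero _ hβ)) ht0) - h2
  have hβeq : β = α * t := by
    linear_combination (-β) * h1 + (α * t) * cube C.hF hβ
  rw [hαβ, hβeq, smul_add, smul_smul]

theorem le_twenty_one {E : Set G} (hE : E ⊆ nb D a) (hc : ∀ x ∈ E, ∀ y ∈ E, Commute x y) :
    E.ncard ≤ 21 := by
  set P : Set (Fin 6 → C.F) := {v | v ≠ 0 ∧ H v v = 0 ∧ C.f v ∈ E} with hP
  have himg : C.f '' P = E := by
    ext x
    constructor
    · rintro ⟨v, hv, rfl⟩; exact hv.2.2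
    · intro hx
      obtain ⟨v, h0, hv, rfl⟩ := C.cover x (hE hx)
      exact ⟨v, ⟨h0, hv, hx⟩, rfl⟩
  have h3 := Count.points C.hF C.f (P := P) (fun v hv => hv.1) ?_
    (fun v hv w hw => C.eq_iff v w hv.1 hv.2.1 hw.1 hw.2.1)
  · obtain ⟨p, q, r, hspan⟩ := Count.plane C.hF (S := P) fun v hv w hw =>
      (C.comm_iff v w hv.1 hv.2.1 hw.1 hw.2.1).1 (hc _ hv.2.2 _ hw.2.2)
    set φ : C.F × C.F × C.F → (Fin 6 → C.F) := fun s => s.1 • p + s.2.1 • q + s.2.2 • r with hφ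
    have hsub : insert 0 P ⊆ φ '' Set.univ := by
      rintro v (rfl | hv)
      · exact ⟨0, trivial, by simp [hφ]⟩
      · obtain ⟨x, y, z, h⟩ := Submodule.mem_span_triple.1 (hspan v hv)
        exact ⟨(x, y, z), trivial, h⟩
    have hle := (Set.ncard_le_ncard hsub (Set.toFinite _)).trans (Set.ncard_image_le (Set.toFinite _))
    rw [Set.ncard_insert_of_notMem (fun h => h.1 rfl) (Set.toFinite _), Set.ncard_univ,
      Nat.card_prod, Nat.card_prod, Count.natCard_F C.hF] at hle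
    rw [himg] at h3
    omega
  · rintro v ⟨hv0, hv, hvE⟩ c hc
    have hcv : H (c • v) (c • v) = 0 := by rw [H_smul_left, H_smul_right, hv, mul_zero, mul_zero]
    exact ⟨smul_ne_zero hc hv0, hcv,
      (C.eq_iff v (c • v) hv0 hv (smul_ne_zero hc hv0) hcv).2 ⟨c, rfl⟩ ▸ hvE⟩

omit hD in
theorem exists_twenty_one : ∃ E ⊆ nb D a, (∀ x ∈ E, ∀ y ∈ E, Commute x y) ∧ E.ncard = 21 := by
  set φ : C.F × C.F × C.F → (Fin 6 → C.F) :=
    fun s => ![s.1, s.1, s.2.1, s.2.1, s.2.2, s.2.2] with hφ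
  have h2 := two_zero C.hF
  have hperp : ∀ s t, H (φ s) (φ t) = 0 := by
    intro s t
    simp only [Cfsg.hermForm, hφ, Fin.sum_univ_six, Matrix.cons_val]
    linear_combination (s.1 * t.1 ^ 2 + s.2.1 * t.2.1 ^ 2 + s.2.2 * t.2.2 ^ 2) * h2
  have hφi : Function.Injective φ := fun s t h => Prod.ext (congrFun h 0)
    (Prod.ext (congrFun h 2) (congrFun h 4))
  have hφ0 : φ 0 = 0 := by funext i; fin_cases i <;> simp [hφ]
  set P : Set (Fin 6 → C.F) := φ '' {0}ᶜ with hP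
  have hP0 : ∀ v ∈ P, v ≠ 0 ∧ H v v = 0 := by
    rintro _ ⟨s, hs, rfl⟩
    exact ⟨fun e => hs (hφi (e.trans hφ0.symm)), hperp s s⟩
  refine ⟨C.f '' P, ?_, ?_, ?_⟩
  · rintro _ ⟨v, hv, rfl⟩
    exact C.mem v (hP0 v hv).1 (hP0 v hv).2
  · rintro _ ⟨v, hv, rfl⟩ _ ⟨w, hw, rfl⟩
    refine (C.comm_iff v w (hP0 v hv).1 (hP0 v hv).2 (hP0 w hw).1 (hP0 w hw).2).2 ?_
    obtain ⟨s, -, rfl⟩ := hv
    obtain ⟨t, -, rfl⟩ := hw
    exact hperp s t
  · have h := Count.points C.hF C.f (P := P) (fun v hv => (hP0 v hv).1) ?_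
      (fun v hv w hw => C.eq_iff v w (hP0 v hv).1 (hP0 v hv).2 (hP0 w hw).1 (hP0 w hw).2)
    · rw [hP, Set.ncard_image_of_injective _ hφi] at h
      have hc := Set.ncard_add_ncard_compl ({0} : Set (C.F × C.F × C.F))
      rw [Set.ncard_singleton, Nat.card_prod, Nat.card_prod, Count.natCard_F C.hF] at hc
      rw [hP]
      omega
    · rintro _ ⟨s, hs, rfl⟩ c hc
      refine ⟨(c * s.1, c * s.2.1, c * s.2.2), fun e => hs ?_, ?_⟩
      · simp only [Set.mem_singleton_iff, Prod.ext_iff, Prod.fst_zero, Prod.snd_zero,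
          mul_eq_zero, hc, false_or] at e ⊢
        exact e
      · funext i; fin_cases i <;> simp [hφ]

end Chart

section

variable [Finite G] (hD : Cfsg.IsThreeTranspositionGroup D)
  (hprim : Cfsg.IsPrimitiveUnderConj D) (h22 : Cfsg.IsOfTypeM22 G D)
include hD hprim h22

/-- Two different commuting members exist. -/
theorem exists_commuting : ∃ a ∈ D, ∃ b ∈ D, a ≠ b ∧ Commute a b := by
  obtain ⟨a, ha, -⟩ := hprim.2.1
  obtain ⟨C⟩ := exists_chart hD h22 ha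
  obtain ⟨b, hb⟩ := Set.nonempty_of_ncard_ne_zero (C.ncard_nb.trans_ne (by norm_num : (693 : ℕ) ≠ 0))
  exact ⟨a, ha, b, hb.1, Ne.symm hb.2.1, hb.2.2⟩

/-- Every member is a product of members commuting with it. -/
theorem mem_Hd_self {a : G} (ha : a ∈ D) : a ∈ Hd D a := by
  obtain ⟨C⟩ := exists_chart hD h22 ha
  obtain ⟨b, hb⟩ := Set.nonempty_of_ncard_ne_zero (C.ncard_nb.trans_ne (by norm_num : (693 : ℕ) ≠ 0))
  obtain ⟨c, hc, hcb⟩ := Set.nonempty_of_ncard_ne_zero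
    ((C.ncard_one hb).trans_ne (by norm_num : (180 : ℕ) ≠ 0))
  obtain ⟨x, y, z, hx, hy, hz, -, -, -, he⟩ := Factor.exists_other hD hprim h22 ha hb.1 hc.1
    (Ne.symm hb.2.1) (Ne.symm hc.2.1) (Ne.symm hcb.2.1) hb.2.2 hc.2.2 hcb.2.2
  have hm : ∀ q, Factor.Third D a b c q → q ∈ Hd D a := fun q hq =>
    mem_Hd ⟨hq.1, hq.2.1.1, hq.2.2.1.1.symm⟩
  have : a = x * y * z * c⁻¹ * b⁻¹ := by rw [← he]; group
  have hp := mul_mem (mul_mem (mul_mem (mul_mem (hm x hx) (hm y hy)) (hm z hz))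
    (inv_mem (mem_Hd hc))) (inv_mem (mem_Hd hb))
  rwa [← this] at hp

theorem loc_eq {a : G} (ha : a ∈ D) : loc D a = Hd D a := by
  refine le_antisymm ((Subgroup.closure_le _).2 fun y hy => ?_)
    (Subgroup.closure_mono fun y hy => ⟨hy.1, hy.2.2⟩)
  by_cases e : y = a
  · rw [e]; exact mem_Hd_self hD hprim h22 ha
  · exact mem_Hd ⟨hy.1, e, hy.2⟩

/-- Nothing but the member centralises its local subgroup. -/
theorem centralizes_loc {a z : G} (ha : a ∈ D) (hz : ∀ h ∈ loc D a, Commute z h) :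
    z = 1 ∨ z = a := by
  have hw := exists_commuting hD hprim h22
  obtain ⟨c, hc, hac⟩ := Classes.exists_noncomm hD hprim.1 hprim.2.1 ha
  obtain ⟨x, hx, hax, hxc⟩ := RankThree.exists_common hD hprim hw ha hc hac
  have hxa : x ≠ a := fun e => hac (e ▸ hxc)
  have hxc' : x ≠ c := fun e => hac (e ▸ hax)
  obtain ⟨C⟩ := exists_chart hD h22 hx
  have hza : Commute z a := hz a (RankThree.mem_loc ha (Commute.refl a))
  have hzx : Commute z x := hz x (RankThree.mem_loc hx hax)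
  have hzc : z * c * z⁻¹ ∈ nb D x :=
    Chart.conj_mem_nb hD hzx ⟨hc, Ne.symm hxc', hxc⟩
  have key := C.hull hD (x := a) (z := c) (y := z * c * z⁻¹) ⟨ha, hxa.symm, hax.symm⟩
    ⟨hc, Ne.symm hxc', hxc⟩ hac hzc (by
      rintro t ⟨⟨-, ht⟩, htc⟩
      have hzt : z * t * z⁻¹ = t := mul_inv_eq_iff_eq_mul.2 (hz t (RankThree.mem_loc ht.1 ht.2.2)).eq
      have := (Basic.commute_conj (g := z)).2 htc.2.2
      rwa [hzt] at this)
  have main : ∀ w : G, (∀ h ∈ loc D a, Commute w h) → Commute w c → w = 1 := by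
    intro w hw1 hw2
    rw [← Subgroup.mem_bot, ← h22.1, Subgroup.mem_center_iff]
    intro g
    have hle : Subgroup.closure ({y : G | y ∈ D ∧ Commute a y} ∪ {c}) ≤
        Subgroup.centralizer ({w} : Set G) := by
      rw [Subgroup.closure_le]
      rintro y hy
      rw [SetLike.mem_coe, Subgroup.mem_centralizer_iff]
      rintro _ rfl
      rcases hy with hy | rfl
      · exact (hw1 y (RankThree.mem_loc hy.1 hy.2)).eq
      · exact hw2.eq
    rw [RankThree.closure_eq_top hD hprim hw ha hc hac] at hle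
    exact (Subgroup.mem_centralizer_iff.1 (hle (Subgroup.mem_top g)) w rfl).symm
  rcases key with h | h | h
  · exfalso
    refine hac ?_
    have e : z * a * z⁻¹ = a := mul_inv_eq_iff_eq_mul.2 hza.eq
    exact (mul_left_cancel (mul_right_cancel (h.trans e.symm))) ▸ Commute.refl a
  · exact Or.inl (main z hz (mul_inv_eq_iff_eq_mul.1 h))
  · right
    have h1 := main (a * z) (fun t ht => ((RankThree.loc_commute ht)).mul_left (hz t ht)) (by
      show a * z * c = c * (a * z)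
      calc a * z * c = a * (z * c * z⁻¹) * z := by group
        _ = (a * a) * c * (a * z) := by rw [h]; simp [mul_assoc]
        _ = c * (a * z) := by rw [Classes.sq hD ha, one_mul])
    calc z = (a * a) * z := by rw [Classes.sq hD ha, one_mul]
      _ = a * (a * z) := mul_assoc _ _ _
      _ = a := by rw [h1, mul_one]

/-- The centre of the local subgroup. -/
theorem center_eq {a : G} (ha : a ∈ D) :
    Subgroup.center ↥(Hd D a) = (Subgroup.zpowers a).subgroupOf (Hd D a) := by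
  ext z
  rw [Subgroup.mem_subgroupOf]
  constructor
  · intro hz
    rcases centralizes_loc hD hprim h22 ha (z := (z : G)) (fun h hh => by
        rw [loc_eq hD hprim h22 ha] at hh
        exact (congrArg Subtype.val (Subgroup.mem_center_iff.1 hz ⟨h, hh⟩)).symm) with e | e
    · rw [e]; exact one_mem _
    · rw [e]; exact Subgroup.mem_zpowers a
  · intro hz
    rw [Subgroup.mem_center_iff]
    intro h
    obtain ⟨k, hk⟩ := Subgroup.mem_zpowers_iff.1 hz
    refine Subtype.ext ?_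
    simp only [Subgroup.coe_mul, ← hk]
    exact ((Hd_commute h.2).zpow_left k).eq.symm

theorem card_loc {a : G} (ha : a ∈ D) : Nat.card ↥(loc D a) = 18393661440 := by
  obtain ⟨C⟩ := exists_chart hD h22 ha
  rw [loc_eq hD hprim h22 ha,
    Subgroup.card_eq_card_quotient_mul_card_subgroup (Subgroup.center ↥(Hd D a)),
    Nat.card_congr ((QuotientGroup.quotientMulEquivOfEq C.ker.symm).trans
      (QuotientGroup.quotientKerEquivOfSurjective C.ρ C.surj)).toEquiv,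
    center_eq hD hprim h22 ha, Nat.card_congr (Subgroup.subgroupOfEquivOfLe
      (Subgroup.zpowers_le.2 (mem_Hd_self hD hprim h22 ha))).toEquiv, Nat.card_zpowers,
    hD.1.1 a ha]
  have h := natCard_PSU_mul (n := 6) (q := 2) (F := C.F) C.hF (by norm_num)
  rw [natCard_GU C.hF, show Nat.gcd 6 (2 + 1) = 3 from rfl] at h
  simp [Finset.prod_range_succ, Nat.even_iff] at h
  omega

/-- Local elements centralising a neighbour lie in the neighbour's local subgroup. -/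
theorem loc_inf {w a h : G} (hw : w ∈ D) (ha : a ∈ nb D w) (hh : h ∈ loc D w)
    (hha : Commute h a) : h ∈ loc D a := by
  obtain ⟨C⟩ := exists_chart hD h22 hw
  rw [loc_eq hD hprim h22 hw] at hh
  obtain ⟨v, hv0, hv, rfl⟩ := C.cover a ha
  obtain ⟨g, hg⟩ := QuotientGroup.mk'_surjective _ (C.ρ ⟨h, hh⟩)
  have e := C.f_conj hD (h := ⟨h, hh⟩) hg.symm hv0 hv
  rw [show h * C.f v * h⁻¹ = C.f v from mul_inv_eq_iff_eq_mul.2 hha.eq] at e
  obtain ⟨c, hc⟩ := (C.eq_iff v _ hv0 hv (mat_mulVec_ne_zero g hv0) (by rw [SU_H, hv])).1 e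
  obtain ⟨k, hk, hkg⟩ := Stab.point_stab C.hF hv hv0 hc
  set M : Subgroup ↥(Hd D w) := (loc D (C.f v)).subgroupOf (Hd D w) with hM
  have hkM : QuotientGroup.mk' _ k ∈ M.map C.ρ := by
    clear hkg hg e
    induction hk using Subgroup.closure_induction with
    | one => rw [map_one]; exact one_mem _
    | mul p q _ _ hp hq => rw [map_mul]; exact mul_mem hp hq
    | inv p _ hp => rw [map_inv]; exact inv_mem hp
    | mem t ht =>
      obtain ⟨u, hu, huv, rfl⟩ := ht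
      by_cases hu0 : u = 0
      · rw [show tr C.hF hu = 1 from SU_ext fun x => by
          rw [tr_mulVec, mat_one, one_mulVec, hu0, smul_zero, add_zero], map_one]
        exact one_mem _
      · exact ⟨⟨C.f u, mem_Hd (C.mem u hu0 hu)⟩, RankThree.mem_loc (C.mem u hu0 hu).1
          ((C.comm_iff u v hu0 hu hv0 hv).2 huv).symm, C.img u hu0 hu⟩
  rw [hkg, hg] at hkM
  obtain ⟨m, hm, hmh⟩ := hkM
  have hz : m⁻¹ * ⟨h, hh⟩ ∈ Subgroup.center ↥(Hd D w) := by
    rw [← C.ker, MonoidHom.mem_ker, map_mul, map_inv, hmh, inv_mul_cancel]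
  rw [center_eq hD hprim h22 hw, Subgroup.mem_subgroupOf] at hz
  have hwa : w ∈ loc D (C.f v) := RankThree.mem_loc hw ha.2.2.symm
  have := mul_mem (Subgroup.mem_subgroupOf.1 hm)
    ((Subgroup.zpowers_le.2 hwa) hz)
  simpa using this

end

end Cfsg.Agent.ThreeTransp.M22
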