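import Cfsg.Agent.Lib.ThreeTransp.OddSRG

/-!
The discriminant of a strongly regular graph whose eigenvalues are not conjugate surds is a square.
-/

set_option autoImplicit false

namespace Cfsg.Agent.ThreeTransp.M22.Discr

open Matrix Cfsg.Agent.ThreeTransp.OddSRG

/-- The discriminant of a strongly regular graph is a square unless the eigenvalue multiplicities
are equal. -/
theorem discr_square {V : Type*} [Fintype V] (Γ : SimpleGraph V) [DecidableRel Γ.Adj]
    {n k l μ : ℕ} (h : Γ.IsSRGWith n k l μ) (hkn : k < n) (hlk : l < k) (hμk : μ < k)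
    (hne : 2 * (k : ℤ) + ((n : ℤ) - 1) * ((l : ℤ) - μ) ≠ 0) :
    ∃ j : ℤ, ((l : ℤ) - μ) ^ 2 + 4 * ((k : ℤ) - μ) = j ^ 2 := by
  classical
  have hn : 0 < n := by omega
  set e : ℝ := (l : ℝ) - μ with he
  set Δ : ℝ := e ^ 2 + 4 * ((k : ℝ) - μ) with hΔ
  have hΔpos : 0 < Δ := by
    have : (μ : ℝ) < k := by exact_mod_cast hμk
    positivity
  set A := Γ.adjMatrix ℝ with hA
  set P : Matrix V V ℝ := Matrix.of fun _ _ => (1 : ℝ) / n with hP
  have hn0 : (n : ℝ) ≠ 0 := by positivity
  have hPP : P * P = P := by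
    ext v w
    simp only [hP, Matrix.mul_apply, Matrix.of_apply, Finset.sum_const, Finset.card_univ, h.card,
      nsmul_eq_mul]
    field_simp
  have hAP : A * P = (k : ℝ) • P := by
    ext v w
    simp [hA, hP, SimpleGraph.adjMatrix_mul_apply, h.regular v]
  have hPA : P * A = (k : ℝ) • P := by
    ext v w
    simp [hA, hP, SimpleGraph.mul_adjMatrix_apply, h.regular w]
  have hsq : A * A = ((k : ℝ) - μ) • (1 : Matrix V V ℝ) + e • A + ((μ : ℝ) * n) • P := by
    rw [← pow_two, hA, h.matrix_eq, ← Nat.cast_smul_eq_nsmul ℝ k, ← Nat.cast_smul_eq_nsmul ℝ μ,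
      ← Nat.cast_smul_eq_nsmul ℝ l, he]
    ext v w
    simp only [Matrix.add_apply, Matrix.smul_apply, SimpleGraph.adjMatrix_apply,
      SimpleGraph.compl_adj, hP, Matrix.of_apply, smul_eq_mul, Matrix.one_apply]
    by_cases e' : v = w
    · subst e'
      simp only [if_true, SimpleGraph.irrefl, if_false, ne_eq, not_true_eq_false, false_and]
      field_simp
      ring
    · by_cases ha : Γ.Adj v w <;>
        simp only [e', ha, if_true, if_false, ne_eq, not_false_eq_true, not_true_eq_false,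
          and_self, and_false] <;> field_simp <;> ring
  have hpar : (k : ℝ) * ((k : ℝ) - l - 1) = ((n : ℝ) - k - 1) * μ := by
    have h1 := h.param_eq Γ hn
    have h4 : ((k * (k - l - 1) : ℕ) : ℝ) = (((n - k - 1) * μ : ℕ) : ℝ) := by rw [h1]
    rw [Nat.cast_mul, Nat.cast_mul, Nat.cast_sub (by omega), Nat.cast_sub (by omega),
      Nat.cast_sub (by omega), Nat.cast_sub (by omega)] at h4
    push_cast at h4
    linarith
  set c : ℝ := 2 * k - e with hc
  set M := (2 : ℝ) • A - e • (1 : Matrix V V ℝ) - c • P with hM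
  have hMP : M * P = 0 := by
    rw [hM, sub_mul, sub_mul, smul_mul_assoc, smul_mul_assoc, smul_mul_assoc, hAP, one_mul, hPP,
      hc]
    module
  have hPM : P * M = 0 := by
    rw [hM, mul_sub, mul_sub, mul_smul_comm, mul_smul_comm, mul_smul_comm, hPA, mul_one, hPP, hc]
    module
  have hMM : M * M = Δ • (1 - P) := by
    calc M * M = M * ((2 : ℝ) • A - e • 1) - c • (M * P) := by
          conv_lhs => arg 2; rw [hM]
          rw [mul_sub, mul_smul_comm]
      _ = M * ((2 : ℝ) • A - e • 1) := by rw [hMP, smul_zero, sub_zero]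
      _ = (4 : ℝ) • (A * A) - (4 * e) • A + (e ^ 2) • 1 -
            ((2 * c) • (P * A) - (c * e) • P) := by
          rw [hM]
          simp only [sub_mul, mul_sub, smul_mul_assoc, mul_smul_comm, one_mul, mul_one,
            smul_sub, smul_smul]
          module
      _ = Δ • (1 - P) := by
          rw [hsq, hPA, hΔ, hc]
          match_scalars
          · ring
          · ring
          · linear_combination (-4 : ℝ) * hpar
  set s := Real.sqrt Δ with hs
  have hs0 : s ≠ 0 := by positivity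
  have hss : s * s = Δ := Real.mul_self_sqrt hΔpos.le
  have hEE : ((1 / 2 : ℝ) • (1 - P + s⁻¹ • M)) * ((1 / 2 : ℝ) • (1 - P + s⁻¹ • M)) =
      (1 / 2 : ℝ) • (1 - P + s⁻¹ • M) := by
    simp only [mul_add, add_mul, mul_sub, sub_mul, smul_mul_assoc, mul_smul_comm, one_mul, mul_one,
      smul_add, smul_sub, smul_smul, hPP, hPM, hMP, hMM, smul_zero]
    match_scalars
    all_goals field_simp
    all_goals nlinarith [hss]
  obtain ⟨r, hr⟩ := trace_idem hEE
  have htrP : P.trace = 1 := by
    simp [hP, Matrix.trace, h.card]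
    field_simp
  have htrM : M.trace = -(((n : ℝ) - 1) * e) - 2 * k := by
    rw [hM, Matrix.trace_sub, Matrix.trace_sub, Matrix.trace_smul, Matrix.trace_smul,
      Matrix.trace_smul, htrP, Matrix.trace_one, hA, SimpleGraph.trace_adjMatrix, h.card, hc]
    simp only [smul_eq_mul]
    ring
  rw [Matrix.trace_smul, Matrix.trace_add, Matrix.trace_sub, Matrix.trace_smul, htrP,
    Matrix.trace_one, h.card, htrM] at hr
  set z : ℤ := 2 * (r : ℤ) - ((n : ℤ) - 1) with hz
  set T : ℤ := -(((n : ℤ) - 1) * ((l : ℤ) - μ)) - 2 * k with hT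
  have hzs : (z : ℝ) * s = (T : ℝ) := by
    rw [hz, hT]
    push_cast
    simp only [smul_eq_mul] at hr
    rw [← he]
    field_simp at hr
    linarith
  have hz0 : z ≠ 0 := by
    intro e'
    rw [e', Int.cast_zero, zero_mul] at hzs
    have hT0 : T = 0 := by exact_mod_cast hzs.symm
    exact hne (by rw [hT] at hT0; linarith)
  have hsq2 : z ^ 2 * (((l : ℤ) - μ) ^ 2 + 4 * ((k : ℤ) - μ)) = T ^ 2 := by
    have : ((z : ℝ)) ^ 2 * Δ = (T : ℝ) ^ 2 := by rw [← hzs, ← hss]; ring
    rw [hΔ, he] at this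
    exact_mod_cast this
  obtain ⟨q, hq⟩ := (Int.pow_dvd_pow_iff two_ne_zero).1 ⟨_, hsq2.symm⟩
  refine ⟨q, ?_⟩
  rw [hq, mul_pow] at hsq2
  exact mul_left_cancel₀ (pow_ne_zero 2 hz0) hsq2

end Cfsg.Agent.ThreeTransp.M22.Discr
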