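import Cfsg.Agent.Lib.ThreeTransp.Ortho3
import Cfsg.Agent.Lib.Forms.Disc

/-!
A projective reflection group of a six-dimensional orthogonal space of discriminant one over the
field with three elements has order divisible by seven.
-/

set_option autoImplicit false

namespace Cfsg.Agent.ThreeTransp.M22.Seven

open Matrix Cfsg.Agent.Forms Cfsg.Agent.Forms.QuadStd Cfsg.Agent.Forms.Reflections
  Cfsg.Agent.Forms.Spinor

local notation "V₆" => (Fin 6 → ZMod 3)

/-- The polar form of the sum of seven squares on the hyperplane of sum zero. -/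
def Mmat : Matrix (Fin 6) (Fin 6) (ZMod 3) := fun i j => if i = j then 1 else 2

/-- The cyclic shift of the seven coordinates. -/
def Pmat : Matrix (Fin 6) (Fin 6) (ZMod 3) :=
  !![2, 2, 2, 2, 2, 2; 1, 0, 0, 0, 0, 0; 0, 1, 0, 0, 0, 0; 0, 0, 1, 0, 0, 0; 0, 0, 0, 1, 0, 0;
    0, 0, 0, 0, 1, 0]

theorem Pmat_pow : Pmat * Pmat ^ 6 = 1 := by decide +kernel

theorem Pmat_pow' : Pmat ^ 6 * Pmat = 1 := by decide +kernel

theorem Pmat_M : Pmatᵀ * Mmat * Pmat = Mmat := by decide +kernel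

theorem Mmat_det : Mmat.det = 1 := by decide +kernel

/-- The shift as a linear automorphism. -/
noncomputable def σ : V₆ ≃ₗ[ZMod 3] V₆ :=
  LinearEquiv.ofLinearMap (Matrix.toLin' Pmat) (Matrix.toLin' (Pmat ^ 6))
    (by rw [← Matrix.toLin'_mul, Pmat_pow, Matrix.toLin'_one])
    (by rw [← Matrix.toLin'_mul, Pmat_pow', Matrix.toLin'_one])

theorem σ_apply (x : V₆) : σ x = Pmat *ᵥ x := rfl

/-- A group isomorphic to the projective reflection group has order divisible by seven. -/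
theorem seven_dvd {X : Type*} [Group X] [Finite X] {c : ZMod 3} (hc : c ≠ 0)
    (h : Cfsg.IsProjReflectionGroupModThree X 6 1 c) : 7 ∣ Nat.card X := by
  classical
  obtain ⟨Q, hQ, hμ, ⟨φ⟩⟩ := h
  set B : LinearMap.BilinForm (ZMod 3) V₆ := QuadraticMap.polarBilin Q with hB
  set B' : LinearMap.BilinForm (ZMod 3) V₆ := Matrix.toBilin' Mmat with hB'
  have hB'a : ∀ x y, B' x y = x ⬝ᵥ (Mmat *ᵥ y) := fun x y => Matrix.toBilin'_apply' Mmat x y
  have hBS : B.IsSymm := ⟨fun x y => by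
    simp only [hB, QuadraticMap.polarBilin_apply_apply, QuadraticMap.polar_comm]⟩
  have hB'S : B'.IsSymm := ⟨fun x y => by
    rw [hB'a, hB'a, Matrix.dotProduct_mulVec, ← Matrix.mulVec_transpose, dotProduct_comm,
      show Mmatᵀ = Mmat from by decide +kernel]⟩
  have hB'n : B'.Nondegenerate :=
    LinearMap.BilinForm.nondegenerate_toBilin'_iff_det_ne_zero.2
      (by rw [Mmat_det]; exact one_ne_zero)
  have hg : (Disc.gram B (Pi.basisFun (ZMod 3) (Fin 6))).det = 1 := by
    rw [← hμ, Cfsg.polarGramDet]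
    congr 1
    ext i j
    simp [Disc.gram, hB, Pi.basisFun_apply]
  have hg' : (Disc.gram B' (Pi.basisFun (ZMod 3) (Fin 6))).det = 1 := by
    rw [← Mmat_det]
    congr 1
    ext i j
    simp [Disc.gram, hB', Matrix.toBilin'_single, Pi.basisFun_apply]
  obtain ⟨e, he⟩ := Disc.exists_isometry Ortho3.two_ne B hBS hQ B' hB'S hB'n rfl
    (Pi.basisFun (ZMod 3) (Fin 6)) (Pi.basisFun (ZMod 3) (Fin 6))
    (by rw [hg, hg']; exact ⟨1, rfl⟩)
  have hQB : ∀ x, Q x = 2 * B x x := fun x => by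
    simp only [hB, QuadraticMap.polarBilin_apply_apply, QuadraticMap.polar_self, nsmul_eq_mul]
    generalize Q x = t
    revert t
    decide
  have hσB : ∀ x y, B' (σ x) (σ y) = B' x y := fun x y => by
    rw [hB'a, hB'a, σ_apply, σ_apply, Matrix.mulVec_mulVec, ← Matrix.vecMul_transpose,
      ← Matrix.dotProduct_mulVec, Matrix.mulVec_mulVec, ← Matrix.mul_assoc, Pmat_M]
  set T : V₆ ≃ₗ[ZMod 3] V₆ := (e.trans σ).trans e.symm with hT
  have hTe : ∀ x, e (T x) = σ (e x) := fun x => by simp [hT]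
  have hTB : ∀ x y, B (T x) (T y) = B x y := fun x y => by
    rw [← he, hTe, hTe, hσB, he]
  have hTQ : ∀ x, Q (T x) = Q x := fun x => by rw [hQB, hQB, hTB]
  set R := Cfsg.reflectionSubgroup (⇑Q) c with hR
  obtain ⟨g, hg0⟩ : ∃ g, g = isoOfEquiv (⇑Q) T hTQ := ⟨_, rfl⟩
  have hga : ∀ x, ((g : Matrix.GeneralLinearGroup (Fin 6) (ZMod 3)) :
      Matrix (Fin 6) (Fin 6) (ZMod 3)) *ᵥ x = T x := fun x => by
    rw [hg0, isoOfEquiv_mulVec]
  have hpow : ∀ (k : ℕ) x, e ((((g ^ k : ↥(Cfsg.isometryGroup (ZMod 3) (⇑Q))) :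
      Matrix.GeneralLinearGroup (Fin 6) (ZMod 3)) : Matrix (Fin 6) (Fin 6) (ZMod 3)) *ᵥ x) =
      (Pmat ^ k) *ᵥ e x := by
    intro k
    induction k with
    | zero => intro x; simp
    | succ k ih => intro x; rw [pow_succ', mul_mulVec_iso, hga, hTe, ih, σ_apply, pow_succ',
        Matrix.mulVec_mulVec]
  have hg7 : g ^ 7 = 1 := by
    refine iso_ext fun x => e.injective ?_
    rw [hpow, pow_succ', Pmat_pow, Matrix.one_mulVec]
    simp
  have hgR : g ∈ R := by
    have h2 : g = (g ^ 4) ^ 2 := by rw [← pow_mul, show 4 * 2 = 7 + 1 by rfl, pow_succ, hg7, one_mul]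
    rw [h2]
    exact Subgroup.sq_mem_of_index_two (Ortho3.index_two (by norm_num) hQ hc) _
  have hnz : (⟨g, hgR⟩ : ↥R) ∉ Subgroup.center ↥R := by
    intro hz
    have hw : ∀ c : ZMod 3, c ≠ 0 → ∃ w : V₆, 2 * (w ⬝ᵥ (Mmat *ᵥ w)) = c ∧
        w ⬝ᵥ (Mmat *ᵥ (Pmat *ᵥ w)) = 0 := by
      intro c hc
      rcases (show c = 1 ∨ c = 2 by revert c; decide) with rfl | rfl
      · exact ⟨![0, 0, 0, 1, 2, 1], by decide +kernel, by decide +kernel⟩
      · exact ⟨![0, 0, 0, 0, 1, 0], by decide +kernel, by decide +kernel⟩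
    obtain ⟨w, hwc, hw0⟩ := hw c hc
    set v := e.symm w with hv
    have hev : e v = w := e.apply_symm_apply w
    have hQv : Q v = c := by rw [hQB, ← he, hev, hB'a, hwc]
    have hperp : QuadraticMap.polar Q v (T v) = 0 := by
      rw [← QuadraticMap.polarBilin_apply_apply, ← hB, ← he, hTe, hev, hB'a, σ_apply, hw0]
    have hcm : reflect Q v * g = g * reflect Q v :=
      congrArg Subtype.val (Subgroup.mem_center_iff.1 hz ⟨reflect Q v, Ortho3.reflect_mem hQv⟩)
    have hx := congrArg (fun k : ↥(Cfsg.isometryGroup (ZMod 3) (⇑Q)) =>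
      ((k : Matrix.GeneralLinearGroup (Fin 6) (ZMod 3)) : Matrix (Fin 6) (Fin 6) (ZMod 3)) *ᵥ v) hcm
    simp only [mul_mulVec_iso, hga] at hx
    rw [show ((reflect Q v : Matrix.GeneralLinearGroup (Fin 6) (ZMod 3)) :
        Matrix (Fin 6) (Fin 6) (ZMod 3)) = Cfsg.reflectionMatrix (⇑Q) v from rfl,
      reflection_fix Q hperp, reflection_self Q (by rw [hQv]; exact hc), map_neg] at hx
    have h0 : T v = 0 := by
      funext i
      have := congrFun hx i
      simp only [Pi.neg_apply] at this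
      revert this
      show T v i = -T v i → T v i = 0
      generalize T v i = t
      revert t
      decide
    have : v = 0 := T.injective (h0.trans (map_zero T).symm)
    exact hc (by rw [← hQv, this, QuadraticMap.map_zero])
  haveI : Fact (Nat.Prime 7) := ⟨by norm_num⟩
  have hord : orderOf (QuotientGroup.mk (⟨g, hgR⟩ : ↥R) : ↥R ⧸ Subgroup.center ↥R) = 7 :=
    orderOf_eq_prime
      (by rw [← QuotientGroup.mk_pow, show (⟨g, hgR⟩ : ↥R) ^ 7 = 1 from Subtype.ext hg7]; rfl)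
      fun h => hnz ((QuotientGroup.eq_one_iff _).1 h)
  rw [Nat.card_congr φ.toEquiv, ← hord]
  exact orderOf_dvd_natCard _

end Cfsg.Agent.ThreeTransp.M22.Seven
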