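import Cfsg.Agent.Lib.ThreeTransp.M22.Local
import Cfsg.Agent.Lib.ThreeTransp.M22.Discr
import Cfsg.Agent.Lib.ThreeTransp.M22.Seven
import Cfsg.Agent.Lib.ThreeTransp.Cover

/-!
The commuting graph of a group of type M(22): 3510 members, any two non-commuting ones with 126
common neighbours.
-/

set_option autoImplicit false
set_option linter.unusedSectionVars false

namespace Cfsg.Agent.ThreeTransp.M22

open Cfsg.Agent.ThreeTransp
open Cfsg.Agent.ThreeTransp.Factor (nb)
open Cfsg.Agent.ThreeTransp.RankThree (loc mem_loc)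

variable {G : Type*} [Group G] {D : Set G}

theorem not_sq_between {n m : ℕ} (h1 : n ^ 2 < m) (h2 : m < (n + 1) ^ 2) (j : ℤ) :
    (m : ℤ) ≠ j ^ 2 := by
  intro h
  have hj : m = j.natAbs ^ 2 := by
    zify
    rw [sq_abs, h]
  rcases Nat.lt_or_ge j.natAbs (n + 1) with hlt | hge
  · have := Nat.pow_le_pow_left (Nat.lt_succ_iff.1 hlt) 2; omega
  · have := Nat.pow_le_pow_left hge 2; omega

/-- The outer members. -/
def outer (D : Set G) (a : G) : Set G := {c | c ∈ D ∧ ¬ Commute a c}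

variable [Finite G] (hD : Cfsg.IsThreeTranspositionGroup D)
  (hprim : Cfsg.IsPrimitiveUnderConj D) (h22 : Cfsg.IsOfTypeM22 G D)
include hD hprim h22

theorem ncard_nb {a : G} (ha : a ∈ D) : (nb D a).ncard = 693 :=
  (exists_chart hD h22 ha).elim fun C => C.ncard_nb

theorem ncard_nb_inter {a x : G} (ha : a ∈ D) (hx : x ∈ nb D a) :
    (nb D a ∩ nb D x).ncard = 180 :=
  (exists_chart hD h22 ha).elim fun C => C.ncard_one hx

theorem ncard_nb_three {a x z : G} (ha : a ∈ D) (hx : x ∈ nb D a) (hz : z ∈ nb D a)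
    (hne : x ≠ z) (hc : Commute x z) : (nb D a ∩ nb D x ∩ nb D z).ncard = 51 :=
  (exists_chart hD h22 ha).elim fun C => C.ncard_two hx hz hne hc

theorem ncard_nb_cross {a x z : G} (ha : a ∈ D) (hx : x ∈ nb D a) (hz : z ∈ nb D a)
    (hnc : ¬ Commute x z) : (nb D a ∩ nb D x ∩ nb D z).ncard = 45 :=
  (exists_chart hD h22 ha).elim fun C => C.ncard_cross hx hz hnc

/-- The degree of the common neighbourhood of a non-commuting pair. -/
theorem inner_degree {a c x : G} (ha : a ∈ D) (hc : c ∈ D) (hac : ¬ Commute a c)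
    (hx : x ∈ nb D a ∩ nb D c) : (nb D a ∩ nb D c ∩ nb D x).ncard = 45 := by
  rw [show nb D a ∩ nb D c ∩ nb D x = nb D x ∩ nb D a ∩ nb D c by ext; simp; tauto]
  exact ncard_nb_cross hD hprim h22 hx.1.1 (Cover.mem_nb_symm ha hx.1) (Cover.mem_nb_symm hc hx.2)
    hac

theorem inner_pair {a c x y : G} (ha : a ∈ D) (hc : c ∈ D) (hac : ¬ Commute a c)
    (hx : x ∈ nb D a ∩ nb D c) (hy : y ∈ nb D a ∩ nb D c ∩ nb D x) :
    (nb D a ∩ nb D c ∩ nb D x ∩ nb D y).ncard = 12 := by
  obtain ⟨C⟩ := exists_chart hD h22 hx.1.1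
  rw [show nb D a ∩ nb D c ∩ nb D x ∩ nb D y = nb D x ∩ nb D a ∩ nb D c ∩ nb D y by
    ext; simp; tauto]
  exact C.ncard_three (Cover.mem_nb_symm ha hx.1) (Cover.mem_nb_symm hc hx.2) hac
    ⟨⟨hy.2, hy.1.1⟩, hy.1.2⟩

theorem inter_nonempty {a c : G} (ha : a ∈ D) (hc : c ∈ D) (hac : ¬ Commute a c) :
    (nb D a ∩ nb D c).Nonempty := by
  obtain ⟨x, hx, hax, hxc⟩ :=
    RankThree.exists_common hD hprim (exists_commuting hD hprim h22) ha hc hac
  exact ⟨x, ⟨hx, fun e => hac (e ▸ hxc), hax⟩, hx, fun e => hac (e ▸ hax), hxc.symm⟩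

theorem conj_inter {g a c : G} :
    (fun x => g * x * g⁻¹) '' (nb D a ∩ nb D c) =
      nb D (g * a * g⁻¹) ∩ nb D (g * c * g⁻¹) := by
  ext y
  constructor
  · rintro ⟨x, hx, rfl⟩
    exact ⟨Cover.conj_nb hD g hx.1, Cover.conj_nb hD g hx.2⟩
  · intro hy
    refine ⟨g⁻¹ * y * g, ⟨?_, ?_⟩, by group⟩
    · have := Cover.conj_nb hD g⁻¹ hy.1
      rwa [show g⁻¹ * (g * a * g⁻¹) * g⁻¹⁻¹ = a by group, inv_inv] at this
    · have := Cover.conj_nb hD g⁻¹ hy.2
      rwa [show g⁻¹ * (g * c * g⁻¹) * g⁻¹⁻¹ = c by group, inv_inv] at this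

theorem inter_const {a c a' c' : G} (ha : a ∈ D) (hc : c ∈ D) (hac : ¬ Commute a c)
    (ha' : a' ∈ D) (hc' : c' ∈ D) (hac' : ¬ Commute a' c') :
    (nb D a ∩ nb D c).ncard = (nb D a' ∩ nb D c').ncard := by
  obtain ⟨g, hg⟩ := hprim.1 a ha a' ha'
  obtain ⟨h, hh, hh'⟩ := RankThree.linked_outer hD hprim (exists_commuting hD hprim h22) ha'
    (hD.2.1 g c hc) hc' (by rw [← hg, Basic.commute_conj]; exact hac) hac'
  have e : h * g * a * (h * g)⁻¹ = a' := by
    rw [show h * g * a * (h * g)⁻¹ = h * (g * a * g⁻¹) * h⁻¹ by group, hg,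
      RankThree.conj_self_of_commute (RankThree.loc_commute hh)]
  have e' : h * g * c * (h * g)⁻¹ = c' := by rw [← hh']; group
  rw [← e, ← e', ← conj_inter hD hprim h22, Set.ncard_image_of_injective _ fun p q hpq =>
    mul_left_cancel (mul_right_cancel hpq)]

/-- Two counts of the paths of length two from a member to its outer members. -/
theorem outer_mul {a c : G} (ha : a ∈ D) (hc : c ∈ D) (hac : ¬ Commute a c) :
    (outer D a).ncard * (nb D a ∩ nb D c).ncard = 354816 := by
  classical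
  have key := Finset.sum_card_bipartiteAbove_eq_sum_card_bipartiteBelow
    (r := fun x y => y ∈ nb D x) (s := (Set.toFinite (nb D a)).toFinset)
    (t := (Set.toFinite (outer D a)).toFinset)
  rw [Finset.sum_const_nat (m := 512), Finset.sum_const_nat (m := (nb D a ∩ nb D c).ncard),
    ← Set.ncard_eq_toFinset_card, ← Set.ncard_eq_toFinset_card, ncard_nb hD hprim h22 ha] at key
  · rw [← key]
  · intro y hy
    rw [Set.Finite.mem_toFinset] at hy
    rw [inter_const hD hprim h22 ha hc hac ha hy.1 hy.2,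
      Set.ncard_eq_toFinset_card (nb D a ∩ nb D y) (Set.toFinite _)]
    congr 1
    ext x
    simp only [Finset.bipartiteBelow, Finset.mem_filter, Set.Finite.mem_toFinset, Set.mem_inter_iff]
    exact ⟨fun ⟨hx, hxy⟩ => ⟨hx, Cover.mem_nb_symm hx.1 hxy⟩,
      fun ⟨hx, hxy⟩ => ⟨hx, Cover.mem_nb_symm hy.1 hxy⟩⟩
  · intro x hx
    rw [Set.Finite.mem_toFinset] at hx
    have hset : nb D x = insert a ((nb D a ∩ nb D x) ∪ (outer D a ∩ nb D x)) := by
      ext y
      simp only [Set.mem_insert_iff, Set.mem_union, Set.mem_inter_iff]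
      constructor
      · intro hy
        by_cases e : y = a
        · exact Or.inl e
        by_cases h : Commute a y
        · exact Or.inr (Or.inl ⟨⟨hy.1, e, h⟩, hy⟩)
        · exact Or.inr (Or.inr ⟨⟨hy.1, h⟩, hy⟩)
      · rintro (rfl | h | h)
        exacts [Cover.mem_nb_symm ha hx, h.2, h.2]
    have h1 := ncard_nb hD hprim h22 hx.1
    rw [hset, Set.ncard_insert_of_notMem ?_ (Set.toFinite _), Set.ncard_union_eq ?_ (Set.toFinite _)
      (Set.toFinite _), ncard_nb_inter hD hprim h22 ha hx] at h1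
    · rw [show Finset.bipartiteAbove (fun x y => y ∈ nb D x) (Set.toFinite (outer D a)).toFinset x =
        (Set.toFinite (outer D a ∩ nb D x)).toFinset by
          ext y; simp [Finset.bipartiteAbove], ← Set.ncard_eq_toFinset_card]
      omega
    · rw [Set.disjoint_left]
      rintro y ⟨hy, -⟩ ⟨hy', -⟩
      exact hy'.2 hy.2.2
    · rintro (⟨h, -⟩ | ⟨h, -⟩)
      exacts [h.2.1 rfl, h.2 (Commute.refl a)]

theorem ncard_D {a : G} (ha : a ∈ D) : D.ncard = 694 + (outer D a).ncard := by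
  have hset : D = insert a (nb D a ∪ outer D a) := by
    ext y
    simp only [Set.mem_insert_iff, Set.mem_union]
    constructor
    · intro hy
      by_cases e : y = a
      · exact Or.inl e
      by_cases h : Commute a y
      exacts [Or.inr (Or.inl ⟨hy, e, h⟩), Or.inr (Or.inr ⟨hy, h⟩)]
    · rintro (rfl | h | h)
      exacts [ha, h.1, h.1]
  conv_lhs => rw [hset]
  rw [Set.ncard_insert_of_notMem ?_ (Set.toFinite _), Set.ncard_union_eq ?_ (Set.toFinite _)
    (Set.toFinite _), ncard_nb hD hprim h22 ha]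
  · omega
  · rw [Set.disjoint_left]
    intro y hy hy'
    exact hy'.2 hy.2.2
  · rintro (h | h)
    exacts [h.2.1 rfl, h.2 (Commute.refl a)]

/-- First and second moments of the number of common neighbours seen from outside. -/
theorem moments {y c : G} (hy : y ∈ D) (hc : c ∈ D) (hyc : ¬ Commute y c) :
    ∃ N : Finset G, (∀ z, z ∈ N ↔ z ∈ nb D y ∧ z ∉ nb D c) ∧
      N.card + (nb D y ∩ nb D c).ncard = 693 ∧
      ∑ z ∈ N, ((nb D y ∩ nb D c ∩ nb D z).ncard : ℤ) = 135 * (nb D y ∩ nb D c).ncard ∧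
      ∑ z ∈ N, ((nb D y ∩ nb D c ∩ nb D z).ncard : ℤ) ^ 2 =
        45 * ((nb D y ∩ nb D c).ncard : ℤ) ^ 2 - 1620 * (nb D y ∩ nb D c).ncard := by
  classical
  set U : Finset G := (Set.toFinite (nb D y)).toFinset with hU
  set S : Finset G := (Set.toFinite (nb D y ∩ nb D c)).toFinset with hS
  have hSU : S ⊆ U := fun z hz => by
    simp only [hS, hU, Set.Finite.mem_toFinset] at hz ⊢
    exact hz.1
  have hS' : (nb D y ∩ nb D c).ncard = S.card := Set.ncard_eq_toFinset_card _ _
  set m : G → ℕ := fun z => (nb D y ∩ nb D c ∩ nb D z).ncard with hm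
  have hm' : ∀ z, m z = (S.filter fun x => x ∈ nb D z).card := fun z => by
    rw [hm]
    simp only
    rw [Set.ncard_eq_toFinset_card _ (Set.toFinite _)]
    congr 1
    ext x
    simp [hS]
  have hf : ∀ x ∈ S, ∀ x' ∈ S, (U.filter fun z => x ∈ nb D z ∧ x' ∈ nb D z).card =
      (nb D y ∩ nb D x ∩ nb D x').ncard := by
    intro x hx x' hx'
    simp only [hS, Set.Finite.mem_toFinset] at hx hx'
    rw [Set.ncard_eq_toFinset_card _ (Set.toFinite _)]
    congr 1
    ext z
    simp only [hU, Finset.mem_filter, Set.Finite.mem_toFinset, Set.mem_inter_iff]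
    exact ⟨fun ⟨hz, h1, h2⟩ => ⟨⟨hz, Cover.mem_nb_symm hz.1 h1⟩, Cover.mem_nb_symm hz.1 h2⟩,
      fun ⟨⟨hz, h1⟩, h2⟩ => ⟨hz, Cover.mem_nb_symm hx.1.1 h1, Cover.mem_nb_symm hx'.1.1 h2⟩⟩
  have hsum1 : ∑ z ∈ U, m z = S.card * 180 := by
    simp_rw [hm', Finset.card_filter]
    rw [Finset.sum_comm, ← smul_eq_mul, ← Finset.sum_const]
    refine Finset.sum_congr rfl fun x hx => ?_
    rw [← Finset.card_filter]
    have := hf x hx x hx
    simp only [and_self] at this
    rw [this, Set.inter_assoc, Set.inter_self]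
    simp only [hS, Set.Finite.mem_toFinset] at hx
    exact ncard_nb_inter hD hprim h22 hy hx.1
  have hsum2 : ∑ z ∈ U, ((m z : ℤ) ^ 2) = S.card * (405 + 45 * (S.card : ℤ)) := by
    have e1 : ∀ z, ((m z : ℤ) ^ 2) =
        ∑ x ∈ S, ∑ x' ∈ S, (if x ∈ nb D z ∧ x' ∈ nb D z then (1 : ℤ) else 0) := by
      intro z
      rw [hm', sq, Finset.card_filter]
      push_cast
      rw [Finset.sum_mul_sum]
      refine Finset.sum_congr rfl fun x _ => Finset.sum_congr rfl fun x' _ => ?_
      split_ifs <;> simp_all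
    rw [Finset.sum_congr rfl fun z _ => e1 z, Finset.sum_comm, ← nsmul_eq_mul, ← Finset.sum_const]
    refine Finset.sum_congr rfl fun x hx => ?_
    rw [Finset.sum_comm, Finset.sum_congr rfl fun x' hx' => (Finset.sum_boole
      (fun z => x ∈ nb D z ∧ x' ∈ nb D z) U).trans (congrArg Nat.cast (hf x hx x' hx'))]
    have hxS := hx
    simp only [hS, Set.Finite.mem_toFinset] at hxS
    rw [← Finset.add_sum_erase _ _ hx, Set.inter_assoc (nb D y), Set.inter_self,
      ncard_nb_inter hD hprim h22 hy hxS.1,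
      ← Finset.sum_filter_add_sum_filter_not (S.erase x) (fun x' => x' ∈ nb D x)]
    have hA : ((S.erase x).filter fun x' => x' ∈ nb D x).card = 45 := by
      rw [← inner_degree hD hprim h22 hy hc hyc hxS, Set.ncard_eq_toFinset_card _ (Set.toFinite _)]
      congr 1
      ext q
      simp only [hS, Finset.mem_filter, Finset.mem_erase, Set.Finite.mem_toFinset,
        Set.mem_inter_iff]
      exact ⟨fun h => ⟨h.1.2, h.2⟩, fun h => ⟨⟨h.2.2.1, h.1⟩, h.2⟩⟩
    have hB := Finset.card_filter_add_card_filter_not (s := S.erase x) (fun x' => x' ∈ nb D x)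
    rw [Finset.card_erase_of_mem hx, hA] at hB
    have hpos := Finset.card_pos.2 ⟨x, hx⟩
    rw [Finset.sum_congr rfl (g := fun _ => (51 : ℤ)) ?_,
      Finset.sum_congr rfl (s₁ := (S.erase x).filter fun x' => ¬ x' ∈ nb D x)
        (g := fun _ => (45 : ℤ)) ?_, Finset.sum_const, Finset.sum_const, hA]
    · have hB' : ((((S.erase x).filter fun x' => ¬ x' ∈ nb D x).card : ℕ) : ℤ) =
          (S.card : ℤ) - 46 := by omega
      simp only [nsmul_eq_mul]
      rw [hB']
      push_cast
      ring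
    · intro q hq
      simp only [hS, Finset.mem_filter, Finset.mem_erase, Set.Finite.mem_toFinset] at hq
      rw [ncard_nb_cross hD hprim h22 hy hxS.1 hq.1.2.1 fun hxq => hq.2 ⟨hq.1.2.1.1, hq.1.1, hxq⟩]
      norm_num
    · intro q hq
      simp only [hS, Finset.mem_filter, Finset.mem_erase, Set.Finite.mem_toFinset] at hq
      rw [ncard_nb_three hD hprim h22 hy hxS.1 hq.1.2.1 (Ne.symm hq.1.1) hq.2.2.2]
      norm_num
  have hin : ∀ x ∈ S, m x = 45 := fun x hx => by
    simp only [hS, Set.Finite.mem_toFinset] at hx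
    exact inner_degree hD hprim h22 hy hc hyc hx
  refine ⟨U \ S, fun z => ?_, ?_, ?_, ?_⟩
  · simp only [hU, hS, Finset.mem_sdiff, Set.Finite.mem_toFinset, Set.mem_inter_iff, not_and]
    exact ⟨fun h => ⟨h.1, h.2 h.1⟩, fun h => ⟨h.1, fun _ => h.2⟩⟩
  · have := Finset.card_sdiff_add_card_eq_card hSU
    rw [← hS'] at this
    rw [this, hU, ← Set.ncard_eq_toFinset_card, ncard_nb hD hprim h22 hy]
  · have h := Finset.sum_sdiff (f := fun z => (m z : ℤ)) hSU
    rw [Finset.sum_congr rfl (s₁ := S) (g := fun _ => (45 : ℤ)) (fun x hx => by rw [hin x hx]; rfl),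
      Finset.sum_const, ← Nat.cast_sum U m, hsum1] at h
    rw [hS']
    simp only [nsmul_eq_mul] at h
    push_cast at h
    show ∑ z ∈ U \ S, (m z : ℤ) = _
    linarith
  · have h := Finset.sum_sdiff (f := fun z => (m z : ℤ) ^ 2) hSU
    rw [Finset.sum_congr rfl (s₁ := S) (g := fun _ => (2025 : ℤ))
      (fun x hx => by rw [hin x hx]; norm_num), Finset.sum_const, hsum2] at h
    rw [hS']
    simp only [nsmul_eq_mul] at h
    show ∑ z ∈ U \ S, (m z : ℤ) ^ 2 = _
    linarith [h]

/-- The number of outer members is prime to seven. -/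
theorem outer_seven : ∃ d ∈ D, ∃ c ∈ D, ¬ Commute d c ∧ ¬ 7 ∣ (outer D d).ncard := by
  obtain ⟨d, hd, c, hc, hdc, -, c₃, hc₃, hL⟩ := h22.2
  refine ⟨d, hd, c, hc, hdc, ?_⟩
  set L := Subgroup.closure (nb D d ∩ nb D c) with hLdef
  have h7 : 7 ∣ Nat.card (↥L ⧸ Subgroup.center ↥L) := Seven.seven_dvd hc₃ hL
  have h7L : 7 ∣ Nat.card ↥L :=
    h7.trans (Subgroup.card_quotient_dvd_card (Subgroup.center ↥L))
  set Lo := loc D d with hLo
  set St : Subgroup ↥Lo := (Subgroup.centralizer ({c} : Set G)).subgroupOf Lo with hSt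
  have hLle : L ≤ Lo ⊓ Subgroup.centralizer ({c} : Set G) := by
    rw [hLdef, Subgroup.closure_le]
    intro x hx
    exact ⟨mem_loc hx.1.1 hx.1.2.2, Subgroup.mem_centralizer_iff.2 (by
      rintro _ rfl; exact hx.2.2.2.eq)⟩
  have h7S : 7 ∣ Nat.card ↥St := by
    refine h7L.trans ?_
    have e : ↥St ≃* ↥(Lo ⊓ Subgroup.centralizer ({c} : Set G)) :=
      (MulEquiv.subgroupCongr (by rw [hSt, Subgroup.inf_subgroupOf_left])).trans
        (Subgroup.subgroupOfEquivOfLe inf_le_left)
    rw [Nat.card_congr e.toEquiv]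
    exact Subgroup.card_dvd_of_le hLle
  have hact : ∀ k : ↥Lo, (k : G) * c * (k : G)⁻¹ ∈ outer D d := fun k => by
    refine ⟨hD.2.1 _ c hc, fun h => hdc ?_⟩
    rw [← RankThree.conj_self_of_commute (RankThree.loc_commute k.2)] at h
    exact Basic.commute_conj.1 h
  have hidx : (outer D d).ncard = St.index := by
    rw [← Nat.card_coe_set_eq, Subgroup.index]
    refine (Nat.card_congr (Equiv.ofBijective (Quotient.lift
      (fun k : ↥Lo => (⟨_, hact k⟩ : outer D d)) ?_) ⟨?_, ?_⟩)).symm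
    · intro k k' h
      have h1 : k⁻¹ * k' ∈ St := (QuotientGroup.leftRel_apply).1 h
      have h2 : Commute ((k : G)⁻¹ * k') c :=
        (Subgroup.mem_centralizer_iff.1 (Subgroup.mem_subgroupOf.1 h1) c rfl).symm
      refine Subtype.ext ?_
      show (k : G) * c * (k : G)⁻¹ = (k' : G) * c * (k' : G)⁻¹
      calc (k : G) * c * (k : G)⁻¹
          = (k : G) * (((k : G)⁻¹ * k') * c * ((k : G)⁻¹ * k')⁻¹) * (k : G)⁻¹ := by
            rw [mul_inv_eq_iff_eq_mul.2 h2.eq]
        _ = _ := by group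
    · intro p q
      induction p using Quotient.inductionOn with
      | h k =>
        induction q using Quotient.inductionOn with
        | h k' =>
          intro h
          have h' : (k : G) * c * (k : G)⁻¹ = (k' : G) * c * (k' : G)⁻¹ := congrArg Subtype.val h
          refine Quotient.sound (QuotientGroup.leftRel_apply.2 (Subgroup.mem_subgroupOf.2
            (Subgroup.mem_centralizer_iff.2 ?_)))
          intro x hx
          rw [Set.mem_singleton_iff.1 hx]
          simp only [Subgroup.coe_mul, InvMemClass.coe_inv]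
          have e : ((k : G)⁻¹ * k') * c = c * ((k : G)⁻¹ * k') := by
            calc ((k : G)⁻¹ * k') * c
                = (k : G)⁻¹ * ((k' : G) * c * (k' : G)⁻¹) * k' := by group
              _ = _ := by rw [← h']; group
          exact e.symm
    · rintro ⟨y, hy, hdy⟩
      obtain ⟨k, hk, hky⟩ :=
        RankThree.linked_outer hD hprim (exists_commuting hD hprim h22) hd hc hy hdc hdy
      exact ⟨Quotient.mk _ ⟨k, hk⟩, Subtype.ext hky⟩
  intro h
  have hmul := St.index_mul_card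
  rw [← hidx, (card_loc hD hprim h22 hd : Nat.card ↥Lo = _)] at hmul
  have : 7 * 7 ∣ 18393661440 := hmul ▸ Nat.mul_dvd_mul h h7S
  norm_num at this

/-- The graph of a class with prescribed parameters. -/
theorem srg {μ n : ℕ} (hμ : ∀ a ∈ D, ∀ c ∈ D, ¬ Commute a c → (nb D a ∩ nb D c).ncard = μ)
    (hn : D.ncard = n) [Fintype D] [DecidableRel (Cfsg.commutingGraph D).Adj] :
    (Cfsg.commutingGraph D).IsSRGWith n 693 180 μ := by
  classical
  have hN : ∀ x : D, (Cfsg.commutingGraph D).neighborSet x =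
      Subtype.val ⁻¹' nb D (x : G) := by
    intro x
    ext z
    simp only [SimpleGraph.mem_neighborSet, Cfsg.commutingGraph, SimpleGraph.fromRel_adj,
      Set.mem_preimage]
    constructor
    · rintro ⟨hne, h | h⟩
      exacts [⟨z.2, fun e => hne (Subtype.ext e.symm), h⟩,
        ⟨z.2, fun e => hne (Subtype.ext e.symm), h.symm⟩]
    · intro h
      exact ⟨fun e => h.2.1 (congrArg Subtype.val e).symm, Or.inl h.2.2⟩
  have hpre : ∀ s : Set G, s ⊆ D → ((Subtype.val : D → G) ⁻¹' s).ncard = s.ncard := fun s hs =>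
    Set.ncard_preimage_of_injective_subset_range Subtype.val_injective
      (by rwa [Subtype.range_coe_subtype])
  have hC : ∀ x z : D, Fintype.card ((Cfsg.commutingGraph D).commonNeighbors x z) =
      (nb D (x : G) ∩ nb D (z : G)).ncard := by
    intro x z
    rw [← Nat.card_eq_fintype_card, Nat.card_coe_set_eq, SimpleGraph.commonNeighbors, hN, hN,
      ← Set.preimage_inter, hpre _ fun q hq => hq.1.1]
  refine { card := ?_, regular := ?_, of_adj := ?_, of_not_adj := ?_ }
  · rw [← Nat.card_eq_fintype_card, Nat.card_coe_set_eq, hn]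
  · intro x
    rw [← SimpleGraph.card_neighborSet_eq_degree, ← Nat.card_eq_fintype_card, Nat.card_coe_set_eq,
      hN, hpre _ fun q hq => hq.1, ncard_nb hD hprim h22 x.2]
  · intro x z h
    have hz : (z : G) ∈ nb D (x : G) := by
      have : z ∈ (Cfsg.commutingGraph D).neighborSet x := h
      rwa [hN] at this
    rw [hC, ncard_nb_inter hD hprim h22 x.2 hz]
  · intro x z hne h
    rw [hC, hμ x x.2 z z.2 fun hc => h ?_]
    show z ∈ (Cfsg.commutingGraph D).neighborSet x
    rw [hN]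
    exact ⟨z.2, fun e => hne (Subtype.ext e.symm), hc⟩

/-- Non-commuting members have 126 common neighbours. -/
theorem ncard_inter {a c : G} (ha : a ∈ D) (hc : c ∈ D) (hac : ¬ Commute a c) :
    (nb D a ∩ nb D c).ncard = 126 := by
  classical
  obtain ⟨d, hd, e, he, hde, h7⟩ := outer_seven hD hprim h22
  rw [inter_const hD hprim h22 ha hc hac hd he hde]
  have hprod := outer_mul hD hprim h22 hd he hde
  have hD' := ncard_D hD hprim h22 hd
  obtain ⟨N, -, hNc, hS1, hS2⟩ := moments hD hprim h22 hd he hde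
  have hμ : ∀ a ∈ D, ∀ c ∈ D, ¬ Commute a c →
      (nb D a ∩ nb D c).ncard = (nb D d ∩ nb D e).ncard :=
    fun a ha c hc hac => inter_const hD hprim h22 ha hc hac hd he hde
  obtain ⟨x, hx⟩ := inter_nonempty hD hprim h22 hd he hde
  have h46 : 46 ≤ (nb D d ∩ nb D e).ncard := by
    have h := inner_degree hD hprim h22 hd he hde hx
    have hlt : (nb D d ∩ nb D e ∩ nb D x).ncard < (nb D d ∩ nb D e).ncard :=
      Set.ncard_lt_ncard ⟨Set.inter_subset_left, fun hs => (hs hx).2.2.1 rfl⟩ (Set.toFinite _)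
    omega
  have hcs := sq_sum_le_card_mul_sum_sq (s := N)
    (f := fun z => ((nb D d ∩ nb D e ∩ nb D z).ncard : ℤ))
  rw [hS1, hS2] at hcs
  generalize hs : (nb D d ∩ nb D e).ncard = s at hprod hNc h46 hcs hμ
  generalize hl : (outer D d).ncard = l at hprod h7 hD'
  have hb : 126 ≤ s ∧ s ≤ 198 := by
    have hN' : (N.card : ℤ) = 693 - s := by omega
    rw [hN'] at hcs
    have h' : ((s : ℤ) - 126) * ((s : ℤ) - 198) ≤ 0 := by
      by_contra hpos
      push Not at hpos
      have : (0 : ℤ) < s := by omega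
      nlinarith [mul_pos this hpos]
    constructor
    · by_contra hlt
      push Not at hlt
      have : (0 : ℤ) < (((s : ℤ) - 126) * ((s : ℤ) - 198)) := mul_pos_of_neg_of_neg (by omega) (by omega)
      omega
    · by_contra hgt
      push Not at hgt
      have : (0 : ℤ) < (((s : ℤ) - 126) * ((s : ℤ) - 198)) := mul_pos (by omega) (by omega)
      omega
  have h7s : 7 ∣ s :=
    ((Nat.Prime.dvd_mul (by norm_num)).1 (hprod ▸ (by norm_num : 7 ∣ 354816))).resolve_left h7
  have hsd : s ∣ 354816 := ⟨l, by rw [← hprod, mul_comm]⟩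
  have hcases : s = 126 ∨ s = 154 ∨ s = 168 := by
    obtain ⟨h1, h2⟩ := hb
    interval_cases s <;> first | omega | (exfalso; revert h7s hsd; decide)
  haveI : Fintype D := Fintype.ofFinite _
  have key := srg hD hprim h22 hμ hD'
  rcases hcases with rfl | rfl | rfl
  · rfl
  · have hl' : l = 2304 := by omega
    subst hl'
    obtain ⟨j, hj⟩ := Discr.discr_square _ key (by norm_num) (by norm_num) (by norm_num)
      (by norm_num)
    norm_num at hj
    exact absurd hj (by exact_mod_cast not_sq_between (n := 53) (m := 2832) (by norm_num) (by norm_num) j)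
  · have hl' : l = 2112 := by omega
    subst hl'
    obtain ⟨j, hj⟩ := Discr.discr_square _ key (by norm_num) (by norm_num) (by norm_num)
      (by norm_num)
    norm_num at hj
    exact absurd hj (by exact_mod_cast not_sq_between (n := 47) (m := 2244) (by norm_num) (by norm_num) j)

theorem ncard_outer {a : G} (ha : a ∈ D) : (outer D a).ncard = 2816 := by
  obtain ⟨c, hc, hac⟩ := Classes.exists_noncomm hD hprim.1 hprim.2.1 ha
  have h := outer_mul hD hprim h22 ha hc hac
  rw [ncard_inter hD hprim h22 ha hc hac] at h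
  omega

theorem ncard_class : D.ncard = 3510 := by
  obtain ⟨a, ha, -⟩ := hprim.2.1
  rw [ncard_D hD hprim h22 ha, ncard_outer hD hprim h22 ha]

/-- Every member outside sees exactly thirty common neighbours. -/
theorem thirty {y c z : G} (hy : y ∈ D) (hc : c ∈ D) (hyc : ¬ Commute y c) (hz : z ∈ nb D y)
    (hzc : z ∉ nb D c) : (nb D y ∩ nb D c ∩ nb D z).ncard = 30 := by
  obtain ⟨N, hN, hcard, h1, h2⟩ := moments hD hprim h22 hy hc hyc
  rw [ncard_inter hD hprim h22 hy hc hyc] at hcard h1 h2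
  have h0 : ∑ q ∈ N, (((nb D y ∩ nb D c ∩ nb D q).ncard : ℤ) - 30) ^ 2 = 0 := by
    simp only [sub_sq, Finset.sum_add_distrib, Finset.sum_sub_distrib, ← Finset.sum_mul,
      ← Finset.mul_sum, Finset.sum_const, nsmul_eq_mul]
    rw [h2, h1]
    have : (N.card : ℤ) = 567 := by omega
    rw [this]
    norm_num
  have := (Finset.sum_eq_zero_iff_of_nonneg fun q _ => sq_nonneg _).1 h0 z ((hN z).2 ⟨hz, hzc⟩)
  rw [sq_eq_zero_iff, sub_eq_zero] at this
  exact_mod_cast this

theorem conn {a c : G} (ha : a ∈ D) (hc : c ∈ D) (hac : ¬ Commute a c) (P : G → Prop)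
    (hP : ∀ p ∈ nb D a ∩ nb D c, ∀ q ∈ nb D a ∩ nb D c, Commute p q → P p → P q)
    {x : G} (hx : x ∈ nb D a ∩ nb D c) (hPx : P x) {x' : G} (hx' : x' ∈ nb D a ∩ nb D c) :
    P x' := by
  by_contra hn
  have big : ∀ R : G → Prop,
      (∀ p ∈ nb D a ∩ nb D c, ∀ q ∈ nb D a ∩ nb D c, Commute p q → R p → R q) →
      ∀ p ∈ nb D a ∩ nb D c, R p → 78 ≤ {q | q ∈ nb D a ∩ nb D c ∧ R q}.ncard := by
    intro R hR p hp hRp
    obtain ⟨r, hr⟩ := Set.nonempty_of_ncard_ne_zero
      ((inner_degree hD hprim h22 ha hc hac hp).trans_ne (by norm_num : (45 : ℕ) ≠ 0))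
    have h1 := inner_degree hD hprim h22 ha hc hac hp
    have h2 := inner_degree hD hprim h22 ha hc hac hr.1
    have h3 := inner_pair hD hprim h22 ha hc hac hp hr
    have h4 := Set.ncard_union_add_ncard_inter (nb D a ∩ nb D c ∩ nb D p)
      (nb D a ∩ nb D c ∩ nb D r) (Set.toFinite _) (Set.toFinite _)
    rw [h1, h2, show nb D a ∩ nb D c ∩ nb D p ∩ (nb D a ∩ nb D c ∩ nb D r) =
      nb D a ∩ nb D c ∩ nb D p ∩ nb D r by ext; simp; tauto, h3] at h4
    have hsub : nb D a ∩ nb D c ∩ nb D p ∪ nb D a ∩ nb D c ∩ nb D r ⊆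
        {q | q ∈ nb D a ∩ nb D c ∧ R q} := by
      rintro q (hq | hq)
      · exact ⟨hq.1, hR p hp q hq.1 hq.2.2.2 hRp⟩
      · exact ⟨hq.1, hR r hr.1 q hq.1 hq.2.2.2 (hR p hp r hr.1 hr.2.2.2 hRp)⟩
    have := Set.ncard_le_ncard hsub (Set.toFinite _)
    omega
  have h1 := big P hP x hx hPx
  have h2 := big (fun q => ¬ P q)
    (fun p hp q hq hpq hnp hq' => hnp (hP q hq p hp hpq.symm hq')) x' hx' hn
  have h3 := Set.ncard_le_ncard (s := {q | q ∈ nb D a ∩ nb D c ∧ P q} ∪
    {q | q ∈ nb D a ∩ nb D c ∧ ¬ P q}) (t := nb D a ∩ nb D c)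
    (Set.union_subset (fun q hq => hq.1) (fun q hq => hq.1)) (Set.toFinite _)
  rw [Set.ncard_union_eq (Set.disjoint_left.2 fun q h h' => h'.2 h.2) (Set.toFinite _)
    (Set.toFinite _), ncard_inter hD hprim h22 ha hc hac] at h3
  omega

theorem hyp : Cover.Hyp D where
  key w hw a ha h hh hc := loc_inf hD hprim h22 hw ha hh hc
  two a ha b hb := Set.nonempty_of_ncard_ne_zero
    ((ncard_nb_inter hD hprim h22 ha hb).trans_ne (by norm_num : (180 : ℕ) ≠ 0))
  three a ha b hb c hc := Set.nonempty_of_ncard_ne_zero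
    ((ncard_nb_three hD hprim h22 ha hb hc.1 hc.2.2.1.symm hc.2.2.2).trans_ne
      (by norm_num : (51 : ℕ) ≠ 0))
  mid a ha b hb w hw w' hw' hne hc := by
    have hww : w' ∈ nb D w := ⟨hw'.1.1, hne.symm, hc⟩
    have h180 := ncard_nb_inter hD hprim h22 hw.1.1 hww
    have hle : ∀ p ∈ D, p ∈ nb D w → p ∈ nb D w' →
        {e | e ∈ nb D w ∩ nb D w' ∧ Commute e p}.ncard ≤ 52 := by
      intro p hpD hp hp'
      have hsub : {e | e ∈ nb D w ∩ nb D w' ∧ Commute e p} ⊆
          insert p (nb D w ∩ nb D w' ∩ nb D p) := by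
        rintro e ⟨he, hep⟩
        by_cases h : e = p
        · exact Or.inl h
        · exact Or.inr ⟨he, he.1.1, h, hep.symm⟩
      have h51 := ncard_nb_three hD hprim h22 hw.1.1 hww hp hp'.2.1.symm hp'.2.2
      have := Set.ncard_le_ncard hsub (Set.toFinite _)
      have := Set.ncard_insert_le p (nb D w ∩ nb D w' ∩ nb D p)
      omega
    have h1 := hle a ha (Cover.mem_nb_symm ha hw.1) (Cover.mem_nb_symm ha hw'.1)
    have h2 := hle b hb.1 (Cover.mem_nb_symm hb.1 hw.2) (Cover.mem_nb_symm hb.1 hw'.2)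
    by_contra! hcon
    have hsub : nb D w ∩ nb D w' ⊆ {e | e ∈ nb D w ∩ nb D w' ∧ Commute e a} ∪
        {e | e ∈ nb D w ∩ nb D w' ∧ Commute e b} := by
      intro e he
      by_cases hea : Commute e a
      · exact Or.inl ⟨he, hea⟩
      · exact Or.inr ⟨he, hcon e he hea⟩
    have h3 := (Set.ncard_le_ncard hsub (Set.toFinite _)).trans (Set.ncard_union_le _ _)
    omega
  join a ha b hb w hw w' hw' hnc := by
    obtain ⟨C⟩ := exists_chart hD h22 ha
    obtain ⟨z, ⟨⟨hza, hzw⟩, hzw'⟩, hzb⟩ := Set.nonempty_of_ncard_ne_zero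
      ((C.ncard_three (y := b) hw.1 hw'.1 hnc
        ⟨⟨hb, Cover.mem_nb_symm hb.1 hw.2⟩, Cover.mem_nb_symm hb.1 hw'.2⟩).trans_ne
          (by norm_num : (12 : ℕ) ≠ 0))
    exact ⟨z, ⟨⟨hza, hzb⟩, hzw⟩, hzw'⟩
  conn a ha c hc hac P hP x hx hPx x' hx' := conn hD hprim h22 ha hc hac P hP hx hPx hx'
  five a ha y hy z hz hay haz hne hyz := by
    obtain ⟨x, ⟨hxy, hxa⟩, hxz⟩ := Set.nonempty_of_ncard_ne_zero
      ((thirty hD hprim h22 hy ha (fun h => hay h.symm) ⟨hz, hne, hyz⟩
        (fun h => haz h.2.2)).trans_ne (by norm_num : (30 : ℕ) ≠ 0))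
    exact ⟨x, ⟨hxa, hxy⟩, hxz⟩

/-- The centraliser of a member is its local subgroup. -/
theorem centralizer_eq {a : G} (ha : a ∈ D) :
    Subgroup.centralizer ({a} : Set G) = Factor.Hd D a := by
  rw [Cover.centralizer_eq_loc hD hprim (exists_commuting hD hprim h22) (hyp hD hprim h22) ha,
    loc_eq hD hprim h22 ha]

theorem card_group : Nat.card G = 64561751654400 := by
  obtain ⟨a, ha, -⟩ := hprim.2.1
  have h := (Subgroup.centralizer ({a} : Set G)).index_mul_card
  rw [centralizer_eq hD hprim h22 ha, ← loc_eq hD hprim h22 ha, card_loc hD hprim h22 ha] at h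
  have hi : (Subgroup.centralizer ({a} : Set G)).index = D.ncard := by
    rw [Subgroup.index, ← Nat.card_coe_set_eq]
    refine Nat.card_congr (Equiv.ofBijective (Quotient.lift
      (fun g : G => (⟨g * a * g⁻¹, hD.2.1 g a ha⟩ : D)) ?_) ⟨?_, ?_⟩)
    · intro g g' h
      have h2 := Subgroup.mem_centralizer_iff.1 (QuotientGroup.leftRel_apply.1 h) a rfl
      refine Subtype.ext ?_
      show g * a * g⁻¹ = g' * a * g'⁻¹
      calc g * a * g⁻¹ = g * ((g⁻¹ * g') * a * (g⁻¹ * g')⁻¹) * g⁻¹ := by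
            rw [← h2, mul_inv_cancel_right]
        _ = _ := by group
    · intro p q
      induction p using Quotient.inductionOn with
      | h g =>
        induction q using Quotient.inductionOn with
        | h g' =>
          intro h
          have h' : g * a * g⁻¹ = g' * a * g'⁻¹ := congrArg Subtype.val h
          refine Quotient.sound (QuotientGroup.leftRel_apply.2 (Subgroup.mem_centralizer_iff.2 ?_))
          intro x hx
          rw [Set.mem_singleton_iff.1 hx]
          calc _ = g⁻¹ * (g * a * g⁻¹) * g' := by group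
            _ = g⁻¹ * g' * a := by rw [h']; group
    · rintro ⟨y, hy⟩
      obtain ⟨g, hg⟩ := hprim.1 a ha y hy
      exact ⟨Quotient.mk _ g, Subtype.ext hg⟩
  rw [centralizer_eq hD hprim h22 ha, ← loc_eq hD hprim h22 ha, ncard_class hD hprim h22] at hi
  rw [hi] at h
  rw [← h]

theorem width : Cfsg.commutingWidth D = 22 := by
  classical
  refine IsGreatest.csSup_eq ⟨?_, ?_⟩
  · obtain ⟨a, ha, -⟩ := hprim.2.1
    obtain ⟨C⟩ := exists_chart hD h22 ha
    obtain ⟨E, hE, hc, hcard⟩ := C.exists_twenty_one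
    refine ⟨insert a E, Set.insert_subset ha fun x hx => (hE hx).1, Set.toFinite _, ?_, ?_⟩
    · rintro x (rfl | hx) y (rfl | hy)
      exacts [Commute.refl _, (hE hy).2.2, (hE hx).2.2.symm, hc x hx y hy]
    · rw [Set.ncard_insert_of_notMem (fun h => (hE h).2.1 rfl) (Set.toFinite _), hcard]
  · rintro n ⟨E, hE, -, hc, rfl⟩
    rcases E.eq_empty_or_nonempty with rfl | ⟨a, ha⟩
    · simp
    obtain ⟨C⟩ := exists_chart hD h22 (hE ha)
    have h := C.le_twenty_one hD (E := E \ {a})
      (fun x hx => ⟨hE hx.1, hx.2, hc a ha x hx.1⟩) (fun x hx y hy => hc x hx.1 y hy.1)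
    rw [Set.ncard_diff_singleton_of_mem ha] at h
    omega

end Cfsg.Agent.ThreeTransp.M22
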