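import Cfsg.Agent.Lib.ThreeTransp.M22.Graph
import Cfsg.Agent.Lib.ThreeTransp.M22.Perfect

/-!
Transitivity on commuting pairs and triples in a group of type M(22), and the centralisers of their
products.
-/

set_option autoImplicit false
set_option linter.unusedSectionVars false

namespace Cfsg.Agent.ThreeTransp.M22

open Cfsg.Agent.ThreeTransp
open Cfsg.Agent.ThreeTransp.Factor (nb Hd mem_Hd)
open Cfsg.Agent.ThreeTransp.RankThree (loc mem_loc)

variable {G : Type*} [Group G] {D : Set G}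

/-- Orbit and stabiliser for a map constant on cosets. -/
theorem orbit_card [Finite G] {α : Type*} (K S : Subgroup G) (T : Set α) (f : G → α)
    (himg : f '' (K : Set G) = T) (hS : ∀ k ∈ K, ∀ k' ∈ K, f k = f k' ↔ k⁻¹ * k' ∈ S) :
    Nat.card ↥K = T.ncard * Nat.card ↥(K ⊓ S) := by
  have hidx : T.ncard = ((K ⊓ S).subgroupOf K).index := by
    rw [← Nat.card_coe_set_eq, Subgroup.index]
    refine (Nat.card_congr (Equiv.ofBijective (Quotient.lift
      (fun k : ↥K => (⟨f k, himg ▸ ⟨k, k.2, rfl⟩⟩ : T)) ?_) ⟨?_, ?_⟩)).symm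
    · intro k k' h
      refine Subtype.ext ((hS k k.2 k' k'.2).2 ?_)
      exact (Subgroup.mem_subgroupOf.1 (QuotientGroup.leftRel_apply.1 h)).2
    · intro p q
      induction p using Quotient.inductionOn with
      | h k =>
        induction q using Quotient.inductionOn with
        | h k' =>
          intro h
          have h' : f k = f k' := congrArg Subtype.val h
          refine Quotient.sound (QuotientGroup.leftRel_apply.2 (Subgroup.mem_subgroupOf.2 ?_))
          exact ⟨(k⁻¹ * k').2, by simpa using (hS k k.2 k' k'.2).1 h'⟩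
    · rintro ⟨t, ht⟩
      rw [← himg] at ht
      obtain ⟨k, hk, rfl⟩ := ht
      exact ⟨Quotient.mk _ ⟨k, hk⟩, rfl⟩
  rw [hidx, ← Nat.card_congr (Subgroup.subgroupOfEquivOfLe (inf_le_left : K ⊓ S ≤ K)).toEquiv]
  exact (Subgroup.index_mul_card _).symm

theorem conj_eq_iff {a k k' : G} :
    k * a * k⁻¹ = k' * a * k'⁻¹ ↔ k⁻¹ * k' ∈ Subgroup.centralizer ({a} : Set G) := by
  rw [Subgroup.mem_centralizer_iff]
  constructor
  · intro h x hx
    rw [Set.mem_singleton_iff.1 hx]
    calc a * (k⁻¹ * k') = k⁻¹ * (k * a * k⁻¹) * k' := by group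
      _ = k⁻¹ * k' * a := by rw [h]; group
  · intro h
    calc k * a * k⁻¹ = k * (a * (k⁻¹ * k')) * k'⁻¹ := by group
      _ = k' * a * k'⁻¹ := by rw [h a rfl]; group

theorem conj_eq_self_iff {a k : G} : k * a * k⁻¹ = a ↔ Commute k a :=
  mul_inv_eq_iff_eq_mul

variable [Finite G] (hD : Cfsg.IsThreeTranspositionGroup D)
  (hprim : Cfsg.IsPrimitiveUnderConj D) (h22 : Cfsg.IsOfTypeM22 G D)
include hD hprim h22

theorem mem_centralizer_iff_commute {a k : G} :
    k ∈ Subgroup.centralizer ({a} : Set G) ↔ Commute k a := by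
  rw [Subgroup.mem_centralizer_iff]
  exact ⟨fun h => (h a rfl).symm, fun h x hx => by rw [Set.mem_singleton_iff.1 hx]; exact h.eq.symm⟩

theorem card_centralizer {a : G} (ha : a ∈ D) :
    Nat.card ↥(Subgroup.centralizer ({a} : Set G)) = 18393661440 := by
  rw [centralizer_eq hD hprim h22 ha, ← loc_eq hD hprim h22 ha]
  exact card_loc hD hprim h22 ha

theorem many_in_line {a b p : G} (ha : a ∈ D) (hb : b ∈ nb D a) (hp : p ∈ nb D a ∩ nb D b) :
    {e | e ∈ nb D a ∩ nb D b ∧ Commute e p}.ncard ≤ 52 := by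
  have hsub : {e | e ∈ nb D a ∩ nb D b ∧ Commute e p} ⊆
      insert p (nb D a ∩ nb D b ∩ nb D p) := by
    rintro e ⟨he, hep⟩
    by_cases h : e = p
    · exact Or.inl h
    · exact Or.inr ⟨he, he.1.1, h, hep.symm⟩
  have h51 := ncard_nb_three hD hprim h22 ha hb hp.1 hp.2.2.1.symm hp.2.2.2
  have := Set.ncard_le_ncard hsub (Set.toFinite _)
  have := Set.ncard_insert_le p (nb D a ∩ nb D b ∩ nb D p)
  omega

/-- Some member of the common neighbourhood commutes with neither of two given ones. -/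
theorem exists_far {a b p q : G} (ha : a ∈ D) (hb : b ∈ nb D a) (hp : p ∈ nb D a ∩ nb D b)
    (hq : q ∈ nb D a ∩ nb D b) :
    ∃ e ∈ nb D a ∩ nb D b, ¬ Commute e p ∧ ¬ Commute e q := by
  by_contra! hcon
  have hsub : nb D a ∩ nb D b ⊆ {e | e ∈ nb D a ∩ nb D b ∧ Commute e p} ∪
      {e | e ∈ nb D a ∩ nb D b ∧ Commute e q} := by
    intro e he
    by_cases hep : Commute e p
    · exact Or.inl ⟨he, hep⟩
    · exact Or.inr ⟨he, hcon e he hep⟩
  have h1 := many_in_line hD hprim h22 ha hb hp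
  have h2 := many_in_line hD hprim h22 ha hb hq
  have h3 := (Set.ncard_le_ncard hsub (Set.toFinite _)).trans (Set.ncard_union_le _ _)
  have h4 := ncard_nb_inter hD hprim h22 ha hb
  omega

/-- Transitivity on the common neighbours of a commuting pair. -/
theorem link_pair {a b p q : G} (ha : a ∈ D) (hb : b ∈ nb D a) (hp : p ∈ nb D a ∩ nb D b)
    (hq : q ∈ nb D a ∩ nb D b) :
    ∃ g : G, Commute g a ∧ Commute g b ∧ g * p * g⁻¹ = q := by
  have step : ∀ p ∈ nb D a ∩ nb D b, ∀ q ∈ nb D a ∩ nb D b, ¬ Commute p q →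
      ∃ g : G, Commute g a ∧ Commute g b ∧ g * p * g⁻¹ = q := by
    intro p hp q hq hpq
    have hb' := Basic.braid hD.1 hp.1.1 hq.1.1 hpq
    have hp2 := Classes.sq hD hp.1.1
    refine ⟨p * q * p, ?_, ?_, ?_⟩
    · exact ((hp.1.2.2.symm).mul_left hq.1.2.2.symm).mul_left hp.1.2.2.symm
    · exact ((hp.2.2.2.symm).mul_left hq.2.2.2.symm).mul_left hp.2.2.2.symm
    · rw [Classes.inv hD (Classes.conj_mem hD hp.1.1 hq.1.1)]
      calc p * q * p * p * (p * q * p) = p * q * (p * p) * (p * q * p) := by simp [mul_assoc]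
        _ = p * (q * p * q) * p := by rw [hp2, mul_one]; simp [mul_assoc]
        _ = p * (p * q * p) * p := by rw [hb']
        _ = (p * p) * q * (p * p) := by simp [mul_assoc]
        _ = q := by rw [hp2, one_mul, mul_one]
  by_cases hpq : Commute p q
  · obtain ⟨e, he, hep, heq⟩ := exists_far hD hprim h22 ha hb hp hq
    obtain ⟨g, ga, gb, ge⟩ := step p hp e he fun h => hep h.symm
    obtain ⟨k, ka, kb, ke⟩ := step e he q hq heq
    exact ⟨k * g, ka.mul_left ga, kb.mul_left gb, by rw [← ke, ← ge]; group⟩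
  · exact step p hp q hq hpq

theorem pair_trans {a b x y : G} (ha : a ∈ D) (hb : b ∈ nb D a) (hx : x ∈ D) (hy : y ∈ nb D x) :
    ∃ g : G, g * a * g⁻¹ = x ∧ g * b * g⁻¹ = y := by
  obtain ⟨g, hg⟩ := hprim.1 a ha x hx
  have hgb : g * b * g⁻¹ ∈ nb D x := hg ▸ Cover.conj_nb hD g hb
  obtain ⟨k, hk, hk'⟩ := RankThree.linked_inner hD hprim (exists_commuting hD hprim h22)
    (Primitive.cores_central hD hprim (exists_commuting hD hprim h22)).1 hx hgb.1 hy.1 hgb.2.2
    hy.2.2 hgb.2.1 hy.2.1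
  refine ⟨k * g, ?_, by rw [← hk']; group⟩
  rw [show k * g * a * (k * g)⁻¹ = k * (g * a * g⁻¹) * k⁻¹ by group, hg,
    RankThree.conj_self_of_commute (RankThree.loc_commute hk)]

theorem triple_trans {a b c x y z : G} (ha : a ∈ D) (hb : b ∈ nb D a)
    (hc : c ∈ nb D a ∩ nb D b) (hx : x ∈ D) (hy : y ∈ nb D x) (hz : z ∈ nb D x ∩ nb D y) :
    ∃ g : G, g * a * g⁻¹ = x ∧ g * b * g⁻¹ = y ∧ g * c * g⁻¹ = z := by
  obtain ⟨g, hga, hgb⟩ := pair_trans hD hprim h22 ha hb hx hy
  have hgc : g * c * g⁻¹ ∈ nb D x ∩ nb D y :=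
    ⟨hga ▸ Cover.conj_nb hD g hc.1, hgb ▸ Cover.conj_nb hD g hc.2⟩
  obtain ⟨k, kx, ky, kz⟩ := link_pair hD hprim h22 hx hy hgc hz
  refine ⟨k * g, ?_, ?_, by rw [← kz]; group⟩
  · rw [show k * g * a * (k * g)⁻¹ = k * (g * a * g⁻¹) * k⁻¹ by group, hga,
      conj_eq_self_iff.2 kx]
  · rw [show k * g * b * (k * g)⁻¹ = k * (g * b * g⁻¹) * k⁻¹ by group, hgb,
      conj_eq_self_iff.2 ky]

theorem card_centralizer_two {a b : G} (ha : a ∈ D) (hb : b ∈ nb D a) :
    Nat.card ↥(Subgroup.centralizer ({a} : Set G) ⊓ Subgroup.centralizer ({b} : Set G)) =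
      26542080 := by
  have h := orbit_card (Subgroup.centralizer ({a} : Set G)) (Subgroup.centralizer ({b} : Set G))
    (nb D a) (fun g => g * b * g⁻¹) ?_ (fun k _ k' _ => conj_eq_iff)
  · rw [card_centralizer hD hprim h22 ha, ncard_nb hD hprim h22 ha] at h
    omega
  · ext y
    constructor
    · rintro ⟨g, hg, rfl⟩
      have hga := conj_eq_self_iff.2 ((mem_centralizer_iff_commute hD hprim h22).1 hg)
      exact hga ▸ Cover.conj_nb hD g hb
    · intro hy
      obtain ⟨g, hga, hgb⟩ := pair_trans hD hprim h22 ha hb ha hy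
      exact ⟨g, (mem_centralizer_iff_commute hD hprim h22).2 (conj_eq_self_iff.1 hga), hgb⟩

theorem card_centralizer_three {a b c : G} (ha : a ∈ D) (hb : b ∈ nb D a)
    (hc : c ∈ nb D a ∩ nb D b) :
    Nat.card ↥((Subgroup.centralizer ({a} : Set G) ⊓ Subgroup.centralizer ({b} : Set G)) ⊓
      Subgroup.centralizer ({c} : Set G)) = 147456 := by
  have h := orbit_card (Subgroup.centralizer ({a} : Set G) ⊓ Subgroup.centralizer ({b} : Set G))
    (Subgroup.centralizer ({c} : Set G)) (nb D a ∩ nb D b) (fun g => g * c * g⁻¹) ?_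
    (fun k _ k' _ => conj_eq_iff)
  · rw [card_centralizer_two hD hprim h22 ha hb, ncard_nb_inter hD hprim h22 ha hb] at h
    omega
  · ext y
    constructor
    · rintro ⟨g, ⟨hga, hgb⟩, rfl⟩
      have ea := conj_eq_self_iff.2 ((mem_centralizer_iff_commute hD hprim h22).1 hga)
      have eb := conj_eq_self_iff.2 ((mem_centralizer_iff_commute hD hprim h22).1 hgb)
      exact ⟨ea ▸ Cover.conj_nb hD g hc.1, eb ▸ Cover.conj_nb hD g hc.2⟩
    · intro hy
      obtain ⟨g, hga, hgb, hgc⟩ := link_pair hD hprim h22 ha hb hc hy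
      exact ⟨g, ⟨(mem_centralizer_iff_commute hD hprim h22).2 hga,
        (mem_centralizer_iff_commute hD hprim h22).2 hgb⟩, hgc⟩

/-- The centraliser of the product of a commuting pair. -/
theorem card_centralizer_pair {a b : G} (ha : a ∈ D) (hb : b ∈ nb D a) :
    Nat.card ↥(Subgroup.centralizer ({a * b} : Set G)) = 53084160 := by
  have h4 : Factor.Rel 4 D := (Factor.M22_core hD h22).2.1.mono (by norm_num)
  have hba : a ∈ nb D b := Cover.mem_nb_symm ha hb
  have h := orbit_card (Subgroup.centralizer ({a * b} : Set G))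
    (Subgroup.centralizer ({a} : Set G) ⊓ Subgroup.centralizer ({b} : Set G))
    ({(a, b), (b, a)} : Set (G × G)) (fun g => (g * a * g⁻¹, g * b * g⁻¹)) ?_
    (fun k _ k' _ => by
      rw [Prod.ext_iff, Subgroup.mem_inf]
      exact and_congr conj_eq_iff conj_eq_iff)
  · rw [inf_eq_right.2, card_centralizer_two hD hprim h22 ha hb, Set.ncard_pair] at h
    · omega
    · exact fun e => hb.2.1 (congrArg Prod.fst e).symm
    · intro g hg
      rw [mem_centralizer_iff_commute hD hprim h22]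
      exact ((mem_centralizer_iff_commute hD hprim h22).1 hg.1).mul_right
        ((mem_centralizer_iff_commute hD hprim h22).1 hg.2)
  · ext ⟨x, y⟩
    constructor
    · rintro ⟨g, hg, he⟩
      simp only [Prod.mk.injEq] at he
      obtain ⟨rfl, rfl⟩ := he
      have e : a * b = g * a * g⁻¹ * (g * b * g⁻¹) := by
        rw [show g * a * g⁻¹ * (g * b * g⁻¹) = g * (a * b) * g⁻¹ by group,
          conj_eq_self_iff.2 ((mem_centralizer_iff_commute hD hprim h22).1 hg)]
      have hn := Cover.conj_nb hD g hb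
      rcases Factor.pair_unique hD h4 ha hb.1 (hD.2.1 g a ha) hn.1 hb.2.1.symm hn.2.1.symm hb.2.2
        hn.2.2 e with ⟨h1, h2⟩ | ⟨h1, h2⟩ <;> simp [h1, h2]
    · intro hxy
      simp only [Set.mem_insert_iff, Set.mem_singleton_iff, Prod.mk.injEq] at hxy
      rcases hxy with ⟨rfl, rfl⟩ | ⟨rfl, rfl⟩
      · exact ⟨1, one_mem _, by simp⟩
      · obtain ⟨g, h1, h2⟩ := pair_trans hD hprim h22 ha hb hb.1 hba
        refine ⟨g, (mem_centralizer_iff_commute hD hprim h22).2 (conj_eq_self_iff.1 ?_), by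
          simp [h1, h2]⟩
        rw [show g * (y * x) * g⁻¹ = g * y * g⁻¹ * (g * x * g⁻¹) by group, h1, h2, hb.2.2.eq]

/-- The centraliser of the product of a commuting triple. -/
theorem card_centralizer_triple {a b c : G} (ha : a ∈ D) (hb : b ∈ nb D a)
    (hc : c ∈ nb D a ∩ nb D b) :
    Nat.card ↥(Subgroup.centralizer ({a * b * c} : Set G)) = 1769472 := by
  classical
  haveI : Fact (Nat.Prime 2) := ⟨Nat.prime_two⟩
  haveI : Fact (Nat.Prime 3) := ⟨Nat.prime_three⟩
  obtain ⟨j, hj⟩ : ∃ j, j = a * b * c := ⟨_, rfl⟩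
  rw [← hj]
  let OK : List G → Prop := fun l => l.Nodup ∧ l.length = 3 ∧ (∀ x ∈ l, x ∈ D) ∧
    (∀ x ∈ l, ∀ y ∈ l, Commute x y) ∧ l.prod = j
  let T : Set (List G) := {l | OK l}
  have hOK0 : OK [a, b, c] := by
    refine ⟨?_, rfl, ?_, ?_, by rw [hj]; simp [mul_assoc]⟩
    · simp [hb.2.1.symm, hc.1.2.1.symm, hc.2.2.1.symm]
    · simp [ha, hb.1, hc.1.1]
    · simp [hb.2.2, hb.2.2.symm, hc.1.2.2, hc.1.2.2.symm, hc.2.2.2, hc.2.2.2.symm]
  obtain ⟨l₁, l₂, ⟨n1, e1, m1, c1, p1⟩, ⟨n2, e2, m2, c2, p2⟩, hne, hall⟩ :=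
    (Cfsg.Agent.S5463.result hD hprim a ha (d₀_cores hD hprim h22 ha 3)
      (d₀_cores hD hprim h22 ha 2) h22).2 j [a, b, c] hOK0
  have hperm : ∀ l₀ l : List G, OK l₀ → l.Perm l₀ → OK l := by
    rintro l₀ l ⟨hn, hl, hm, hcm, hp⟩ hpm
    refine ⟨hpm.nodup_iff.2 hn, hpm.length_eq.trans hl, fun x hx => hm x (hpm.mem_iff.1 hx),
      fun x hx y hy => hcm x (hpm.mem_iff.1 hx) y (hpm.mem_iff.1 hy), ?_⟩
    rw [← hp]
    exact hpm.prod_eq' (List.Pairwise.imp_of_mem (fun hx hy _ =>
      hcm _ (hpm.mem_iff.1 hx) _ (hpm.mem_iff.1 hy)) (hpm.nodup_iff.2 hn))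
  have hT : T = ↑(l₁.permutations.toFinset ∪ l₂.permutations.toFinset) := by
    ext l
    simp only [T, Set.mem_ofPred_eq, Finset.coe_union, Set.mem_union, Finset.mem_coe,
      List.mem_toFinset, List.mem_permutations]
    constructor
    · intro hl
      rcases hall l hl with h | h
      · exact Or.inl ((List.perm_ext_iff_of_nodup hl.1 n1).2 h)
      · exact Or.inr ((List.perm_ext_iff_of_nodup hl.1 n2).2 h)
    · rintro (h | h)
      exacts [hperm l₁ l ⟨n1, e1, m1, c1, p1⟩ h, hperm l₂ l ⟨n2, e2, m2, c2, p2⟩ h]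
  have hTcard : T.ncard = 12 := by
    rw [hT, Set.ncard_coe_finset, Finset.card_union_of_disjoint,
      List.toFinset_card_of_nodup (List.nodup_permutations _ n1),
      List.toFinset_card_of_nodup (List.nodup_permutations _ n2), List.length_permutations,
      List.length_permutations, e1, e2]
    · rfl
    · rw [Finset.disjoint_left]
      intro l h h'
      rw [List.mem_toFinset, List.mem_permutations] at h h'
      exact hne fun x => (h.symm.trans h').mem_iff
  have hin : ∀ g : G, (g ∈ (Subgroup.centralizer ({a} : Set G) ⊓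
      Subgroup.centralizer ({b} : Set G)) ⊓ Subgroup.centralizer ({c} : Set G)) →
      g ∈ Subgroup.centralizer ({j} : Set G) := by
    rintro g ⟨⟨ga, gb⟩, gc⟩
    rw [mem_centralizer_iff_commute hD hprim h22, hj]
    exact (((mem_centralizer_iff_commute hD hprim h22).1 ga).mul_right
      ((mem_centralizer_iff_commute hD hprim h22).1 gb)).mul_right
      ((mem_centralizer_iff_commute hD hprim h22).1 gc)
  have h := orbit_card (Subgroup.centralizer ({j} : Set G))
    ((Subgroup.centralizer ({a} : Set G) ⊓ Subgroup.centralizer ({b} : Set G)) ⊓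
      Subgroup.centralizer ({c} : Set G)) T
    (fun g => [g * a * g⁻¹, g * b * g⁻¹, g * c * g⁻¹]) ?_
    (fun k _ k' _ => by
      simp only [List.cons.injEq, and_true, Subgroup.mem_inf]
      rw [conj_eq_iff, conj_eq_iff, conj_eq_iff, and_assoc])
  · rw [inf_eq_right.2 hin, card_centralizer_three hD hprim h22 ha hb hc, hTcard] at h
    rw [h]
  · ext l
    constructor
    · rintro ⟨g, hg, rfl⟩
      obtain ⟨hn, hl, hm, hcm, hp⟩ := hOK0
      refine ⟨?_, rfl, ?_, ?_, ?_⟩
      · exact hn.map (MulAut.conj g).injective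
      · intro x hx
        obtain ⟨y, hy, rfl⟩ := List.mem_map.1 (show x ∈ [a, b, c].map (MulAut.conj g) from hx)
        exact hD.2.1 g y (hm y hy)
      · intro x hx y hy
        obtain ⟨p, hp', rfl⟩ := List.mem_map.1 (show x ∈ [a, b, c].map (MulAut.conj g) from hx)
        obtain ⟨q, hq', rfl⟩ := List.mem_map.1 (show y ∈ [a, b, c].map (MulAut.conj g) from hy)
        exact (hcm p hp' q hq').map (MulAut.conj g).toMonoidHom
      · show ([a, b, c].map (MulAut.conj g)).prod = j
        rw [← map_list_prod, hp]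
        exact conj_eq_self_iff.2 ((mem_centralizer_iff_commute hD hprim h22).1 hg)
    · intro hl
      obtain ⟨hn, hlen, hm, hcm, hp⟩ := hl
      obtain ⟨x, y, z, rfl⟩ := List.length_eq_three.1 hlen
      simp only [List.nodup_cons, List.mem_cons, List.not_mem_nil, or_false, not_or,
        List.nodup_nil, and_true, not_false_eq_true] at hn
      obtain ⟨g, ga, gb, gc⟩ := triple_trans hD hprim h22 ha hb hc (hm x (by simp))
        (y := y) ⟨hm y (by simp), Ne.symm hn.1.1, hcm x (by simp) y (by simp)⟩ (z := z)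
        ⟨⟨hm z (by simp), Ne.symm hn.1.2, hcm x (by simp) z (by simp)⟩,
          hm z (by simp), Ne.symm hn.2, hcm y (by simp) z (by simp)⟩
      refine ⟨g, (mem_centralizer_iff_commute hD hprim h22).2 (conj_eq_self_iff.1 ?_),
        by simp [ga, gb, gc]⟩
      rw [hj, show g * (a * b * c) * g⁻¹ = g * a * g⁻¹ * (g * b * g⁻¹) * (g * c * g⁻¹) by group,
        ga, gb, gc, ← hj, ← hp]
      simp [mul_assoc]

end Cfsg.Agent.ThreeTransp.M22
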