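import Cfsg.Agent.Lib.ThreeTransp.M22.Graph

/-!
Commuting sets among the common neighbours of two non-commuting members of a group of type M(22).
-/

set_option autoImplicit false
set_option linter.unusedSectionVars false

namespace Cfsg.Agent.ThreeTransp.M22

open Matrix Cfsg.Agent.Classical.Unitary
open Cfsg.Agent.Forms
open Cfsg.Agent.GroupStructure3.ThreeTransUnitary
open Cfsg.Agent.ThreeTransp
open Cfsg.Agent.ThreeTransp.Factor (nb)

variable {G : Type*} [Group G] {D : Set G}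

section span

variable {F : Type*} [Field F] [Fintype F]

local notation "Vec" => (Fin 6 → F)
local notation "H" => Cfsg.hermForm 6 F 2

/-- A vector orthogonal to a hyperbolic pair and in the span of it and further such vectors lies in
the span of these. -/
theorem Count.span_perp {u v y : Vec} (hu : H u u = 0) (hv : H v v = 0) (h : H u v ≠ 0)
    (h' : H v u ≠ 0) {S : Set Vec} (hS : ∀ s ∈ S, H s u = 0 ∧ H s v = 0)
    (hy : y ∈ Submodule.span F (S ∪ {v, u})) (hyu : H y u = 0) (hyv : H y v = 0) :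
    y ∈ Submodule.span F S := by
  rw [Submodule.span_union, Submodule.mem_sup] at hy
  obtain ⟨s, hs, t, ht, rfl⟩ := hy
  have hs0 : H s u = 0 ∧ H s v = 0 := by
    clear hyu hyv
    induction hs using Submodule.span_induction with
    | mem x hx => exact hS x hx
    | zero => exact ⟨H_zero_left u, H_zero_left v⟩
    | add x z _ _ ih ih' =>
      exact ⟨by rw [H_add_left, ih.1, ih'.1, add_zero], by rw [H_add_left, ih.2, ih'.2, add_zero]⟩
    | smul c x _ ih =>
      exact ⟨by rw [H_smul_left, ih.1, mul_zero], by rw [H_smul_left, ih.2, mul_zero]⟩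
  obtain ⟨α, β, rfl⟩ := Submodule.mem_span_pair.1 ht
  simp only [H_add_left, H_smul_left, hs0.1, hs0.2, hu, hv, mul_zero, add_zero, zero_add]
    at hyu hyv
  rw [(mul_eq_zero.1 hyu).resolve_right h', (mul_eq_zero.1 hyv).resolve_right h, zero_smul,
    zero_smul, add_zero, add_zero]
  exact hs

end span

namespace Chart

variable {a : G} (C : Chart D a)
include C

local notation "H" => Cfsg.hermForm 6 C.F 2

theorem clique_le {x z : G} (hx : x ∈ nb D a) (hz : z ∈ nb D a) (hnc : ¬ Commute x z)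
    {E : Set G} (hE : E ⊆ nb D a ∩ nb D x ∩ nb D z)
    (hc : ∀ p ∈ E, ∀ q ∈ E, Commute p q) : E.ncard ≤ 5 := by
  classical
  obtain ⟨u, hu0, hu, rfl⟩ := C.cover x hx
  obtain ⟨v, hv0, hv, rfl⟩ := C.cover z hz
  have huv : H u v ≠ 0 := fun e => hnc ((C.comm_iff u v hu0 hu hv0 hv).2 e)
  have hvu : H v u ≠ 0 := fun e => huv ((H_eq_zero_comm C.hF).1 e)
  set P : Set (Fin 6 → C.F) := {w | w ≠ 0 ∧ H w w = 0 ∧ C.f w ∈ E} with hP
  have hperp : ∀ w ∈ P, H w u = 0 ∧ H w v = 0 := fun w hw =>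
    ⟨(C.comm_iff w u hw.1 hw.2.1 hu0 hu).1 (hE hw.2.2).1.2.2.2.symm,
      (C.comm_iff w v hw.1 hw.2.1 hv0 hv).1 (hE hw.2.2).2.2.2.symm⟩
  have horth : ∀ p ∈ P, ∀ q ∈ P, H p q = 0 := fun p hp q hq =>
    (C.comm_iff p q hp.1 hp.2.1 hq.1 hq.2.1).1 (hc _ hp.2.2 _ hq.2.2)
  have himg : C.f '' P = E := by
    ext y
    constructor
    · rintro ⟨w, hw, rfl⟩; exact hw.2.2
    · intro hy
      obtain ⟨w, h0, hw, rfl⟩ := C.cover y (hE hy).1.1
      exact ⟨w, ⟨h0, hw, hy⟩, rfl⟩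
  have h3 := Count.points C.hF C.f (P := P) (fun w hw => hw.1) (by
      rintro w ⟨hw0, hw, hwE⟩ c hc'
      have hcw : H (c • w) (c • w) = 0 := by rw [H_smul_left, H_smul_right, hw, mul_zero, mul_zero]
      exact ⟨smul_ne_zero hc' hw0, hcw,
        (C.eq_iff w (c • w) hw0 hw (smul_ne_zero hc' hw0) hcw).2 ⟨c, rfl⟩ ▸ hwE⟩)
    fun w hw w' hw' => C.eq_iff w w' hw.1 hw.2.1 hw'.1 hw'.2.1
  rw [himg] at h3
  obtain ⟨p, q, hspan⟩ : ∃ p q, ∀ w ∈ P, w ∈ Submodule.span C.F ({p, q} : Set (Fin 6 → C.F)) := by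
    by_contra! hcon
    obtain ⟨p, hp, hp0⟩ := hcon 0 0
    obtain ⟨q, hq, hq0⟩ := hcon p 0
    obtain ⟨r, hr, hr0⟩ := hcon p q
    have hl : ∀ {y : Fin 6 → C.F} (S : Set (Fin 6 → C.F)) (l : List (Fin 6 → C.F)),
        (∀ s ∈ S, s ∈ P) → {x | x ∈ l} = S ∪ {v, u} → y ∈ P → y ∉ Submodule.span C.F S →
        y ∉ Submodule.span C.F {x | x ∈ l} := by
      intro y S l hS hlS hy hn hm
      rw [hlS] at hm
      exact hn (Count.span_perp hu hv huv hvu (fun s hs => hperp s (hS s hs)) hm (hperp y hy).1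
        (hperp y hy).2)
    have k1 := Count.card_K_cons C.hF (hl (y := p) ∅ [v, u] (by simp) (by ext; simp) hp
      (by rw [Submodule.span_empty, Submodule.mem_bot]; exact hp.1))
    have k2 := Count.card_K_cons C.hF (hl (y := q) {p} [p, v, u] (by simp [hp]) (by ext; simp; tauto)
      hq (fun h => hq0 (Submodule.span_mono (by simp) h)))
    have k3 := Count.card_K_cons C.hF (hl (y := r) {p, q} [q, p, v, u]
      (by rintro s (rfl | rfl) <;> assumption) (by ext; simp; tauto) hr hr0)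
    rw [Count.K_two C.hF hu hu0 (Count.not_smul_of_cross C.hF hu huv)] at k1
    let φ : C.F × C.F → (Fin 6 → C.F) := fun s => s.1 • p + s.2 • q
    have hφ : ∀ s, φ s ∈ Count.K [r, q, p, v, u] := by
      intro s w hw
      simp only [List.mem_cons, List.not_mem_nil, or_false] at hw
      rcases hw with h | h | h | h | h <;> subst w <;>
        simp [φ, H_add_left, H_smul_left, horth p hp, horth q hq, hr, hp, hq,
          (hperp p hp).1, (hperp p hp).2, (hperp q hq).1, (hperp q hq).2]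
    have hinj : Function.Injective φ := by
      intro s t hst
      simp only [φ] at hst
      have h2 : (s.2 - t.2) • q = (t.1 - s.1) • p := by linear_combination (norm := module) hst
      have hs2 : s.2 = t.2 := by
        by_contra hne
        refine hq0 ?_
        rw [← inv_smul_smul₀ (sub_ne_zero.2 hne) q, h2]
        exact Submodule.smul_mem _ _ (Submodule.smul_mem _ _ (Submodule.subset_span (by simp)))
      rw [hs2, sub_self, zero_smul] at h2
      exact Prod.ext (sub_eq_zero.1 ((smul_eq_zero.1 h2.symm).resolve_right hp.1)).symm hs2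
    have hle := Nat.card_le_card_of_injective (fun s => (⟨φ s, hφ s⟩ : Count.K [r, q, p, v, u]))
      (fun s t h => hinj (congrArg Subtype.val h))
    rw [Nat.card_prod, Count.natCard_F C.hF, Nat.card_coe_set_eq] at hle
    omega
  set φ : C.F × C.F → (Fin 6 → C.F) := fun s => s.1 • p + s.2 • q with hφ
  have hsub : insert 0 P ⊆ φ '' Set.univ := by
    rintro w (rfl | hw)
    · exact ⟨0, trivial, by simp [hφ]⟩
    · obtain ⟨α, β, h⟩ := Submodule.mem_span_pair.1 (hspan w hw)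
      exact ⟨(α, β), trivial, h⟩
  have hle := (Set.ncard_le_ncard hsub (Set.toFinite _)).trans (Set.ncard_image_le (Set.toFinite _))
  rw [Set.ncard_insert_of_notMem (fun h => h.1 rfl) (Set.toFinite _), Set.ncard_univ,
    Nat.card_prod, Count.natCard_F C.hF] at hle
  omega

theorem exists_five {x z : G} (hx : x ∈ nb D a) (hz : z ∈ nb D a) (hnc : ¬ Commute x z) :
    ∃ E ⊆ nb D a ∩ nb D x ∩ nb D z, (∀ p ∈ E, ∀ q ∈ E, Commute p q) ∧ E.ncard = 5 := by
  classical
  obtain ⟨y, hy⟩ := Set.nonempty_of_ncard_ne_zero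
    ((C.ncard_cross hx hz hnc).trans_ne (by norm_num : (45 : ℕ) ≠ 0))
  obtain ⟨y', hy'⟩ := Set.nonempty_of_ncard_ne_zero
    ((C.ncard_three hx hz hnc hy).trans_ne (by norm_num : (12 : ℕ) ≠ 0))
  obtain ⟨u, hu0, hu, rfl⟩ := C.cover x hx
  obtain ⟨v, hv0, hv, rfl⟩ := C.cover z hz
  obtain ⟨p, hp0, hp, rfl⟩ := C.cover y hy.1.1
  obtain ⟨q, hq0, hq, rfl⟩ := C.cover y' hy'.1.1.1
  have hpu : H p u = 0 := (C.comm_iff p u hp0 hp hu0 hu).1 hy.1.2.2.2.symm
  have hpv : H p v = 0 := (C.comm_iff p v hp0 hp hv0 hv).1 hy.2.2.2.symm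
  have hqu : H q u = 0 := (C.comm_iff q u hq0 hq hu0 hu).1 hy'.1.1.2.2.2.symm
  have hqv : H q v = 0 := (C.comm_iff q v hq0 hq hv0 hv).1 hy'.1.2.2.2.symm
  have hqp : H q p = 0 := (C.comm_iff q p hq0 hq hp0 hp).1 hy'.2.2.2.symm
  have hpq : H p q = 0 := (H_eq_zero_comm C.hF).1 hqp
  have hne : ∀ c : C.F, q ≠ c • p := C.not_smul hp0 hp hq0 hq (Ne.symm hy'.2.2.1)
  set φ : C.F × C.F → (Fin 6 → C.F) := fun s => s.1 • p + s.2 • q with hφ
  have hperp : ∀ s t, H (φ s) (φ t) = 0 := fun s t => by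
    simp [hφ, H_add_left, H_add_right C.hF, H_smul_left, H_smul_right, hp, hq, hpq, hqp]
  have hsu : ∀ s, H (φ s) u = 0 ∧ H (φ s) v = 0 := fun s => by
    simp [hφ, H_add_left, H_smul_left, hpu, hpv, hqu, hqv]
  have hφi : Function.Injective φ := by
    intro s t hst
    simp only [hφ] at hst
    have h2 : (s.2 - t.2) • q = (t.1 - s.1) • p := by linear_combination (norm := module) hst
    have hs2 : s.2 = t.2 := by
      by_contra hne'
      refine hne ((s.2 - t.2)⁻¹ * (t.1 - s.1)) ?_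
      rw [mul_smul, ← h2, inv_smul_smul₀ (sub_ne_zero.2 hne')]
    rw [hs2, sub_self, zero_smul] at h2
    exact Prod.ext (sub_eq_zero.1 ((smul_eq_zero.1 h2.symm).resolve_right hp0)).symm hs2
  have hφ0 : φ 0 = 0 := by simp [hφ]
  set P : Set (Fin 6 → C.F) := φ '' {0}ᶜ with hP
  have hP0 : ∀ w ∈ P, w ≠ 0 ∧ H w w = 0 := by
    rintro _ ⟨s, hs, rfl⟩
    exact ⟨fun e => hs (hφi (e.trans hφ0.symm)), hperp s s⟩
  refine ⟨C.f '' P, ?_, ?_, ?_⟩
  · rw [← C.image_cross hu0 hu hv0 hv hnc]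
    rintro _ ⟨w, hw, rfl⟩
    refine ⟨w, ⟨⟨?_, (hP0 w hw).2⟩, (hP0 w hw).1⟩, rfl⟩
    obtain ⟨s, -, rfl⟩ := hw
    simp [Count.K, hsu s]
  · rintro _ ⟨w, hw, rfl⟩ _ ⟨w', hw', rfl⟩
    refine (C.comm_iff w w' (hP0 w hw).1 (hP0 w hw).2 (hP0 w' hw').1 (hP0 w' hw').2).2 ?_
    obtain ⟨s, -, rfl⟩ := hw
    obtain ⟨t, -, rfl⟩ := hw'
    exact hperp s t
  · have h := Count.points C.hF C.f (P := P) (fun w hw => (hP0 w hw).1) ?_
      (fun w hw w' hw' => C.eq_iff w w' (hP0 w hw).1 (hP0 w hw).2 (hP0 w' hw').1 (hP0 w' hw').2)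
    · rw [hP, Set.ncard_image_of_injective _ hφi] at h
      have hc := Set.ncard_add_ncard_compl ({0} : Set (C.F × C.F))
      rw [Set.ncard_singleton, Nat.card_prod, Count.natCard_F C.hF] at hc
      rw [hP]
      omega
    · rintro _ ⟨s, hs, rfl⟩ c hc
      refine ⟨(c * s.1, c * s.2), fun e => hs ?_, ?_⟩
      · simp only [Set.mem_singleton_iff, Prod.ext_iff, Prod.fst_zero, Prod.snd_zero,
          mul_eq_zero, hc, false_or] at e ⊢
        exact e
      · simp [hφ, smul_add, smul_smul]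

end Chart

variable [Finite G] (hD : Cfsg.IsThreeTranspositionGroup D)
  (hprim : Cfsg.IsPrimitiveUnderConj D) (h22 : Cfsg.IsOfTypeM22 G D)
include hD hprim h22

theorem pair_clique_le {a c : G} (ha : a ∈ D) (hc : c ∈ D) (hac : ¬ Commute a c) {E : Set G}
    (hE : E ⊆ nb D a ∩ nb D c) (hcm : ∀ p ∈ E, ∀ q ∈ E, Commute p q) : E.ncard ≤ 6 := by
  rcases E.eq_empty_or_nonempty with rfl | ⟨w, hw⟩
  · simp
  obtain ⟨C⟩ := exists_chart hD h22 (hE hw).1.1
  have := C.clique_le (Cover.mem_nb_symm ha (hE hw).1) (Cover.mem_nb_symm hc (hE hw).2) hac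
    (E := E \ {w}) (fun y hy => ⟨⟨⟨(hE hy.1).1.1, hy.2, hcm w hw y hy.1⟩, (hE hy.1).1⟩,
      (hE hy.1).2⟩) fun p hp q hq => hcm p hp.1 q hq.1
  rw [Set.ncard_sdiff_singleton_of_mem hw] at this
  omega

theorem exists_pair_clique {a c : G} (ha : a ∈ D) (hc : c ∈ D) (hac : ¬ Commute a c) :
    ∃ E ⊆ nb D a ∩ nb D c, (∀ p ∈ E, ∀ q ∈ E, Commute p q) ∧ E.ncard = 6 := by
  obtain ⟨w, hw⟩ := inter_nonempty hD hprim h22 ha hc hac
  obtain ⟨C⟩ := exists_chart hD h22 hw.1.1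
  obtain ⟨E, hE, hcm, hcard⟩ := C.exists_five (Cover.mem_nb_symm ha hw.1)
    (Cover.mem_nb_symm hc hw.2) hac
  refine ⟨insert w E, Set.insert_subset hw fun y hy => ⟨(hE hy).1.2, (hE hy).2⟩, ?_, ?_⟩
  · rintro p (rfl | hp) q (rfl | hq)
    exacts [Commute.refl _, (hE hq).1.1.2.2, (hE hp).1.1.2.2.symm, hcm p hp q hq]
  · rw [Set.ncard_insert_of_notMem (fun h => (hE h).1.1.2.1 rfl) (Set.toFinite _), hcard]

end Cfsg.Agent.ThreeTransp.M22
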