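import Cfsg.Agent.Lib.ThreeTransp.M22.Local

/-!
Sets of pairwise commuting neighbours that commute with two non-commuting neighbours: at most five,
and five occur.
-/

set_option autoImplicit false
set_option linter.unusedSectionVars false

namespace Cfsg.Agent.ThreeTransp.M22

open Matrix Cfsg.Agent.Classical.Unitary
open Cfsg.Agent.Forms
open Cfsg.Agent.GroupStructure3.ThreeTransUnitary
open Cfsg.Agent.ThreeTransp
open Cfsg.Agent.ThreeTransp.Factor (Hd Dl nb mem_Hd)

universe u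

variable {G : Type u} [Group G] [Finite G] {D : Set G}

section

variable {a : G} (C : Chart D a)
include C

local notation "H" => Cfsg.hermForm 6 C.F 2

theorem le_five {x z : G} (hx : x ∈ nb D a) (hz : z ∈ nb D a) (hnc : ¬ Commute x z) {E : Set G}
    (hE : E ⊆ nb D a ∩ nb D x ∩ nb D z) (hc : ∀ p ∈ E, ∀ q ∈ E, Commute p q) : E.ncard ≤ 5 := by
  classical
  obtain ⟨u, hu0, hu, rfl⟩ := C.cover x hx
  obtain ⟨v, hv0, hv, rfl⟩ := C.cover z hz
  have huv : H u v ≠ 0 := fun e => hnc ((C.comm_iff u v hu0 hu hv0 hv).2 e)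
  set P : Set (Fin 6 → C.F) := {w | w ≠ 0 ∧ H w w = 0 ∧ C.f w ∈ E} with hP
  have himg : C.f '' P = E := by
    ext y
    constructor
    · rintro ⟨w, hw, rfl⟩; exact hw.2.2
    · intro hy
      obtain ⟨w, h0, hw, rfl⟩ := C.cover y (hE hy).1.1
      exact ⟨w, ⟨h0, hw, hy⟩, rfl⟩
  have hperp : ∀ w ∈ P, H w u = 0 ∧ H w v = 0 := fun w hw =>
    ⟨(C.comm_iff w u hw.1 hw.2.1 hu0 hu).1 (hE hw.2.2).1.2.2.2.symm,
      (C.comm_iff w v hw.1 hw.2.1 hv0 hv).1 (hE hw.2.2).2.2.2.symm⟩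
  have h3 := Count.points C.hF C.f (P := P) (fun w hw => hw.1) ?_
    (fun w hw w' hw' => C.eq_iff w w' hw.1 hw.2.1 hw'.1 hw'.2.1)
  · obtain ⟨p, q, r, hspan⟩ := Count.plane C.hF (S := insert u P) (by
      rintro w (rfl | hw) w' (rfl | hw')
      · exact hu
      · exact (C.comm_iff _ _ hu0 hu hw'.1 hw'.2.1).1 (hE hw'.2.2).1.2.2.2
      · exact (hperp w hw).1
      · exact (C.comm_iff w w' hw.1 hw.2.1 hw'.1 hw'.2.1).1 (hc _ hw.2.2 _ hw'.2.2))
    set W := Submodule.span C.F P with hW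
    set U := Submodule.span C.F (insert u P) with hU
    have hU3 : Module.finrank C.F U ≤ 3 := by
      refine (Submodule.finrank_mono (Submodule.span_le.2 fun w hw => hspan w hw)).trans ?_
      refine (finrank_span_le_card _).trans ?_
      rw [Set.toFinset_card, ← Nat.card_eq_fintype_card, Nat.card_coe_set_eq]
      refine (Set.ncard_insert_le _ _).trans ?_
      have := Set.ncard_insert_le q ({r} : Set (Fin 6 → C.F))
      rw [Set.ncard_singleton] at this
      omega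
    have huW : u ∉ W := by
      suffices h : ∀ w ∈ Submodule.span C.F P, H w v = 0 from fun h' => huv (h u h')
      intro w h
      induction h using Submodule.span_induction with
      | mem w hw => exact (hperp w hw).2
      | zero => exact H_zero_left v
      | add s t _ _ hs ht => rw [H_add_left, hs, ht, add_zero]
      | smul c s _ hs => rw [H_smul_left, hs, mul_zero]
    have hlt : W < U := lt_of_le_of_ne (Submodule.span_mono (Set.subset_insert _ _))
      fun e => huW (e ▸ Submodule.subset_span (Set.mem_insert _ _))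
    have hW2 : Module.finrank C.F W ≤ 2 := by
      have := Submodule.finrank_lt_finrank_of_lt hlt
      omega
    have hcard : Nat.card W ≤ 4 ^ 2 := by
      rw [Module.natCard_eq_pow_finrank (K := C.F), Count.natCard_F C.hF]
      exact Nat.pow_le_pow_right (by norm_num) hW2
    have hsub : insert 0 P ⊆ (W : Set (Fin 6 → C.F)) := by
      rintro w (rfl | hw)
      · exact W.zero_mem
      · exact Submodule.subset_span hw
    have hle := Set.ncard_le_ncard hsub (Set.toFinite _)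
    rw [Set.ncard_insert_of_notMem (fun h => h.1 rfl) (Set.toFinite _)] at hle
    have hWc : (W : Set (Fin 6 → C.F)).ncard = Nat.card W := (Nat.card_coe_set_eq _).symm
    rw [himg] at h3
    omega
  · rintro w ⟨hw0, hw, hwE⟩ c hc
    have hcw : H (c • w) (c • w) = 0 := by rw [H_smul_left, H_smul_right, hw, mul_zero, mul_zero]
    exact ⟨smul_ne_zero hc hw0, hcw,
      (C.eq_iff w (c • w) hw0 hw (smul_ne_zero hc hw0) hcw).2 ⟨c, rfl⟩ ▸ hwE⟩

theorem exists_five {x z : G} (hx : x ∈ nb D a) (hz : z ∈ nb D a) (hnc : ¬ Commute x z) :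
    ∃ E ⊆ nb D a ∩ nb D x ∩ nb D z, (∀ p ∈ E, ∀ q ∈ E, Commute p q) ∧ E.ncard = 5 := by
  classical
  obtain ⟨p, hp⟩ := Set.nonempty_of_ncard_ne_zero
    ((C.ncard_cross hx hz hnc).trans_ne (by norm_num : (45 : ℕ) ≠ 0))
  obtain ⟨q, hq⟩ := Set.nonempty_of_ncard_ne_zero
    ((C.ncard_three hx hz hnc hp).trans_ne (by norm_num : (12 : ℕ) ≠ 0))
  obtain ⟨u, hu0, hu, rfl⟩ := C.cover x hx
  obtain ⟨v, hv0, hv, rfl⟩ := C.cover z hz
  obtain ⟨s, hs0, hs, rfl⟩ := C.cover p hp.1.1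
  obtain ⟨t, ht0, ht, rfl⟩ := C.cover q hq.1.1.1
  have hsu : H s u = 0 := (C.comm_iff s u hs0 hs hu0 hu).1 hp.1.2.2.2.symm
  have hsv : H s v = 0 := (C.comm_iff s v hs0 hs hv0 hv).1 hp.2.2.2.symm
  have htu : H t u = 0 := (C.comm_iff t u ht0 ht hu0 hu).1 hq.1.1.2.2.2.symm
  have htv : H t v = 0 := (C.comm_iff t v ht0 ht hv0 hv).1 hq.1.2.2.2.symm
  have hst : H s t = 0 := (C.comm_iff s t hs0 hs ht0 ht).1 hq.2.2.2
  have hts : H t s = 0 := (C.comm_iff t s ht0 ht hs0 hs).1 hq.2.2.2.symm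
  have hns : ∀ c : C.F, t ≠ c • s := C.not_smul hs0 hs ht0 ht hq.2.2.1.symm
  set φ : C.F × C.F → (Fin 6 → C.F) := fun k => k.1 • s + k.2 • t with hφ
  have hperp : ∀ k l, H (φ k) (φ l) = 0 := fun k l => by
    simp only [hφ, H_add_left, H_add_right C.hF, H_smul_left, H_smul_right, hs, ht, hst, hts, mul_zero,
      add_zero]
  have hφu : ∀ k, H (φ k) u = 0 ∧ H (φ k) v = 0 := fun k => by
    simp only [hφ, H_add_left, H_smul_left, hsu, hsv, htu, htv, mul_zero, add_zero, and_self]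
  have hφi : Function.Injective φ := fun k l h => by
    have h' : (k.1 - l.1) • s + (k.2 - l.2) • t = 0 := by
      simp only [hφ] at h
      rw [sub_smul, sub_smul]
      linear_combination (norm := abel) h
    by_cases h2 : k.2 - l.2 = 0
    · rw [h2, zero_smul, add_zero, smul_eq_zero] at h'
      exact Prod.ext (sub_eq_zero.1 (h'.resolve_right hs0)) (sub_eq_zero.1 h2)
    · refine absurd ?_ (hns (-(k.2 - l.2)⁻¹ * (k.1 - l.1)))
      rw [neg_mul, neg_smul, mul_smul, eq_neg_iff_add_eq_zero]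
      have := congrArg ((k.2 - l.2)⁻¹ • ·) h'
      simp only [smul_add, smul_zero, inv_smul_smul₀ h2] at this
      rw [add_comm]
      exact this
  have hφ0 : φ 0 = 0 := by simp [hφ]
  set P : Set (Fin 6 → C.F) := φ '' {0}ᶜ with hP
  have hP0 : ∀ w ∈ P, w ≠ 0 ∧ H w w = 0 := by
    rintro _ ⟨k, hk, rfl⟩
    exact ⟨fun e => hk (hφi (e.trans hφ0.symm)), hperp k k⟩
  refine ⟨C.f '' P, ?_, ?_, ?_⟩
  · rintro _ ⟨w, hw, rfl⟩
    have hm := C.mem w (hP0 w hw).1 (hP0 w hw).2
    have h1 : Commute (C.f w) (C.f u) ∧ Commute (C.f w) (C.f v) := by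
      obtain ⟨k, hk, rfl⟩ := hw
      exact ⟨(C.comm_iff _ u (hP0 _ ⟨k, hk, rfl⟩).1 (hperp k k) hu0 hu).2 (hφu k).1,
        (C.comm_iff _ v (hP0 _ ⟨k, hk, rfl⟩).1 (hperp k k) hv0 hv).2 (hφu k).2⟩
    exact ⟨⟨hm, hm.1, fun e => hnc (e ▸ h1.2), h1.1.symm⟩, hm.1,
      fun e => hnc (e ▸ h1.1).symm, h1.2.symm⟩
  · rintro _ ⟨w, hw, rfl⟩ _ ⟨w', hw', rfl⟩
    refine (C.comm_iff w w' (hP0 w hw).1 (hP0 w hw).2 (hP0 w' hw').1 (hP0 w' hw').2).2 ?_
    obtain ⟨k, -, rfl⟩ := hw
    obtain ⟨l, -, rfl⟩ := hw'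
    exact hperp k l
  · have h := Count.points C.hF C.f (P := P) (fun w hw => (hP0 w hw).1) ?_
      (fun w hw w' hw' => C.eq_iff w w' (hP0 w hw).1 (hP0 w hw).2 (hP0 w' hw').1 (hP0 w' hw').2)
    · rw [hP, Set.ncard_image_of_injective _ hφi] at h
      have hc := Set.ncard_add_ncard_compl ({0} : Set (C.F × C.F))
      rw [Set.ncard_singleton, Nat.card_prod, Count.natCard_F C.hF] at hc
      rw [hP]
      omega
    · rintro _ ⟨k, hk, rfl⟩ c hc
      refine ⟨(c * k.1, c * k.2), fun e => hk ?_, ?_⟩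
      · simp only [Set.mem_singleton_iff, Prod.ext_iff, Prod.fst_zero, Prod.snd_zero,
          mul_eq_zero, hc, false_or] at e ⊢
        exact e
      · simp [hφ, smul_add, smul_smul]

end

end Cfsg.Agent.ThreeTransp.M22
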