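import Cfsg.Agent.Lib.ThreeTransp.Factor.UnitarySix

/-!
Numbers of isotropic vectors of the six-dimensional unitary space over the field with four elements
orthogonal to a short list of vectors.
-/

set_option autoImplicit false
set_option linter.unusedSectionVars false

namespace Cfsg.Agent.ThreeTransp.M22.Count

open Matrix Cfsg.Agent.Classical.Unitary
open Cfsg.Agent.Forms
open Cfsg.Agent.GroupStructure3.ThreeTransUnitary
open Cfsg.Agent.ThreeTransp
open Cfsg.Agent.ThreeTransp.Factor.UnitarySix (exists_sep)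

variable {F : Type*} [Field F] [Fintype F]

local notation "Vec" => (Fin 6 → F)
local notation "H" => Cfsg.hermForm 6 F 2

/-- The vectors orthogonal to every member of the list. -/
def K (l : List Vec) : Set Vec := {x | ∀ w ∈ l, H x w = 0}

/-- The isotropic vectors among them. -/
def I (l : List Vec) : Set Vec := {x | x ∈ K l ∧ H x x = 0}

theorem mem_K_cons {w : Vec} {l : List Vec} {x : Vec} :
    x ∈ K (w :: l) ↔ H x w = 0 ∧ x ∈ K l := by simp [K]

theorem K_add {l : List Vec} {x y : Vec} (hx : x ∈ K l) (hy : y ∈ K l) : x + y ∈ K l :=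
  fun w hw => by rw [H_add_left, hx w hw, hy w hw, add_zero]

theorem K_smul {l : List Vec} {x : Vec} (s : F) (hx : x ∈ K l) : s • x ∈ K l :=
  fun w hw => by rw [H_smul_left, hx w hw, mul_zero]

variable (hF : Fintype.card F = 2 ^ 2)
include hF

theorem natCard_F : Nat.card F = 4 := by rw [Nat.card_eq_fintype_card, hF]; norm_num

/-- A set closed under translations by multiples of `z` meets each fibre of a functional with
value one at `z` equally often. -/
theorem fib {S : Set Vec} {w z : Vec} (hz : H z w = 1) (hS : ∀ s : F, ∀ x ∈ S, x + s • z ∈ S) :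
    S.ncard = 4 * {x | x ∈ S ∧ H x w = 0}.ncard := by
  set S0 : Set Vec := {x | x ∈ S ∧ H x w = 0} with hS0
  have key : Nat.card S = Nat.card (S0 × F) := by
    refine Nat.card_congr
      { toFun := fun x => (⟨x.1 + (-(H x.1 w)) • z, hS _ _ x.2, by
          rw [H_add_left, H_smul_left, hz, mul_one, add_neg_cancel]⟩, H x.1 w)
        invFun := fun p => ⟨p.1.1 + p.2 • z, hS _ _ p.1.2.1⟩
        left_inv := fun x => Subtype.ext (by module)
        right_inv := fun p => ?_ }
    have hp : H (p.1.1 + p.2 • z) w = p.2 := by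
      rw [H_add_left, H_smul_left, hz, p.1.2.2, mul_one, zero_add]
    refine Prod.ext (Subtype.ext ?_) hp
    show p.1.1 + p.2 • z + (-(H (p.1.1 + p.2 • z) w)) • z = p.1.1
    rw [hp]; module
  rw [Nat.card_prod, natCard_F hF, Nat.card_coe_set_eq, Nat.card_coe_set_eq] at key
  rw [key, mul_comm]

theorem card_K_nil : (K ([] : List Vec)).ncard = 4096 := by
  rw [show K ([] : List Vec) = Set.univ by ext x; simp [K], Set.ncard_univ,
    Nat.card_eq_fintype_card, Fintype.card_fun, Fintype.card_fin, hF]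
  norm_num

theorem card_I_nil : (I ([] : List Vec)).ncard = 2080 := by
  have h : (I ([] : List Vec)).ncard = Cfsg.Agent.Classical.UnitaryCount.cnt F 2 6 0 := by
    rw [Cfsg.Agent.Classical.UnitaryCount.cnt, ← Nat.card_coe_set_eq]
    exact Nat.card_congr (Equiv.subtypeEquivRight fun x => by simp [I, K])
  rw [h, Cfsg.Agent.Classical.UnitaryCount.cnt_zero_eq hF]
  decide

/-- Adjoining an independent vector. -/
theorem card_K_cons {w : Vec} {l : List Vec}
    (hw : w ∉ Submodule.span F {x | x ∈ l}) : (K l).ncard = 4 * (K (w :: l)).ncard := by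
  obtain ⟨z, hz, hzw⟩ := exists_sep hF hw
  have hzl : z ∈ K l := fun v hv => hz v hv
  rw [fib hF hzw fun s x hx => K_add hx (K_smul s hzl)]
  congr 2
  ext x
  rw [mem_K_cons]
  exact and_comm

/-- Adjoining an isotropic vector orthogonal to the list and independent of it. -/
theorem card_I_perp {w : Vec} {l : List Vec}
    (hw : w ∉ Submodule.span F {x | x ∈ l}) (hww : H w w = 0) (hwl : w ∈ K l) :
    2 * (I l).ncard = 2 * (I (w :: l)).ncard + 3 * (K (w :: l)).ncard := by
  classical
  obtain ⟨ω, h3, hω, hω0⟩ := UnitaryPoints.exists_omega hF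
  have h2 := two_zero hF
  obtain ⟨z, hz, hzw⟩ := exists_sep hF hw
  have hzl : z ∈ K l := fun v hv => hz v hv
  set T : F → Set Vec := fun c => {x | x ∈ I l ∧ H x w = c} with hT
  set N : Set Vec := {x | x ∈ K l ∧ H x w = 1 ∧ H x x = 1} with hN
  have hT0 : T 0 = I (w :: l) := by
    ext x
    simp only [hT, I, mem_K_cons, Set.mem_setOf_eq]
    tauto
  -- half of a fibre is isotropic
  have hsw : ∀ x : Vec, x ∈ K l → H x w = 1 →
      x + ω • w ∈ K l ∧ H (x + ω • w) w = 1 ∧ H (x + ω • w) (x + ω • w) = H x x + 1 := by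
    intro x hx hxw
    have hwx : H w x = 1 := by rw [← H_conj hF, hxw, one_pow]
    refine ⟨K_add hx (K_smul _ hwl), by rw [H_add_left, H_smul_left, hxw, hww, mul_zero, add_zero],
      ?_⟩
    simp only [H_add_left, H_add_right hF, H_smul_left, H_smul_right, hxw, hwx, hww, mul_one,
      mul_zero, add_zero]
    linear_combination hω - h2
  have hinv : ∀ x : Vec, x + ω • w + ω • w = x := fun x => by
    rw [add_assoc, ← add_smul, ← two_mul, h2, zero_mul, zero_smul, add_zero]
  have hTN : (T 1).ncard = N.ncard := by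
    refine Set.ncard_congr (fun x _ => x + ω • w) ?_ ?_ ?_
    · rintro x ⟨⟨hx, hxx⟩, hxw⟩
      obtain ⟨a, b, c⟩ := hsw x hx hxw
      exact ⟨a, b, by rw [c, hxx, zero_add]⟩
    · intro a b _ _ h
      exact add_right_cancel h
    · rintro y ⟨hy, hyw, hyy⟩
      obtain ⟨a, b, c⟩ := hsw y hy hyw
      exact ⟨y + ω • w, ⟨⟨a, by rw [c, hyy]; linear_combination h2⟩, b⟩, hinv y⟩
  have hfib : (T 1).ncard + N.ncard = (K (w :: l)).ncard := by
    rw [← Set.ncard_union_eq ?_ (Set.toFinite _) (Set.toFinite _)]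
    · refine Set.ncard_congr (fun x _ => x - z) ?_ ?_ ?_
      · intro x hx
        have hx' : x ∈ K l ∧ H x w = 1 := by
          rcases hx with ⟨⟨a, -⟩, b⟩ | ⟨a, b, -⟩ <;> exact ⟨a, b⟩
        refine mem_K_cons.2 ⟨by rw [H_sub_left, hx'.2, hzw, sub_self], ?_⟩
        rw [show x - z = x + (-1 : F) • z by module]
        exact K_add hx'.1 (K_smul _ hzl)
      · intro a b _ _ h
        exact sub_left_injective h
      · intro y hy
        obtain ⟨hyw, hyl⟩ := mem_K_cons.1 hy
        have h1 : H (y + z) w = 1 := by rw [H_add_left, hyw, hzw, zero_add]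
        refine ⟨y + z, ?_, add_sub_cancel_right y z⟩
        rcases UnitaryPoints.norm_cases hF (y + z) with h | h
        · exact Or.inl ⟨⟨K_add hyl hzl, h⟩, h1⟩
        · exact Or.inr ⟨K_add hyl hzl, h1, h⟩
    · rw [Set.disjoint_left]
      rintro x ⟨⟨-, h0⟩, -⟩ ⟨-, -, h1⟩
      exact zero_ne_one (h0.symm.trans h1)
  have hscale : ∀ c : F, c ≠ 0 → (T c).ncard = (T 1).ncard := by
    intro c hc
    refine Set.ncard_congr (fun x _ => c⁻¹ • x) ?_ ?_ ?_
    · rintro x ⟨⟨hx, hxx⟩, hxw⟩
      exact ⟨⟨K_smul _ hx, by rw [H_smul_left, H_smul_right, hxx, mul_zero, mul_zero]⟩,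
        by rw [H_smul_left, hxw, inv_mul_cancel₀ hc]⟩
    · intro a b _ _ h
      exact smul_right_injective Vec (inv_ne_zero hc) h
    · rintro y ⟨⟨hy, hyy⟩, hyw⟩
      exact ⟨c • y, ⟨⟨K_smul _ hy, by rw [H_smul_left, H_smul_right, hyy, mul_zero, mul_zero]⟩,
        by rw [H_smul_left, hyw, mul_one]⟩, inv_smul_smul₀ hc y⟩
  have hsum : (I l).ncard = ∑ c : F, (T c).ncard := by
    rw [Set.ncard_eq_toFinset_card', Finset.card_eq_sum_card_fiberwise
      (f := fun x => H x w) (t := Finset.univ) (fun x _ => Finset.mem_coe.2 (Finset.mem_univ _))]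
    refine Finset.sum_congr rfl fun c _ => ?_
    rw [Set.ncard_eq_toFinset_card']
    congr 1
    ext x
    simp [hT]
  rw [← Finset.add_sum_erase _ _ (Finset.mem_univ (0 : F)), hT0,
    Finset.sum_congr rfl (fun c hc => hscale c (Finset.ne_of_mem_erase hc)), Finset.sum_const,
    Finset.card_erase_of_mem (Finset.mem_univ _), Finset.card_univ, hF, smul_eq_mul] at hsum
  norm_num at hsum
  omega

/-- Adjoining a vector not orthogonal to an isotropic member of the list in the perp. -/
theorem card_I_cross {u w : Vec} {l : List Vec} (hu : u ∈ l) (huu : H u u = 0) (hul : u ∈ K l)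
    (huw : H u w ≠ 0) : (I l).ncard = 4 * (I (w :: l)).ncard := by
  rw [fib hF (S := I l) (w := w) (z := (H u w)⁻¹ • u)
    (by rw [H_smul_left, inv_mul_cancel₀ huw]) ?_]
  · congr 2
    ext x
    simp only [I, mem_K_cons, Set.mem_setOf_eq]
    tauto
  · rintro s x ⟨hx, hxx⟩
    rw [smul_smul]
    generalize s * (H u w)⁻¹ = t
    have hxu : H x u = 0 := hx u hu
    refine ⟨K_add hx (K_smul _ hul), ?_⟩
    simp [H_add_left, H_add_right hF, H_smul_left, H_smul_right, hxx, hxu,
      (H_eq_zero_comm hF).1 hxu, huu]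

theorem span_nil {u : Vec} (hu : u ≠ 0) :
    u ∉ Submodule.span F {x | x ∈ ([] : List Vec)} := by
  rw [show {x : Vec | x ∈ ([] : List Vec)} = ∅ by simp, Submodule.span_empty, Submodule.mem_bot]
  exact hu

theorem span_one {u v : Vec} (h : ∀ c : F, v ≠ c • u) :
    v ∉ Submodule.span F {x | x ∈ [u]} := by
  rw [show {x : Vec | x ∈ [u]} = {u} by simp, Submodule.mem_span_singleton]
  rintro ⟨c, hc⟩
  exact h c hc.symm

/-- One isotropic point. -/
theorem one {u : Vec} (hu : H u u = 0) (hu0 : u ≠ 0) :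
    (K [u]).ncard = 1024 ∧ (I [u]).ncard = 544 := by
  have h1 := card_K_cons hF (w := u) (l := []) (span_nil hF hu0)
  have h2 := card_I_perp hF (w := u) (l := []) (span_nil hF hu0) hu (by simp [K])
  rw [card_K_nil hF] at h1
  rw [card_I_nil hF] at h2
  omega

theorem K_two {u v : Vec} (hu : H u u = 0) (hu0 : u ≠ 0) (huv : ∀ c : F, v ≠ c • u) :
    (K [v, u]).ncard = 256 := by
  have h := card_K_cons hF (w := v) (l := [u]) (span_one hF huv)
  rw [(one hF hu hu0).1] at h
  omega

/-- Two orthogonal points. -/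
theorem two_perp {u v : Vec} (hu : H u u = 0) (hv : H v v = 0) (hu0 : u ≠ 0)
    (huv : ∀ c : F, v ≠ c • u) (h : H v u = 0) : (I [v, u]).ncard = 160 := by
  have h2 := card_I_perp hF (w := v) (l := [u]) (span_one hF huv) hv (by simp [K, h])
  rw [(one hF hu hu0).2, K_two hF hu hu0 huv] at h2
  omega

/-- Two points off a common line. -/
theorem two_cross {u v : Vec} (hu : H u u = 0) (hu0 : u ≠ 0) (h : H u v ≠ 0) :
    (I [v, u]).ncard = 136 := by
  have h2 := card_I_cross hF (u := u) (w := v) (l := [u]) (by simp) hu (by simp [K, hu]) h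
  rw [(one hF hu hu0).2] at h2
  omega

theorem not_smul_of_cross {u v : Vec} (hu : H u u = 0) (h : H u v ≠ 0) (c : F) : v ≠ c • u := by
  rintro rfl
  exact h (by rw [H_smul_right, hu, mul_zero])

theorem span_two_cross {u v b : Vec} (hu : H u u = 0) (hv : H v v = 0) (h : H u v ≠ 0)
    (hb0 : b ≠ 0) (hbu : H b u = 0) (hbv : H b v = 0) :
    b ∉ Submodule.span F {x | x ∈ [v, u]} := by
  rw [show {x : Vec | x ∈ [v, u]} = {v, u} by ext x; simp, Submodule.mem_span_pair]
  rintro ⟨α, β, rfl⟩
  simp only [H_add_left, H_smul_left, hu, hv, mul_zero, add_zero, zero_add] at hbu hbv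
  have h' : H v u ≠ 0 := fun e => h ((H_eq_zero_comm hF).1 e)
  have hα : α = 0 := (mul_eq_zero.1 hbu).resolve_right h'
  have hβ : β = 0 := (mul_eq_zero.1 hbv).resolve_right h
  exact hb0 (by rw [hα, hβ, zero_smul, zero_smul, add_zero])

/-- A hyperbolic pair and a point orthogonal to it. -/
theorem three_cross {u v b : Vec} (hu : H u u = 0) (hv : H v v = 0) (hu0 : u ≠ 0)
    (h : H u v ≠ 0) (hb : H b b = 0) (hb0 : b ≠ 0) (hbu : H b u = 0) (hbv : H b v = 0) :
    (I [b, v, u]).ncard = 40 := by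
  have hs := span_two_cross hF hu hv h hb0 hbu hbv
  have h2 := card_I_perp hF (w := b) (l := [v, u]) hs hb (by simp [K, hbu, hbv])
  have h3 := card_K_cons hF (w := b) (l := [v, u]) hs
  rw [K_two hF hu hu0 (not_smul_of_cross hF hu h)] at h3
  rw [two_cross hF hu hu0 h] at h2
  omega

/-- What is orthogonal to all points orthogonal to a hyperbolic pair lies on their line. -/
theorem hull {u v w : Vec} (hu : H u u = 0) (hu0 : u ≠ 0) (h : H u v ≠ 0)
    (hw : ∀ x : Vec, H x x = 0 → H x u = 0 → H x v = 0 → H x w = 0) :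
    w ∈ Submodule.span F ({v, u} : Set Vec) := by
  by_contra hn
  rw [show ({v, u} : Set Vec) = {x | x ∈ [v, u]} by ext x; simp] at hn
  have h3 := card_K_cons hF (w := w) (l := [v, u]) hn
  rw [K_two hF hu hu0 (not_smul_of_cross hF hu h)] at h3
  have hsub : I [v, u] ⊆ K (w :: [v, u]) := fun x hx => mem_K_cons.2
    ⟨hw x hx.2 (hx.1 u (by simp)) (hx.1 v (by simp)), hx.1⟩
  have := Set.ncard_le_ncard hsub (Set.toFinite _)
  rw [two_cross hF hu hu0 h] at this
  omega

/-- Pairwise orthogonal isotropic vectors span at most a plane. -/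
theorem plane {S : Set Vec} (hS : ∀ a ∈ S, ∀ b ∈ S, H a b = 0) :
    ∃ a b c : Vec, ∀ x ∈ S, x ∈ Submodule.span F ({a, b, c} : Set Vec) := by
  classical
  by_contra! hcon
  obtain ⟨a, ha, ha0⟩ := hcon 0 0 0
  have ha0' : a ≠ 0 := fun e => ha0 (by rw [e]; exact Submodule.zero_mem _)
  obtain ⟨b, hb, hb0⟩ := hcon a 0 0
  obtain ⟨c, hc, hc0⟩ := hcon a b 0
  obtain ⟨e, he, he0⟩ := hcon a b c
  have hb1 : b ∉ Submodule.span F {x | x ∈ [a]} := fun h => hb0
    (Submodule.span_mono (by intro x; simp +contextual) h)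
  have hc1 : c ∉ Submodule.span F {x | x ∈ [b, a]} := fun h => hc0
    (Submodule.span_mono (by intro x; simp +contextual [or_imp]) h)
  have he1 : e ∉ Submodule.span F {x | x ∈ [c, b, a]} := fun h => he0
    (Submodule.span_mono (by intro x; simp +contextual [or_imp]) h)
  have k1 := card_K_cons hF (w := a) (l := []) (span_nil hF ha0')
  have k2 := card_K_cons hF hb1
  have k3 := card_K_cons hF hc1
  have k4 := card_K_cons hF he1
  rw [card_K_nil hF] at k1
  let φ : F × F × F → Vec := fun p => p.1 • a + p.2.1 • b + p.2.2 • c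
  have hφ : ∀ p, φ p ∈ K (e :: [c, b, a]) := by
    intro p w hw
    simp only [List.mem_cons, List.not_mem_nil, or_false] at hw
    have hwS : w ∈ S := by rcases hw with rfl | rfl | rfl | rfl <;> assumption
    simp [φ, H_add_left, H_smul_left, hS a ha w hwS, hS b hb w hwS, hS c hc w hwS]
  have hinj : Function.Injective φ := by
    intro p r hpr
    simp only [φ] at hpr
    have h3 : (p.2.2 - r.2.2) • c = (r.1 - p.1) • a + (r.2.1 - p.2.1) • b := by
      linear_combination (norm := module) hpr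
    have hc2 : p.2.2 = r.2.2 := by
      by_contra hne
      refine hc1 ?_
      rw [← inv_smul_smul₀ (sub_ne_zero.2 hne) c, h3]
      exact Submodule.smul_mem _ _ (Submodule.add_mem _
        (Submodule.smul_mem _ _ (Submodule.subset_span (by simp)))
        (Submodule.smul_mem _ _ (Submodule.subset_span (by simp))))
    rw [hc2, sub_self, zero_smul] at h3
    have hb2 : p.2.1 = r.2.1 := by
      by_contra hne
      refine hb1 ?_
      have h4 : (p.2.1 - r.2.1) • b = (r.1 - p.1) • a := by
        linear_combination (norm := module) h3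
      rw [← inv_smul_smul₀ (sub_ne_zero.2 hne) b, h4]
      exact Submodule.smul_mem _ _ (Submodule.smul_mem _ _ (Submodule.subset_span (by simp)))
    rw [hb2, sub_self, zero_smul, add_zero] at h3
    have ha2 : r.1 - p.1 = 0 := (smul_eq_zero.1 h3.symm).resolve_right ha0'
    exact Prod.ext (sub_eq_zero.1 ha2).symm (Prod.ext hb2 hc2)
  have hle := Nat.card_le_card_of_injective (fun p => (⟨φ p, hφ p⟩ : K (e :: [c, b, a])))
    (fun p r h => hinj (congrArg Subtype.val h))
  rw [Nat.card_prod, Nat.card_prod, natCard_F hF, Nat.card_coe_set_eq] at hle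
  omega

/-- A set closed under non-zero multiples covers three vectors for each point. -/
theorem points {P : Set Vec} {α : Type*} (f : Vec → α) (h0 : ∀ v ∈ P, v ≠ 0)
    (hP : ∀ v ∈ P, ∀ c : F, c ≠ 0 → c • v ∈ P)
    (hf : ∀ v ∈ P, ∀ w ∈ P, f v = f w ↔ ∃ c : F, w = c • v) :
    P.ncard = 3 * (f '' P).ncard := by
  classical
  have hsurj : ∀ y : f '' P, ∃ v, v ∈ P ∧ f v = y.1 := fun y => y.2
  choose g hg hgy using hsurj
  have key : Nat.card P = Nat.card ((f '' P) × Fˣ) := by
    refine (Nat.card_congr (Equiv.ofBijective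
      (fun p : (f '' P) × Fˣ => (⟨(p.2 : F) • g p.1, hP _ (hg p.1) _ p.2.ne_zero⟩ : P)) ⟨?_, ?_⟩)).symm
    · intro p r h
      have h' : (p.2 : F) • g p.1 = (r.2 : F) • g r.1 := congrArg Subtype.val h
      have he : f (g p.1) = f (g r.1) := (hf _ (hg _) _ (hg _)).2
        ⟨(r.2 : F)⁻¹ * p.2, by rw [mul_smul, h', inv_smul_smul₀ r.2.ne_zero]⟩
      rw [hgy, hgy] at he
      have hy : p.1 = r.1 := Subtype.ext he
      rw [hy] at h'
      exact Prod.ext hy (Units.ext (smul_left_injective F (h0 _ (hg _)) h'))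
    · intro v
      set y : f '' P := ⟨f v, ⟨v.1, v.2, rfl⟩⟩
      obtain ⟨c, hc⟩ := (hf _ (hg y) _ v.2).1 (hgy y)
      have hc0 : c ≠ 0 := fun e => h0 _ v.2 (by rw [hc, e, zero_smul])
      exact ⟨(y, Units.mk0 c hc0), Subtype.ext hc.symm⟩
  rw [Nat.card_coe_set_eq, Nat.card_prod, Nat.card_coe_set_eq, Nat.card_units, natCard_F hF] at key
  omega

end Cfsg.Agent.ThreeTransp.M22.Count
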