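import Cfsg.Agent.Lib.ThreeTransp.M22.Products

/-!
In a group of type M(22) every involution centralises a member.
-/

set_option autoImplicit false
set_option linter.unusedSectionVars false

namespace Cfsg.Agent.ThreeTransp.M22

open Matrix Cfsg.Agent.Classical.Unitary
open Cfsg.Agent.Forms
open Cfsg.Agent.GroupStructure3.ThreeTransUnitary
open Cfsg.Agent.ThreeTransp
open Cfsg.Agent.ThreeTransp.Factor (nb Hd mem_Hd Third)

variable {G : Type*} [Group G] {D : Set G}

/-- The four further members of the six attached to `a`, `b` and `q`. -/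
def cl (D : Set G) (a b q : G) : Set G := insert q {r | Third D a b q r}

variable [Finite G] (hD : Cfsg.IsThreeTranspositionGroup D)
  (hprim : Cfsg.IsPrimitiveUnderConj D) (h22 : Cfsg.IsOfTypeM22 G D)
include hD hprim h22

/-- An element fixing four of a six fixes all of it. -/
theorem fix_four {a p q r g : G} (ha : a ∈ D) (hp : p ∈ nb D a) (hq : q ∈ nb D a) (hpq : p ≠ q)
    (hc : Commute p q) (hr : Third D a p q r) (ga : Commute g a) (gp : Commute g p)
    (gq : Commute g q) (gr : Commute g r) : ∀ s, Third D a p q s → Commute g s := by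
  obtain ⟨C⟩ := exists_chart hD h22 ha
  have hgH : g ∈ Hd D a := by
    rw [← centralizer_eq hD hprim h22 ha]
    exact (mem_centralizer_iff_commute hD hprim h22).2 ga
  obtain ⟨h, hh⟩ := QuotientGroup.mk'_surjective _ (C.ρ ⟨g, hgH⟩)
  obtain ⟨u, hu0, hu, rfl⟩ := C.cover p hp
  obtain ⟨v, hv0, hv, rfl⟩ := C.cover q hq
  have hvu : Cfsg.hermForm 6 C.F 2 v u = 0 := (C.comm_iff v u hv0 hv hu0 hu).1 hc.symm
  have huv := C.not_smul hu0 hu hv0 hv hpq
  have span : ∀ s, Third D a (C.f u) (C.f v) s → ∃ w, w ≠ 0 ∧ Cfsg.hermForm 6 C.F 2 w w = 0 ∧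
      C.f w = s ∧ ∃ α β : C.F, w = α • v + β • u := by
    intro s hs
    obtain ⟨w, hw0, hw, rfl⟩ := C.cover s ⟨hs.1, hs.2.1.1, hs.2.2.1.1.symm⟩
    refine ⟨w, hw0, hw, rfl, Factor.UnitarySix.mem_span_two ?_⟩
    by_contra hn
    rw [show ({v, u} : Set (Fin 6 → C.F)) = {x | x ∈ [v, u]} by ext x; simp] at hn
    have h3 := Count.card_K_cons C.hF (w := w) (l := [v, u]) hn
    rw [Count.K_two C.hF hu hu0 huv] at h3
    have hsub : Count.I [v, u] ⊆ Count.K (w :: [v, u]) := by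
      intro x hx
      refine Count.mem_K_cons.2 ⟨?_, hx.1⟩
      by_cases hx0 : x = 0
      · rw [hx0, H_zero_left]
      refine (C.comm_iff x w hx0 hx.2 hw0 hw).1 (hs.2.2.2 (C.f x) (C.mem x hx0 hx.2).1
        (C.mem x hx0 hx.2).2.2.symm ?_ ?_)
      · exact (C.comm_iff x u hx0 hx.2 hu0 hu).2 (hx.1 u (by simp))
      · exact (C.comm_iff x v hx0 hx.2 hv0 hv).2 (hx.1 v (by simp))
    have := Set.ncard_le_ncard hsub (Set.toFinite _)
    rw [Count.two_perp C.hF hu hv hu0 huv hvu] at this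
    omega
  have fixed : ∀ x, x ≠ 0 → Cfsg.hermForm 6 C.F 2 x x = 0 → Commute g (C.f x) →
      ∃ c : C.F, mat h *ᵥ x = c • x := by
    intro x hx0 hx hgx
    have e := C.f_conj hD (h := ⟨g, hgH⟩) hh.symm hx0 hx
    rw [show g * C.f x * g⁻¹ = C.f x from conj_eq_self_iff.2 hgx] at e
    exact (C.eq_iff x _ hx0 hx (mat_mulVec_ne_zero h hx0) (by rw [SU_H, hx])).1 e
  obtain ⟨l, hl⟩ := fixed u hu0 hu gp
  obtain ⟨m, hm⟩ := fixed v hv0 hv gq
  obtain ⟨w, hw0, hw, rfl, α, β, hwe⟩ := span r hr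
  obtain ⟨n, hn⟩ := fixed w hw0 hw gr
  have hα : α ≠ 0 := fun e => hr.2.1.2.1
    ((C.eq_iff u w hu0 hu hw0 hw).2 ⟨β, by rw [hwe, e, zero_smul, zero_add]⟩).symm
  have hβ : β ≠ 0 := fun e => hr.2.1.2.2
    ((C.eq_iff v w hv0 hv hw0 hw).2 ⟨α, by rw [hwe, e, zero_smul, add_zero]⟩).symm
  rw [hwe, Matrix.mulVec_add, Matrix.mulVec_smul, Matrix.mulVec_smul, hl, hm] at hn
  have h0 : (α * (m - n)) • v + (β * (l - n)) • u = 0 := by linear_combination (norm := module) hn
  have hmn : m = n := by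
    by_contra hne
    have hne' : α * (m - n) ≠ 0 := mul_ne_zero hα (sub_ne_zero.2 hne)
    refine huv (-(α * (m - n))⁻¹ * (β * (l - n))) ?_
    have e : (α * (m - n)) • v = -((β * (l - n)) • u) := eq_neg_of_add_eq_zero_left h0
    rw [← inv_smul_smul₀ hne' v, e, smul_neg, smul_smul, neg_mul, neg_smul]
  have hln : l = n := by
    rw [hmn, sub_self, mul_zero, zero_smul, zero_add] at h0
    exact sub_eq_zero.1 ((mul_eq_zero.1 ((smul_eq_zero.1 h0).resolve_right hu0)).resolve_left hβ)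
  intro s hs
  obtain ⟨z, hz0, hz, rfl, γ, δ, hze⟩ := span s hs
  have hzh : mat h *ᵥ z = n • z := by
    rw [hze, Matrix.mulVec_add, Matrix.mulVec_smul, Matrix.mulVec_smul, hl, hm, hmn, hln]
    module
  refine conj_eq_self_iff.1 ?_
  rw [C.f_conj hD (h := ⟨g, hgH⟩) hh.symm hz0 hz, hzh]
  have hn0 : n ≠ 0 := by
    rintro rfl
    rw [zero_smul] at hzh
    exact mat_mulVec_ne_zero h hz0 hzh
  exact ((C.eq_iff z (n • z) hz0 hz (smul_ne_zero hn0 hz0)
    (by rw [← hzh, SU_H, hz])).2 ⟨n, rfl⟩).symm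

theorem cl_spec {a b q : G} (ha : a ∈ D) (hb : b ∈ nb D a) (hq : q ∈ nb D a ∩ nb D b) :
    (cl D a b q).ncard = 4 ∧ cl D a b q ⊆ nb D a ∩ nb D b := by
  obtain ⟨x, y, z, hx, hy, hz, hnd, -, hall, -⟩ := Factor.exists_other hD hprim h22 ha hb.1 hq.1.1
    hb.2.1.symm hq.1.2.1.symm hq.2.2.1.symm hb.2.2 hq.1.2.2 hq.2.2.2
  have hset : cl D a b q = {q, x, y, z} := by
    ext r
    simp only [cl, Set.mem_insert_iff, Set.mem_ofPred_eq, Set.mem_singleton_iff]
    constructor
    · rintro (h | h)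
      exacts [Or.inl h, Or.inr (hall r h)]
    · rintro (h | rfl | rfl | rfl)
      exacts [Or.inl h, Or.inr hx, Or.inr hy, Or.inr hz]
  refine ⟨?_, ?_⟩
  · rw [hset]
    simp only [List.nodup_cons, List.mem_cons, List.not_mem_nil, or_false, not_or,
      List.nodup_nil, and_true, not_false_eq_true] at hnd
    obtain ⟨-, -, ⟨hqx, hqy, hqz⟩, ⟨hxy, hxz⟩, hyz⟩ := hnd
    rw [Set.ncard_insert_of_notMem (by simp [hqx, hqy, hqz]) (Set.toFinite _),
      Set.ncard_insert_of_notMem (by simp [hxy, hxz]) (Set.toFinite _), Set.ncard_pair hyz]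
  · rintro r (rfl | hr)
    · exact hq
    · exact ⟨⟨hr.1, hr.2.1.1, hr.2.2.1.1.symm⟩, hr.1, hr.2.1.2.1, hr.2.2.1.2.1.symm⟩

theorem cl_eq {a b q r : G} (ha : a ∈ D) (hb : b ∈ nb D a) (hq : q ∈ nb D a ∩ nb D b)
    (hr : r ∈ cl D a b q) : cl D a b r = cl D a b q := by
  have hrT := (cl_spec hD hprim h22 ha hb hq).2 hr
  rcases hr with rfl | hr
  · rfl
  refine Set.eq_of_subset_of_ncard_le ?_ (by
    rw [(cl_spec hD hprim h22 ha hb hq).1, (cl_spec hD hprim h22 ha hb hrT).1]) (Set.toFinite _)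
  intro s hs
  rcases hs with rfl | hs
  · exact Or.inr hr
  by_cases e : s = q
  · exact Or.inl e
  refine Or.inr ⟨hs.1, ⟨hs.2.1.1, hs.2.1.2.1, e⟩, ⟨hs.2.2.1.1, hs.2.2.1.2.1, ?_⟩,
    fun f hf h1 h2 h3 => hs.2.2.2 f hf h1 h2 (hr.2.2.2 f hf h1 h2 h3)⟩
  exact (hs.2.2.2 q hq.1.1 hq.1.2.2.symm hq.2.2.2.symm hr.2.2.1.2.2.symm).symm

omit hprim h22 in
theorem third_conj {a b q r : G} (g : G) (h : Third D a b q r) :
    Third D (g * a * g⁻¹) (g * b * g⁻¹) (g * q * g⁻¹) (g * r * g⁻¹) := by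
  have hi : ∀ {p s : G}, p ≠ s → g * p * g⁻¹ ≠ g * s * g⁻¹ := fun h e =>
    h (mul_left_cancel (mul_right_cancel e))
  refine ⟨hD.2.1 g r h.1, ⟨hi h.2.1.1, hi h.2.1.2.1, hi h.2.1.2.2⟩,
    ⟨Basic.commute_conj.2 h.2.2.1.1, Basic.commute_conj.2 h.2.2.1.2.1,
      Basic.commute_conj.2 h.2.2.1.2.2⟩, fun f hf h1 h2 h3 => ?_⟩
  have e : f = g * (g⁻¹ * f * g) * g⁻¹ := by group
  rw [e, Basic.commute_conj] at h1 h2 h3 ⊢
  exact h.2.2.2 _ (Classes.inv_conj_mem hD g hf) h1 h2 h3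

omit hprim h22 in
theorem cl_conj {a b q r : G} (g : G) (h : r ∈ cl D a b q) :
    g * r * g⁻¹ ∈ cl D (g * a * g⁻¹) (g * b * g⁻¹) (g * q * g⁻¹) := by
  rcases h with rfl | h
  exacts [Or.inl rfl, Or.inr (third_conj hD g h)]

/-- Every involution centralises a member. -/
theorem exists_fixed {t : G} (ht : t * t = 1) : ∃ e ∈ D, Commute t e := by
  classical
  obtain ⟨a, ha, -⟩ := hprim.2.1
  obtain ⟨b, hbdef⟩ : ∃ b, b = t * a * t⁻¹ := ⟨_, rfl⟩
  by_contra! hcon
  have htI : t⁻¹ = t := inv_eq_of_mul_eq_one_left ht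
  have hbD : b ∈ D := hbdef ▸ hD.2.1 t a ha
  have hne : b ≠ a := fun e => hcon a ha (conj_eq_self_iff.1 (hbdef ▸ e))
  have htb : t * b * t⁻¹ = a := by
    rw [hbdef, show t * (t * a * t⁻¹) * t⁻¹ = (t * t) * a * (t * t)⁻¹ by group, ht]; group
  by_cases hab : Commute a b
  swap
  · refine hcon _ (Classes.conj_mem hD ha hbD) (conj_eq_self_iff.1 ?_)
    rw [show t * (a * b * a) * t⁻¹ = t * a * t⁻¹ * (t * b * t⁻¹) * (t * a * t⁻¹) by group,
      ← hbdef, htb, Basic.braid hD.1 ha hbD hab]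
  have hb : b ∈ nb D a := ⟨hbD, hne, hab⟩
  have hta : t * a * t⁻¹ = b := hbdef.symm
  set T : Finset G := (Set.toFinite (nb D a ∩ nb D b)).toFinset with hT
  have hmT : ∀ q, q ∈ T ↔ q ∈ nb D a ∩ nb D b := fun q => by simp [hT]
  have hTt : ∀ q ∈ nb D a ∩ nb D b, t * q * t⁻¹ ∈ nb D a ∩ nb D b := fun q hq =>
    ⟨htb ▸ Cover.conj_nb hD t hq.2, hta ▸ Cover.conj_nb hD t hq.1⟩
  -- an odd number of classes
  set 𝒞 : Finset (Set G) := T.image (cl D a b) with h𝒞
  have hcard : T.card = 4 * 𝒞.card := by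
    rw [Finset.card_eq_sum_card_image (cl D a b) T, Finset.sum_const_nat (m := 4), mul_comm]
    intro c hc
    obtain ⟨q, hq, rfl⟩ := Finset.mem_image.1 hc
    rw [hmT] at hq
    rw [← (cl_spec hD hprim h22 ha hb hq).1, Set.ncard_eq_toFinset_card _ (Set.toFinite _)]
    congr 1
    ext r
    simp only [Finset.mem_filter, hmT, Set.Finite.mem_toFinset]
    constructor
    · rintro ⟨hr, he⟩
      rw [← he]; exact Or.inl rfl
    · intro hr
      exact ⟨(cl_spec hD hprim h22 ha hb hq).2 hr, cl_eq hD hprim h22 ha hb hq hr⟩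
  have h180 : T.card = 180 := by
    rw [hT, ← Set.ncard_eq_toFinset_card, ncard_nb_inter hD hprim h22 ha hb]
  have hmove : ∀ q ∈ nb D a ∩ nb D b,
      (fun x => t * x * t⁻¹) '' cl D a b q = cl D a b (t * q * t⁻¹) := by
    intro q hq
    refine Set.eq_of_subset_of_ncard_le ?_ ?_ (Set.toFinite _)
    · rintro _ ⟨r, hr, rfl⟩
      have := cl_conj hD t hr
      rw [hta, htb] at this
      rcases this with h | h
      exacts [Or.inl h, Or.inr h.swap]
    · rw [Set.ncard_image_of_injective _ fun x y h => mul_left_cancel (mul_right_cancel h),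
        (cl_spec hD hprim h22 ha hb hq).1, (cl_spec hD hprim h22 ha hb (hTt q hq)).1]
  have hσ : ∀ c ∈ 𝒞, (fun x => t * x * t⁻¹) '' c ∈ 𝒞 := by
    intro c hc
    obtain ⟨q, hq, rfl⟩ := Finset.mem_image.1 hc
    rw [hmT] at hq
    rw [hmove q hq]
    exact Finset.mem_image.2 ⟨_, (hmT _).2 (hTt q hq), rfl⟩
  obtain ⟨c, hc, hfix⟩ : ∃ c ∈ 𝒞, (fun x => t * x * t⁻¹) '' c = c := by
    by_contra! hno
    have h := Finset.sum_involution (s := 𝒞) (f := fun _ => (1 : ZMod 2))
      (fun c _ => (fun x => t * x * t⁻¹) '' c) (fun _ _ => by decide)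
      (fun c hc _ => hno c hc) hσ (fun c _ => by
        rw [Set.image_image]
        conv_rhs => rw [← Set.image_id c]
        refine Set.image_congr fun x _ => ?_
        rw [show t * (t * x * t⁻¹) * t⁻¹ = (t * t) * x * (t * t)⁻¹ by group, ht]
        simp)
    rw [Finset.sum_const, nsmul_one, show 𝒞.card = 45 by omega] at h
    exact absurd h (by decide)
  obtain ⟨q, hq, rfl⟩ := Finset.mem_image.1 hc
  rw [hmT] at hq
  -- the involution on a fixed class
  obtain ⟨q', hq'⟩ : ∃ q', q' = t * q * t⁻¹ := ⟨_, rfl⟩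
  have hq'cl : q' ∈ cl D a b q := hfix ▸ ⟨q, Or.inl rfl, hq'.symm⟩
  have hqq' : q' ≠ q := fun e => hcon q hq.1.1 (conj_eq_self_iff.1 (hq' ▸ e))
  have hq'T := (cl_spec hD hprim h22 ha hb hq).2 hq'cl
  have h3' : Third D a b q q' := hq'cl.resolve_left hqq'
  have hcl4 := (cl_spec hD hprim h22 ha hb hq).1
  obtain ⟨r, hr, hrne⟩ : ∃ r ∈ cl D a b q, r ∉ ({q, q'} : Set G) := by
    refine Set.exists_mem_notMem_of_ncard_lt_ncard ?_ (Set.toFinite _)
    rw [hcl4, Set.ncard_pair hqq'.symm]; norm_num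
  simp only [Set.mem_insert_iff, Set.mem_singleton_iff, not_or] at hrne
  have hrT := (cl_spec hD hprim h22 ha hb hq).2 hr
  have hr3 : Third D a b q r := hr.resolve_left hrne.1
  obtain ⟨r', hr'⟩ : ∃ r', r' = t * r * t⁻¹ := ⟨_, rfl⟩
  have hr'cl : r' ∈ cl D a b q := hfix ▸ ⟨r, hr, hr'.symm⟩
  have htt : ∀ x, t * (t * x * t⁻¹) * t⁻¹ = x := fun x => by
    rw [show t * (t * x * t⁻¹) * t⁻¹ = (t * t) * x * (t * t)⁻¹ by group, ht]; group
  have hr'r : r' ≠ r := fun e => hcon r hr3.1 (conj_eq_self_iff.1 (hr' ▸ e))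
  have hr'q : r' ≠ q := fun e => hrne.2 (by rw [hq', ← e, hr', htt])
  have hr'q' : r' ≠ q' := fun e => hrne.1 (by
    rw [hr', hq'] at e; exact mul_left_cancel (mul_right_cancel e))
  have hset : cl D a b q = {q, q', r, r'} := by
    refine (Set.eq_of_subset_of_ncard_le ?_ ?_ (Set.toFinite _)).symm
    · rintro x (rfl | rfl | rfl | rfl)
      exacts [Or.inl rfl, hq'cl, hr, hr'cl]
    · rw [hcl4, Set.ncard_insert_of_notMem (by simp [hqq'.symm, hrne.1, Ne.symm hrne.1, hr'q.symm])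
        (Set.toFinite _), Set.ncard_insert_of_notMem (by simp [Ne.symm hrne.2, hr'q'.symm])
        (Set.toFinite _), Set.ncard_pair hr'r.symm]
  -- a second involution with the same effect
  obtain ⟨e, ⟨heq, heq'⟩, hea, heb⟩ := exists_far hD hprim h22 (a := q) (b := q') (p := a)
    (q := b) hq.1.1 ⟨hq'T.1.1, hqq', h3'.2.2.1.2.2.symm⟩
    ⟨Cover.mem_nb_symm ha hq.1, Cover.mem_nb_symm ha hq'T.1⟩
    ⟨Cover.mem_nb_symm hbD hq.2, Cover.mem_nb_symm hbD hq'T.2⟩
  have hes := Classes.sq hD heq.1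
  have has := Classes.sq hD ha
  have hbs := Classes.sq hD hbD
  have A := Basic.braid hD.1 heq.1 ha hea
  have B := Basic.braid hD.1 heq.1 hbD heb
  obtain ⟨s, hs⟩ : ∃ s, s = e * (a * b) * e := ⟨_, rfl⟩
  have hsI : s⁻¹ = s := by
    rw [inv_eq_iff_mul_eq_one, hs]
    calc e * (a * b) * e * (e * (a * b) * e)
        = e * a * b * (e * e) * (a * b) * e := by simp [mul_assoc]
      _ = e * (a * (b * a) * b) * e := by rw [hes, mul_one]; simp [mul_assoc]
      _ = 1 := by rw [← hab.eq, ← mul_assoc a a b, has, one_mul, hbs, mul_one, hes]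
  have hsa : s * a * s⁻¹ = b := by
    rw [hsI, hs]
    calc e * (a * b) * e * a * (e * (a * b) * e)
        = e * b * a * (e * a * e) * (a * b) * e := by rw [hab.eq]; simp [mul_assoc]
      _ = e * b * (a * a) * e * (a * a) * b * e := by rw [A]; simp [mul_assoc]
      _ = e * (b * e * b) * e := by rw [has, mul_one, mul_one]; simp [mul_assoc]
      _ = (e * e) * b * (e * e) := by rw [← B]; simp [mul_assoc]
      _ = b := by rw [hes, one_mul, mul_one]
  have hss : ∀ x, s * (s * x * s⁻¹) * s⁻¹ = x := fun x => by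
    rw [show s * (s * x * s⁻¹) * s⁻¹ = (s * s) * x * (s * s)⁻¹ by group,
      inv_eq_iff_mul_eq_one.1 hsI]; group
  have hsb : s * b * s⁻¹ = a := by rw [← hsa, hss]
  have hsc : ∀ p ∈ nb D a ∩ nb D b, Commute e p → Commute s p := fun p hp hep =>
    hs ▸ (hep.mul_left (hp.1.2.2.mul_left hp.2.2.2)).mul_left hep
  have sq0 : s * q * s⁻¹ = q := conj_eq_self_iff.2 (hsc q hq heq.2.2.symm)
  have sq' : s * q' * s⁻¹ = q' := conj_eq_self_iff.2 (hsc q' hq'T heq'.2.2.symm)
  have hscl : ∀ x ∈ cl D a b q, s * x * s⁻¹ ∈ cl D a b q := fun x hx => by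
    have := cl_conj hD s hx
    rw [hsa, hsb, sq0] at this
    rcases this with h | h
    exacts [Or.inl h, Or.inr h.swap]
  -- the two triples of the six
  have hab3 : a * b * q = q' * r * r' := by
    obtain ⟨x, y, z, hx, hy, hz, hnd, ⟨cxy, cxz, cyz⟩, -, he⟩ :=
      Factor.exists_other hD hprim h22 ha hbD hq.1.1 hne.symm hq.1.2.1.symm hq.2.2.1.symm hab
        hq.1.2.2 hq.2.2.2
    rw [he]
    have hr'3 : Third D a b q r' := hr'cl.resolve_left hr'q
    have hn : [q', r, r'].Nodup := by simp [Ne.symm hrne.2, hr'q'.symm, hr'r.symm]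
    have hsub : [x, y, z] ⊆ [q', r, r'] := by
      intro w hw
      simp only [List.mem_cons, List.not_mem_nil, or_false] at hw
      have hw3 : Third D a b q w := by rcases hw with rfl | rfl | rfl <;> assumption
      have hm : w ∈ cl D a b q := Or.inr hw3
      simp only [hset, Set.mem_insert_iff, Set.mem_singleton_iff] at hm
      rcases hm with h | h | h | h
      · exact absurd h hw3.2.1.2.2
      all_goals simp [h]
    have hn2 : [x, y, z].Nodup := hnd.sublist (List.sublist_append_right [a, b, q] [x, y, z])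
    have hp := (List.subperm_of_subset hn2 hsub).perm_of_length_le (by simp)
    have := hp.prod_eq' (by simp [cxy, cxz, cyz])
    simpa [mul_assoc] using this
  have hsr : s * r * s⁻¹ = r' := by
    have hm := hscl r hr
    rw [hset] at hm
    rcases hm with h | h | h | h
    · exact absurd (mul_left_cancel (mul_right_cancel (h.trans sq0.symm))) hrne.1
    · exact absurd (mul_left_cancel (mul_right_cancel (h.trans sq'.symm))) hrne.2
    · exfalso
      have hsR : Commute s r := conj_eq_self_iff.1 h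
      have hsq : Commute s q := conj_eq_self_iff.1 sq0
      have hsq' : Commute s q' := conj_eq_self_iff.1 sq'
      -- then `s` would fix `a`
      have hr'3 : Third D a b q r' := hr'cl.resolve_left hr'q
      have c1 : Commute q' r :=
        hr3.2.2.2 q' h3'.1 h3'.2.2.1.1 h3'.2.2.1.2.1 h3'.2.2.1.2.2
      have c2 : Commute q' r' :=
        hr'3.2.2.2 q' h3'.1 h3'.2.2.1.1 h3'.2.2.1.2.1 h3'.2.2.1.2.2
      have c3 : Commute r r' :=
        hr'3.2.2.2 r hr3.1 hr3.2.2.1.1 hr3.2.2.1.2.1 hr3.2.2.1.2.2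
      have hsix : q * q' * r = a * b * r' := by
        have h1 : (a * b) * (a * b) = 1 := by
          rw [← pow_two, hab.mul_pow, pow_two, pow_two, has, hbs, one_mul]
        have h2 : (q' * r) * (q' * r) = 1 := by
          rw [← pow_two, c1.mul_pow, pow_two, pow_two, Classes.sq hD h3'.1, Classes.sq hD hr3.1,
            one_mul]
        calc q * q' * r = (a * b) * (a * b) * (q * q' * r) := by rw [h1, one_mul]
          _ = (a * b) * ((a * b * q) * (q' * r)) := by simp [mul_assoc]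
          _ = (a * b) * (q' * r * (r' * (q' * r))) := by rw [hab3]; simp [mul_assoc]
          _ = (a * b) * (((q' * r) * (q' * r)) * r') := by
            rw [((c2.symm).mul_right c3.symm).eq]; simp [mul_assoc]
          _ = a * b * r' := by rw [h2, one_mul]
      have hcomm : ∀ f ∈ D, Commute f q → Commute f q' → Commute f r →
          Commute f a ∧ Commute f b ∧ Commute f r' := fun f hf f1 f2 f3 =>
        Factor.commute_each_three hD ha hbD hr'3.1 hf hne.symm hr'3.2.1.1.symm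
          hr'3.2.1.2.1.symm hab hr'3.2.2.1.1.symm hr'3.2.2.1.2.1.symm
          (hsix ▸ (f1.mul_right f2).mul_right f3)
      have hq'nb : q' ∈ nb D q := ⟨h3'.1, hqq', h3'.2.2.1.2.2.symm⟩
      have hrnb : r ∈ nb D q := ⟨hr3.1, hrne.1, hr3.2.2.1.2.2.symm⟩
      have h1 : Third D q q' r a := ⟨ha, ⟨hq.1.2.1.symm, hq'T.1.2.1.symm, hrT.1.2.1.symm⟩,
        ⟨hq.1.2.2, hq'T.1.2.2, hrT.1.2.2⟩, fun f hf f1 f2 f3 => (hcomm f hf f1 f2 f3).1⟩
      have h2 : Third D q q' r r' := ⟨hr'3.1, ⟨hr'q, hr'q', hr'r⟩,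
        ⟨hr'3.2.2.1.2.2, c2.symm, c3.symm⟩, fun f hf f1 f2 f3 => (hcomm f hf f1 f2 f3).2.2⟩
      have hsr' : Commute s r' := by
        have hm' := hscl r' hr'cl
        rw [hset] at hm'
        rcases hm' with h' | h' | h' | h'
        · exact absurd (mul_left_cancel (mul_right_cancel (h'.trans sq0.symm))) hr'q
        · exact absurd (mul_left_cancel (mul_right_cancel (h'.trans sq'.symm))) hr'q'
        · exact absurd (mul_left_cancel (mul_right_cancel (h'.trans h.symm))) hr'r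
        · exact conj_eq_self_iff.1 h'
      have := fix_four hD hprim h22 hq.1.1 hq'nb hrnb (Ne.symm hrne.2) c1 h2 hsq hsq' hsR hsr' a h1
      exact hne (hsa.symm.trans (conj_eq_self_iff.2 this))
    · exact h
  have hsr' : s * r' * s⁻¹ = r := by rw [← hsr, hss]
  obtain ⟨u, hu⟩ : ∃ u, u = s * t := ⟨_, rfl⟩
  have hux : ∀ x, u * x * u⁻¹ = s * (t * x * t⁻¹) * s⁻¹ := fun x => by rw [hu]; group
  have hua : Commute u a := conj_eq_self_iff.1 (by rw [hux, hta, hsb])
  have hub : Commute u b := conj_eq_self_iff.1 (by rw [hux, htb, hsa])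
  have hur : Commute u r := conj_eq_self_iff.1 (by rw [hux, ← hr', hsr'])
  have hur' : Commute u r' := conj_eq_self_iff.1 (by
    rw [hux, show t * r' * t⁻¹ = r by rw [hr', htt], hsr])
  have hclr := cl_eq hD hprim h22 ha hb hq hr
  have h3r : ∀ x ∈ cl D a b q, x ≠ r → Third D a b r x := fun x hx hxr => by
    rw [← hclr] at hx
    exact hx.resolve_left hxr
  have huq := fix_four hD hprim h22 ha hb hrT.1 hrT.2.2.1.symm hrT.2.2.2 (h3r r' hr'cl hr'r)
    hua hub hur hur' q (h3r q (Or.inl rfl) (Ne.symm hrne.1))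
  have := conj_eq_self_iff.2 huq
  rw [hux, ← hq', sq'] at this
  exact hqq' this

end Cfsg.Agent.ThreeTransp.M22
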