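import Cfsg.Agent.Lib.ThreeTransp.M22.Lines
import Cfsg.Agent.Lib.ThreeTransp.M22.Cliques
import Cfsg.Agent.Lib.ThreeTransp.M22.Involutions

/-!
Two commuting members `a`, `b` of a group of type M(22): the subgroup generated by `a`, `b` and the
products of two members of one line of their common neighbours.
-/

set_option autoImplicit false
set_option linter.unusedSectionVars false

namespace Cfsg.Agent.ThreeTransp.M22

open Matrix Cfsg.Agent.Classical.Unitary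
open Cfsg.Agent.Forms
open Cfsg.Agent.GroupStructure3.ThreeTransUnitary
open Cfsg.Agent.ThreeTransp
open Cfsg.Agent.ThreeTransp.Factor (nb Hd mem_Hd Third)

universe u

variable {G : Type u} [Group G] {D : Set G}

/-- The products of two members of one line. -/
def lineGens (D : Set G) (a b : G) : Set G :=
  {g | ∃ x ∈ nb D a ∩ nb D b, ∃ y ∈ cl D a b x, g = x * y}

/-- The subgroup they generate with `a` and `b`. -/
def radical (D : Set G) (a b : G) : Subgroup G := Subgroup.closure (lineGens D a b ∪ {a, b})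

variable [Finite G] (hD : Cfsg.IsThreeTranspositionGroup D)
  (hprim : Cfsg.IsPrimitiveUnderConj D) (h22 : Cfsg.IsOfTypeM22 G D)
  {a b : G} (ha : a ∈ D) (hb : b ∈ nb D a)
include hD hprim h22 ha hb

theorem cl_sub {x y : G} (hx : x ∈ nb D a ∩ nb D b) (hy : y ∈ cl D a b x) :
    y ∈ nb D a ∩ nb D b :=
  (cl_spec hD hprim h22 ha hb hx).2 hy

/-- Members of one line commute. -/
theorem cl_comm {x y z : G} (hx : x ∈ nb D a ∩ nb D b) (hy : y ∈ cl D a b x)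
    (hz : z ∈ cl D a b x) : Commute y z := by
  rw [← cl_eq hD hprim h22 ha hb hx hy] at hz
  rcases hz with rfl | hz
  exacts [Commute.refl _, hz.2.2.1.2.2.symm]

/-- Commuting with one member of a line is commuting with all. -/
theorem cl_fix {x y t : G} (hx : x ∈ nb D a ∩ nb D b) (hy : y ∈ cl D a b x)
    (ht : t ∈ nb D a ∩ nb D b) (hc : Commute t x) : Commute t y := by
  rcases hy with rfl | hy
  exacts [hc, hy.2.2.2 t ht.1.1 ht.1.2.2.symm ht.2.2.2.symm hc]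

/-- The product of the members of one line. -/
theorem cl_prod {x y : G} (hx : x ∈ nb D a ∩ nb D b) (hy : y ∈ cl D a b x) (hne : y ≠ x) :
    ∃ s t : G, s ∈ cl D a b x ∧ t ∈ cl D a b x ∧ [x, y, s, t].Nodup ∧
      cl D a b x = {x, y, s, t} ∧ x * y * (s * t) = a * b := by
  obtain ⟨p, q, r, hp, hq, hr, hnd, ⟨cpq, cpr, cqr⟩, hall, hprod⟩ := Factor.exists_other hD hprim h22
    ha hb.1 hx.1.1 hb.2.1.symm hx.1.2.1.symm hx.2.2.1.symm hb.2.2 hx.1.2.2 hx.2.2.2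
  simp only [List.nodup_cons, List.mem_cons, List.not_mem_nil, or_false, not_or,
    List.nodup_nil, and_true, not_false_eq_true] at hnd
  obtain ⟨-, -, ⟨hxp, hxq, hxr⟩, ⟨hpq, hpr⟩, hqr⟩ := hnd
  have cxp : Commute x p := hp.2.2.1.2.2.symm
  have cxq : Commute x q := hq.2.2.1.2.2.symm
  have cxr : Commute x r := hr.2.2.1.2.2.symm
  have hxx := Classes.sq hD hx.1.1
  have hab : x * (p * q * r) = a * b := by
    rw [← hprod, ← mul_assoc, ← mul_assoc, (hx.1.2.2.symm).eq, mul_assoc a x b, (hx.2.2.2.symm).eq,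
      ← mul_assoc, mul_assoc (a * b), hxx, mul_one]
  have hset : ∀ s : G, s ∈ cl D a b x ↔ s = x ∨ s = p ∨ s = q ∨ s = r := by
    intro s
    constructor
    · rintro (h | h)
      exacts [Or.inl h, Or.inr (hall s h)]
    · rintro (rfl | rfl | rfl | rfl)
      exacts [Or.inl rfl, Or.inr hp, Or.inr hq, Or.inr hr]
  rcases ((hset y).1 hy).resolve_left hne with rfl | rfl | rfl
  · refine ⟨q, r, (hset q).2 (by simp), (hset r).2 (by simp), ?_, ?_, ?_⟩
    · simp [hxp, hxq, hxr, hpq, hpr, hqr]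
    · ext s; simp [hset]
    · rw [← hab]; simp only [mul_assoc]
  · refine ⟨p, r, (hset p).2 (by simp), (hset r).2 (by simp), ?_, ?_, ?_⟩
    · simp [hxp, hxq, hxr, Ne.symm hpq, hpr, hqr]
    · ext s; simp [hset]; tauto
    · rw [← hab, cpq.eq]; simp only [mul_assoc]
  · refine ⟨p, q, (hset p).2 (by simp), (hset q).2 (by simp), ?_, ?_, ?_⟩
    · simp [hxp, hxq, hxr, hpq, Ne.symm hpr, Ne.symm hqr]
    · ext s; simp [hset]; tauto
    · rw [← hab, ((cpr.mul_left cqr)).eq]; simp only [mul_assoc]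

/-- A product from one line moves a member within its line. -/
theorem shift {x x' y : G} (hx : x ∈ nb D a ∩ nb D b) (hx' : x' ∈ cl D a b x)
    (hy : y ∈ nb D a ∩ nb D b) :
    x * x' * y * (x * x')⁻¹ ∈ cl D a b y ∧
      (¬ Commute x y → x' ≠ x → x * x' * y * (x * x')⁻¹ ≠ y) := by
  classical
  obtain ⟨C⟩ := exists_chart hD h22 ha
  obtain ⟨v, hv0, hv, hbv⟩ := C.cover b hb
  have line : ∀ z ∈ nb D a ∩ nb D b, ∃ w : Fin 6 → C.F, w ≠ 0 ∧ Cfsg.hermForm 6 C.F 2 w w = 0 ∧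
      C.f w = z ∧ Cfsg.hermForm 6 C.F 2 w v = 0 ∧ (∀ c : C.F, w + c • v ≠ 0) ∧
      (∀ c : C.F, Cfsg.hermForm 6 C.F 2 (w + c • v) (w + c • v) = 0) ∧
      (∀ c d : C.F, C.f (w + c • v) = C.f (w + d • v) → c = d) ∧
      cl D a b z = {s | ∃ c : C.F, C.f (w + c • v) = s} := by
    intro z hz
    obtain ⟨w, hw0, hw, hwz⟩ := C.cover z hz.1
    have hwv : Cfsg.hermForm 6 C.F 2 w v = 0 :=
      (C.comm_iff w v hw0 hw hv0 hv).1 (by rw [hwz, hbv]; exact hz.2.2.2.symm)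
    have hvw : Cfsg.hermForm 6 C.F 2 v w = 0 :=
      (C.comm_iff v w hv0 hv hw0 hw).1 (by rw [hwz, hbv]; exact hz.2.2.2)
    have hind : ∀ c : C.F, w ≠ c • v :=
      C.not_smul hv0 hv hw0 hw (by rw [hwz, hbv]; exact hz.2.2.1.symm)
    have hne : ∀ c : C.F, w + c • v ≠ 0 := fun c h => hind (-c) (by
      rw [neg_smul]; exact eq_neg_of_add_eq_zero_left h)
    have hiso : ∀ c : C.F, Cfsg.hermForm 6 C.F 2 (w + c • v) (w + c • v) = 0 := fun c => by
      simp only [H_add_left, H_add_right C.hF, H_smul_left, H_smul_right, hw, hv, hwv, hvw,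
        mul_zero, add_zero]
    have hinj : ∀ c d : C.F, C.f (w + c • v) = C.f (w + d • v) → c = d := by
      intro c d h
      obtain ⟨k, hk⟩ := (C.eq_iff _ _ (hne c) (hiso c) (hne d) (hiso d)).1 h
      have h0 : (1 - k) • w = (k * c - d) • v := by linear_combination (norm := module) hk
      by_cases hk1 : k = 1
      · rw [hk1, sub_self, zero_smul, one_mul, eq_comm, smul_eq_zero] at h0
        exact sub_eq_zero.1 (h0.resolve_right hv0)
      · refine absurd ?_ (hind ((1 - k)⁻¹ * (k * c - d)))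
        rw [mul_smul, ← h0, inv_smul_smul₀ (sub_ne_zero.2 (Ne.symm hk1))]
    refine ⟨w, hw0, hw, hwz, hwv, hne, hiso, hinj, ?_⟩
    symm
    refine Set.eq_of_subset_of_ncard_le ?_ ?_ (Set.toFinite _)
    · rintro s ⟨c, rfl⟩
      by_cases hc : c = 0
      · exact Or.inl (by rw [hc, zero_smul, add_zero, hwz])
      have hm := C.mem _ (hne c) (hiso c)
      have hnv : C.f (w + c • v) ≠ b := by
        intro h
        rw [← hbv] at h
        obtain ⟨k, hk⟩ := (C.eq_iff v _ hv0 hv (hne c) (hiso c)).1 h.symm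
        exact hind (k - c) (by rw [sub_smul, ← hk, add_sub_cancel_right])
      have hnw : C.f (w + c • v) ≠ z := by
        intro h
        rw [← hwz] at h
        refine hc (hinj c 0 ?_)
        rw [zero_smul, add_zero]; exact h
      refine Or.inr ⟨hm.1, ⟨hm.2.1, hnv, hnw⟩, ⟨hm.2.2.symm, ?_, ?_⟩, ?_⟩
      · rw [← hbv]
        exact (C.comm_iff _ v (hne c) (hiso c) hv0 hv).2
          (by rw [H_add_left, H_smul_left, hwv, hv, mul_zero, add_zero])
      · rw [← hwz]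
        exact (C.comm_iff _ w (hne c) (hiso c) hw0 hw).2
          (by rw [H_add_left, H_smul_left, hw, hvw, mul_zero, add_zero])
      · intro t ht h1 h2 h3
        by_cases hta : t = a
        · rw [hta]; exact hm.2.2
        obtain ⟨r, hr0, hr, rfl⟩ := C.cover t ⟨ht, hta, h1.symm⟩
        refine (C.comm_iff r _ hr0 hr (hne c) (hiso c)).2 ?_
        rw [← hbv] at h2
        rw [← hwz] at h3
        rw [H_add_right C.hF, H_smul_right, (C.comm_iff r w hr0 hr hw0 hw).1 h3,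
          (C.comm_iff r v hr0 hr hv0 hv).1 h2, mul_zero, add_zero]
    · rw [(cl_spec hD hprim h22 ha hb hz).1]
      show 4 ≤ (Set.range fun c : C.F => C.f (w + c • v)).ncard
      rw [Set.ncard_range_of_injective fun c d h => hinj c d h, Nat.card_eq_fintype_card, C.hF]
      norm_num
  obtain ⟨w, hw0, hw, hwx, hwv, hwne, hwiso, -, hwline⟩ := line x hx
  obtain ⟨r, hr0, hr, hry, hrv, hrne, hriso, hrinj, hrline⟩ := line y hy
  obtain ⟨c, hc⟩ : ∃ c : C.F, C.f (w + c • v) = x' := by rw [hwline] at hx'; exact hx'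
  subst hc
  have hmx := mem_Hd hx.1
  have hmx' := mem_Hd (C.mem _ (hwne c) (hwiso c))
  have hρ : C.ρ (⟨x, hmx⟩ * ⟨_, hmx'⟩) =
      QuotientGroup.mk' _ (tr C.hF hw * tr C.hF (hwiso c)) := by
    rw [map_mul, map_mul, C.img _ (hwne c) (hwiso c)]
    congr 1
    rw [← C.img w hw0 hw]
    congr 1
    exact Subtype.ext hwx.symm
  have e := C.f_conj hD hρ hr0 hr
  rw [Subgroup.coe_mul, hry] at e
  set h : C.F := Cfsg.hermForm 6 C.F 2 r w with hh
  have hval : mat (tr C.hF hw * tr C.hF (hwiso c)) *ᵥ r = r + (h * c) • v := by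
    have e1 : Cfsg.hermForm 6 C.F 2 r (w + c • v) = h := by
      rw [H_add_right C.hF, H_smul_right, hrv, mul_zero, add_zero]
    have e2 : Cfsg.hermForm 6 C.F 2 v w = 0 := (H_eq_zero_comm C.hF).1 hwv
    rw [mul_mulVec, tr_mulVec, tr_mulVec, e1, H_add_left, H_smul_left, H_add_left, H_smul_left,
      hw, e2, ← hh, mul_zero, add_zero, mul_zero, add_zero]
    have h2 : h • w + h • w = 0 := by rw [← add_smul, ← two_mul, two_zero C.hF, zero_mul, zero_smul]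
    linear_combination (norm := module) h2
  rw [hval] at e
  refine ⟨?_, fun hnc hne heq => ?_⟩
  · rw [e, hrline]; exact ⟨_, rfl⟩
  · have h0 : h * c = 0 := hrinj (h * c) 0 (by rw [zero_smul, add_zero, ← e, heq, hry])
    rcases mul_eq_zero.1 h0 with h1 | h1
    · exact hnc (by rw [← hwx, ← hry]; exact ((C.comm_iff r w hr0 hr hw0 hw).2 h1).symm)
    · exact hne (by rw [h1, zero_smul, add_zero, hwx])

/-- A product from one line has square one. -/
theorem gen_sq {x x' : G} (hx : x ∈ nb D a ∩ nb D b) (hx' : x' ∈ cl D a b x) :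
    x * x' * (x * x') = 1 := by
  have hc := cl_comm hD hprim h22 ha hb hx (Or.inl rfl) hx'
  calc x * x' * (x * x') = x * (x' * x) * x' := by simp only [mul_assoc]
    _ = x * x * (x' * x') := by rw [← hc.eq]; simp only [mul_assoc]
    _ = 1 := by rw [Classes.sq hD hx.1.1,
      Classes.sq hD (cl_sub hD hprim h22 ha hb hx hx').1.1, mul_one]

theorem commute_pair {x : G} (hx : x ∈ nb D a ∩ nb D b) : Commute x a ∧ Commute x b :=
  ⟨hx.1.2.2.symm, hx.2.2.2.symm⟩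

theorem radical_le : radical D a b ≤ Subgroup.centralizer ({a, b} : Set G) := by
  refine (Subgroup.closure_le _).2 fun g hg => Subgroup.mem_centralizer_iff.2 ?_
  rintro t (rfl | rfl)
  all_goals rcases hg with ⟨x, hx, y, hy, rfl⟩ | rfl | rfl
  · exact ((commute_pair hD hprim h22 ha hb hx).1.mul_left
      (commute_pair hD hprim h22 ha hb (cl_sub hD hprim h22 ha hb hx hy)).1).eq.symm
  · rfl
  · exact hb.2.2.eq
  · exact ((commute_pair hD hprim h22 ha hb hx).2.mul_left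
      (commute_pair hD hprim h22 ha hb (cl_sub hD hprim h22 ha hb hx hy)).2).eq.symm
  · exact hb.2.2.eq.symm
  · rfl

theorem mul_pair_ne_one : a * b ≠ 1 := fun h => by
  refine hb.2.1 ?_
  calc b = a⁻¹ * (a * b) := (inv_mul_cancel_left _ _).symm
    _ = a := by rw [h, mul_one, Classes.inv hD ha]

theorem pair_sq : a * b * (a * b) = 1 := by
  rw [show a * b * (a * b) = a * (b * a) * b by simp only [mul_assoc], ← hb.2.2.eq,
    show a * (a * b) * b = a * a * (b * b) by simp only [mul_assoc], Classes.sq hD ha,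
    Classes.sq hD hb.1, mul_one]

/-- Two products from lines commute or have commutator `a * b`. -/
theorem gen_conj {x x' y y' : G} (hx : x ∈ nb D a ∩ nb D b) (hx' : x' ∈ cl D a b x)
    (hy : y ∈ nb D a ∩ nb D b) (hy' : y' ∈ cl D a b y) :
    x * x' * (y * y') * (x * x')⁻¹ = y * y' ∨
      x * x' * (y * y') * (x * x')⁻¹ = y * y' * (a * b) := by
  set u := x * x' with hu
  have hx'S := cl_sub hD hprim h22 ha hb hx hx'
  by_cases hc : Commute y x
  · left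
    have h2 := cl_fix hD hprim h22 ha hb hx hx' hy hc
    have h3 := cl_fix hD hprim h22 ha hb hy hy' hx hc.symm
    have h4 := cl_fix hD hprim h22 ha hb hy hy' hx'S h2.symm
    exact (((hc.symm.mul_left h2.symm)).mul_right (h3.mul_left h4)).mul_inv_cancel
  by_cases hxe : x' = x
  · left
    rw [hu, hxe, Classes.sq hD hx.1.1, one_mul, inv_one, mul_one]
  by_cases hye : y' = y
  · left
    rw [hye, Classes.sq hD hy.1.1, mul_one, mul_inv_cancel]
  have hy'S := cl_sub hD hprim h22 ha hb hy hy'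
  have hcy' : ¬ Commute y' x := fun h => hc ((cl_fix hD hprim h22 ha hb hy'S
    (by rw [cl_eq hD hprim h22 ha hb hy hy']; exact Or.inl rfl) hx h.symm).symm)
  obtain ⟨hm, hmove⟩ := shift hD hprim h22 ha hb hx hx' hy
  obtain ⟨hm', hmove'⟩ := shift hD hprim h22 ha hb hx hx' hy'S
  rw [cl_eq hD hprim h22 ha hb hy hy'] at hm'
  have n1 := hmove (fun h => hc h.symm) hxe
  have n1' := hmove' (fun h => hcy' h.symm) hxe
  have hui : u⁻¹ = u := inv_eq_of_mul_eq_one_left (gen_sq hD hprim h22 ha hb hx hx')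
  have hinv : ∀ t : G, u * (u * t * u⁻¹) * u⁻¹ = t := fun t => by
    calc u * (u * t * u⁻¹) * u⁻¹ = (u * u) * t * (u * u)⁻¹ := by group
      _ = t := by rw [gen_sq hD hprim h22 ha hb hx hx', one_mul, inv_one, mul_one]
  have hsplit : u * (y * y') * u⁻¹ = (u * y * u⁻¹) * (u * y' * u⁻¹) := by group
  rw [hsplit]
  by_cases h1 : u * y * u⁻¹ = y'
  · left
    have : u * y' * u⁻¹ = y := by rw [← h1]; exact hinv y
    rw [h1, this, (cl_comm hD hprim h22 ha hb hy (Or.inl rfl) hy').eq]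
  right
  obtain ⟨s, t, hs, ht, hnd, hset, hprod⟩ := cl_prod hD hprim h22 ha hb hy hy' hye
  have h2 : u * y' * u⁻¹ ≠ y := fun h => h1 (by rw [← h]; exact hinv y')
  have h3 : u * y' * u⁻¹ ≠ u * y * u⁻¹ := fun h =>
    hye (mul_left_cancel (mul_right_cancel h))
  rw [hset] at hm hm'
  simp only [Set.mem_insert_iff, Set.mem_singleton_iff] at hm hm'
  replace hm := (hm.resolve_left n1).resolve_left h1
  replace hm' := (hm'.resolve_left h2).resolve_left n1'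
  have hst : (u * y * u⁻¹) * (u * y' * u⁻¹) = s * t := by
    rcases hm with e | e <;> rcases hm' with e' | e' <;> rw [e, e'] at h3 ⊢
    · exact absurd rfl h3
    · exact (cl_comm hD hprim h22 ha hb hy ht hs).eq
    · exact absurd rfl h3
  rw [hst, ← hprod, ← mul_assoc, gen_sq hD hprim h22 ha hb hy hy', one_mul]

/-- The radical is commutative modulo the product of `a` and `b`. -/
theorem radical_comm {e f : G} (he : e ∈ radical D a b) (hf : f ∈ radical D a b) :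
    e * f * e⁻¹ * f⁻¹ ∈ Subgroup.zpowers (a * b) := by
  set Z := Subgroup.zpowers (a * b) with hZ
  have hzc : ∀ k ∈ radical D a b, ∀ z ∈ Z, Commute k z := by
    intro k hk z hz
    obtain ⟨i, rfl⟩ := Subgroup.mem_zpowers_iff.1 hz
    have h := Subgroup.mem_centralizer_iff.1 (radical_le hD hprim h22 ha hb hk)
    exact ((show Commute k a from (h a (by simp)).symm).mul_right
      (show Commute k b from (h b (by simp)).symm)).zpow_right i
  have hgen : ∀ t ∈ lineGens D a b ∪ {a, b}, ∀ s ∈ lineGens D a b ∪ {a, b},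
      t * s * t⁻¹ * s⁻¹ ∈ Z := by
    intro t ht s hs
    have hab : ∀ r ∈ lineGens D a b ∪ {a, b}, Commute r a ∧ Commute r b := by
      intro r hr
      have h := Subgroup.mem_centralizer_iff.1
        (radical_le hD hprim h22 ha hb (Subgroup.subset_closure hr))
      exact ⟨(h a (by simp)).symm, (h b (by simp)).symm⟩
    rcases hs with ⟨y, hy, y', hy', rfl⟩ | hs
    · rcases ht with ⟨x, hx, x', hx', rfl⟩ | ht
      · rcases gen_conj hD hprim h22 ha hb hx hx' hy hy' with h | h <;> rw [h]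
        · rw [mul_inv_cancel]; exact one_mem _
        · have hcc := hzc _ (Subgroup.subset_closure (Or.inl ⟨y, hy, y', hy', rfl⟩) :
            y * y' ∈ radical D a b) _ (Subgroup.mem_zpowers (a * b))
          rw [hcc.eq, mul_inv_cancel_right]
          exact Subgroup.mem_zpowers _
      · have hc : Commute t (y * y') := by
          rcases ht with rfl | rfl
          exacts [(hab _ (Or.inl ⟨y, hy, y', hy', rfl⟩)).1.symm,
            (hab _ (Or.inl ⟨y, hy, y', hy', rfl⟩)).2.symm]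
        rw [hc.mul_inv_cancel, mul_inv_cancel]
        exact one_mem _
    · have hc : Commute t s := by
        rcases hs with rfl | rfl
        exacts [(hab t ht).1, (hab t ht).2]
      rw [hc.mul_inv_cancel, mul_inv_cancel]
      exact one_mem _
  have key : ∀ s ∈ radical D a b, ∀ T : Set G, T ⊆ (radical D a b : Set G) →
      (∀ t ∈ T, s * t * s⁻¹ * t⁻¹ ∈ Z) → ∀ f ∈ Subgroup.closure T, s * f * s⁻¹ * f⁻¹ ∈ Z := by
    intro s _ T hT h f hf
    induction hf using Subgroup.closure_induction with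
    | mem t ht => exact h t ht
    | one => simp
    | mul p q hp hq ihp ihq =>
      have hpR : p ∈ radical D a b := (Subgroup.closure_le _).2 hT hp
      rw [show s * (p * q) * s⁻¹ * (p * q)⁻¹ =
        (s * p * s⁻¹ * p⁻¹) * (p * (s * q * s⁻¹ * q⁻¹) * p⁻¹) by group,
        (hzc p hpR _ ihq).mul_inv_cancel]
      exact mul_mem ihp ihq
    | inv p hp ihp =>
      have hpR : p⁻¹ ∈ radical D a b := inv_mem ((Subgroup.closure_le _).2 hT hp)
      rw [show s * p⁻¹ * s⁻¹ * p⁻¹⁻¹ = p⁻¹ * (s * p * s⁻¹ * p⁻¹)⁻¹ * p⁻¹⁻¹ by group,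
        (hzc _ hpR _ (inv_mem ihp)).mul_inv_cancel]
      exact inv_mem ihp
  have hT : lineGens D a b ∪ {a, b} ⊆ (radical D a b : Set G) := Subgroup.subset_closure
  refine key e he _ hT (fun t ht => ?_) f hf
  have h := key t (hT ht) _ hT (fun s hs => hgen t ht s hs) e he
  have := inv_mem h
  rwa [show (t * e * t⁻¹ * e⁻¹)⁻¹ = e * t * e⁻¹ * t⁻¹ by group] at this

theorem radical_sq {e : G} (he : e ∈ radical D a b) : e * e ∈ Subgroup.zpowers (a * b) := by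
  induction he using Subgroup.closure_induction with
  | mem t ht =>
    rcases ht with ⟨x, hx, x', hx', rfl⟩ | rfl | rfl
    · rw [gen_sq hD hprim h22 ha hb hx hx']; exact one_mem _
    · rw [Classes.sq hD ha]; exact one_mem _
    · rw [Classes.sq hD hb.1]; exact one_mem _
  | one => simp
  | mul p q hp hq ihp ihq =>
    rw [show p * q * (p * q) = p * p * (p⁻¹ * q * p⁻¹⁻¹ * q⁻¹) * (q * q) by group]
    exact mul_mem (mul_mem ihp (radical_comm hD hprim h22 ha hb (inv_mem hp) hq)) ihq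
  | inv p _ ihp =>
    rw [← _root_.mul_inv_rev]
    exact inv_mem ihp

theorem radical_isPGroup : IsPGroup 2 ↥(radical D a b) := fun e => ⟨2, Subtype.ext (by
  obtain ⟨i, hi⟩ := Subgroup.mem_zpowers_iff.1 (radical_sq hD hprim h22 ha hb e.2)
  rw [SubmonoidClass.coe_pow, show (2 : ℕ) ^ 2 = 2 * 2 by norm_num, pow_mul, pow_two (e : G),
    ← hi, pow_two, ← (Commute.refl (a * b)).mul_zpow, pair_sq hD hprim h22 ha hb, _root_.one_zpow]
  rfl)⟩

/-- Conjugation by an element permuting `a` and `b`. -/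
theorem radical_conj {g e : G}
    (hg : (g * a * g⁻¹ = a ∧ g * b * g⁻¹ = b) ∨ (g * a * g⁻¹ = b ∧ g * b * g⁻¹ = a))
    (he : e ∈ radical D a b) : g * e * g⁻¹ ∈ radical D a b := by
  have hle : (radical D a b).map (MulAut.conj g).toMonoidHom ≤ radical D a b := by
    rw [radical, MonoidHom.map_closure, Subgroup.closure_le]
    rintro _ ⟨t, ht, rfl⟩
    rcases ht with ⟨x, hx, y, hy, rfl⟩ | ht
    · refine Subgroup.subset_closure (Or.inl ⟨g * x * g⁻¹, ?_, g * y * g⁻¹, ?_, ?_⟩)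
      · have h1 := Cover.conj_nb hD g hx.1
        have h2 := Cover.conj_nb hD g hx.2
        rcases hg with ⟨e1, e2⟩ | ⟨e1, e2⟩ <;> rw [e1] at h1 <;> rw [e2] at h2
        exacts [⟨h1, h2⟩, ⟨h2, h1⟩]
      · have h := cl_conj hD g hy
        rcases hg with ⟨e1, e2⟩ | ⟨e1, e2⟩ <;> rw [e1, e2] at h
        · exact h
        · exact h.imp id Third.swap
      · exact map_mul (MulAut.conj g) x y
    · refine Subgroup.subset_closure (Or.inr ?_)
      rcases ht with rfl | rfl <;> rcases hg with ⟨e1, e2⟩ | ⟨e1, e2⟩ <;>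
        simp only [MulEquiv.coe_toMonoidHom, MulAut.conj_apply, e1, e2] <;> simp
  exact hle ⟨e, he, rfl⟩

/-- The radical maps every member to one of its line. -/
theorem radical_line {e y : G} (he : e ∈ radical D a b) (hy : y ∈ nb D a ∩ nb D b) :
    e * y * e⁻¹ ∈ cl D a b y := by
  induction he using Subgroup.closure_induction generalizing y with
  | mem t ht =>
    rcases ht with ⟨x, hx, x', hx', rfl⟩ | rfl | rfl
    · exact (shift hD hprim h22 ha hb hx hx' hy).1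
    · exact Or.inl hy.1.2.2.mul_inv_cancel
    · exact Or.inl hy.2.2.2.mul_inv_cancel
  | one => simp [cl]
  | mul p q _ _ ihp ihq =>
    have h1 := ihq hy
    have h2 := ihp (cl_sub hD hprim h22 ha hb hy h1)
    rw [cl_eq hD hprim h22 ha hb hy h1] at h2
    rwa [show p * q * y * (p * q)⁻¹ = p * (q * y * q⁻¹) * p⁻¹ by group]
  | inv p _ ihp =>
    have hmaps : ∀ z ∈ cl D a b y, p * z * p⁻¹ ∈ cl D a b y := fun z hz => by
      have h := ihp (cl_sub hD hprim h22 ha hb hy hz)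
      rwa [cl_eq hD hprim h22 ha hb hy hz] at h
    have himg : (fun z => p * z * p⁻¹) '' cl D a b y = cl D a b y :=
      Set.eq_of_subset_of_ncard_le (Set.image_subset_iff.2 hmaps)
        (le_of_eq (Set.ncard_image_of_injective _
          fun _ _ h => mul_left_cancel (mul_right_cancel h)).symm) (Set.toFinite _)
    obtain ⟨z, hz, hzy⟩ : y ∈ (fun z => p * z * p⁻¹) '' cl D a b y := by
      rw [himg]; exact Or.inl rfl
    have : p⁻¹ * y * p⁻¹⁻¹ = z := by rw [← hzy]; group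
    rwa [this]

/-- A central element of the radical centralises every common neighbour. -/
theorem radical_center {e y : G} (he : e ∈ radical D a b)
    (hc : ∀ f ∈ radical D a b, Commute e f) (hy : y ∈ nb D a ∩ nb D b) : Commute e y := by
  rw [← conj_eq_self_iff]
  by_contra hne
  set y₁ := e * y * e⁻¹ with hy₁
  have h1 : y₁ ∈ cl D a b y := radical_line hD hprim h22 ha hb he hy
  obtain ⟨s, t, hs, ht, hnd, hset, -⟩ := cl_prod hD hprim h22 ha hb hy h1 hne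
  simp only [List.nodup_cons, List.mem_cons, List.not_mem_nil, or_false, not_or,
    List.nodup_nil, and_true, not_false_eq_true] at hnd
  obtain ⟨⟨hyy₁, hys, -⟩, ⟨hy₁s, -⟩, -⟩ := hnd
  have hc' := hc _ (Subgroup.subset_closure (Or.inl ⟨y, hy, s, hs, rfl⟩))
  have hsS := cl_sub hD hprim h22 ha hb hy hs
  have heq : y₁ * (e * s * e⁻¹) = y * s := by
    rw [hy₁, show e * y * e⁻¹ * (e * s * e⁻¹) = e * (y * s) * e⁻¹ by group,
      hc'.mul_inv_cancel]
  have hs2 : e * s * e⁻¹ = y₁ * y * s := by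
    rw [mul_assoc y₁ y s, ← heq, ← mul_assoc, Classes.sq hD (cl_sub hD hprim h22 ha hb hy h1).1.1,
      one_mul]
  have h13 : 3 = 1 := prod_number hD hprim h22 (m := 3) (m' := 1) (x := e * s * e⁻¹)
    (by norm_num) le_rfl le_rfl (by norm_num)
    ⟨[y₁, y, s], by simp [hyy₁, Ne.symm hyy₁, hys, hy₁s], rfl, by
      simp only [List.mem_cons, List.not_mem_nil, or_false]
      rintro r (rfl | rfl | rfl)
      exacts [(cl_sub hD hprim h22 ha hb hy h1).1.1, hy.1.1, hsS.1.1], by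
      simp only [List.mem_cons, List.not_mem_nil, or_false]
      intro r hr r' hr'
      have hm : ∀ {r}, r = y₁ ∨ r = y ∨ r = s → r ∈ cl D a b y := by
        rintro r (rfl | rfl | rfl)
        exacts [h1, Or.inl rfl, hs]
      exact cl_comm hD hprim h22 ha hb hy (hm hr) (hm hr'), by
      rw [hs2]; simp [mul_assoc]⟩
    ⟨[e * s * e⁻¹], by simp, rfl, by simpa using hD.2.1 e s hsS.1.1, by simp, by simp⟩
  omega

/-- Four lines: two pairs, members of one pair not commuting, members of different pairs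
commuting. -/
theorem exists_frame_lines : ∃ x₁ y₁ x₂ y₂ : G, x₁ ∈ nb D a ∩ nb D b ∧ y₁ ∈ nb D a ∩ nb D b ∧
    x₂ ∈ nb D a ∩ nb D b ∧ y₂ ∈ nb D a ∩ nb D b ∧ ¬ Commute x₁ y₁ ∧ ¬ Commute x₂ y₂ ∧
    Commute x₁ x₂ ∧ Commute x₁ y₂ ∧ Commute y₁ x₂ ∧ Commute y₁ y₂ := by
  classical
  obtain ⟨x, hx⟩ := Set.nonempty_of_ncard_ne_zero
    ((ncard_nb_inter hD hprim h22 ha hb).trans_ne (by norm_num : (180 : ℕ) ≠ 0))
  obtain ⟨y, hy, hxy, -⟩ := exists_far hD hprim h22 ha hb hx hx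
  obtain ⟨C⟩ := exists_chart hD h22 ha
  have h12 := C.ncard_three hx.1 hy.1 (fun h => hxy h.symm)
    (y := b) ⟨⟨hb, Cover.mem_nb_symm hb.1 hx.2⟩, Cover.mem_nb_symm hb.1 hy.2⟩
  by_contra! hcon
  have hall : ∀ p ∈ nb D a ∩ nb D x ∩ nb D y ∩ nb D b,
      ∀ q ∈ nb D a ∩ nb D x ∩ nb D y ∩ nb D b, Commute p q := by
    intro p hp q hq
    by_contra hn
    exact hcon x y p q hx hy ⟨hp.1.1.1, hp.2⟩ ⟨hq.1.1.1, hq.2⟩ (fun h => hxy h.symm) hn
      hp.1.1.2.2.2 hq.1.1.2.2.2 hp.1.2.2.2 hq.1.2.2.2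
  have h5 := le_five C hx.1 hy.1 (fun h => hxy h.symm)
    (E := nb D a ∩ nb D x ∩ nb D y ∩ nb D b) (fun p hp => hp.1) hall
  omega

/-- A subgroup of order `2⁹` in the radical, avoiding `a`. -/
theorem exists_half : ∃ M : Subgroup G, M ≤ radical D a b ∧ Nat.card M = 2 ^ 9 ∧ a ∉ M ∧
    a * b ∈ M ∧ ∃ u ∈ M, ∃ w ∈ M, ¬ Commute u w := by
  classical
  obtain ⟨x₁, y₁, x₂, y₂, hx₁, hy₁, hx₂, hy₂, n1, n2, c12, c1', c21, c2'⟩ :=
    exists_frame_lines hD hprim h22 ha hb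
  set Z : Set G := {1, a * b} with hZ
  set W : G → Set G := fun x => (fun y => x * y) '' cl D a b x with hW
  have hWR : ∀ x ∈ nb D a ∩ nb D b, W x ⊆ (radical D a b : Set G) := by
    rintro x hx _ ⟨y, hy, rfl⟩
    exact Subgroup.subset_closure (Or.inl ⟨x, hx, y, hy, rfl⟩)
  have habR : a * b ∈ radical D a b := mul_mem (Subgroup.subset_closure (by simp))
    (Subgroup.subset_closure (by simp))
  have hZR : Z ⊆ (radical D a b : Set G) := by
    rintro z (rfl | rfl)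
    exacts [one_mem _, habR]
  have hZm : ∀ z ∈ Subgroup.zpowers (a * b), z ∈ Z := by
    intro z hz
    obtain ⟨i, rfl⟩ := Subgroup.mem_zpowers_iff.1 hz
    rcases Int.even_or_odd i with ⟨k, rfl⟩ | ⟨k, rfl⟩
    · left; rw [← two_mul, _root_.zpow_mul, _root_.zpow_two, pair_sq hD hprim h22 ha hb, _root_.one_zpow]
    · right
      rw [_root_.zpow_add, _root_.zpow_mul, _root_.zpow_two, pair_sq hD hprim h22 ha hb, _root_.one_zpow, one_mul, _root_.zpow_one]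
      rfl
  have hZmul : ∀ z ∈ Z, ∀ z' ∈ Z, z * z' ∈ Z := by
    rintro z (rfl | rfl) z' (rfl | rfl)
    · exact Or.inl (one_mul _)
    · exact Or.inr (by rw [one_mul]; rfl)
    · exact Or.inr (by rw [mul_one]; rfl)
    · exact Or.inl (pair_sq hD hprim h22 ha hb)
  have hzc : ∀ g ∈ radical D a b, ∀ z ∈ Z, Commute z g := by
    rintro g hg z (rfl | rfl)
    · exact Commute.one_left g
    · have h := Subgroup.mem_centralizer_iff.1 (radical_le hD hprim h22 ha hb hg)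
      exact (show Commute a g from h a (by simp)).mul_left (show Commute b g from h b (by simp))
  have hswap : ∀ t ∈ radical D a b, ∀ w ∈ radical D a b, ∃ z ∈ Z, t * w = w * t * z := by
    intro t ht w hw
    refine ⟨_, hZm _ (radical_comm hD hprim h22 ha hb (inv_mem ht) (inv_mem hw)), ?_⟩
    group
  have hWW : ∀ x ∈ nb D a ∩ nb D b, ∀ p ∈ W x, ∀ q ∈ W x, ∃ r ∈ W x, ∃ z ∈ Z, p * q = r * z := by
    rintro x hx _ ⟨y, hy, rfl⟩ _ ⟨y', hy', rfl⟩
    have hxx := Classes.sq hD hx.1.1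
    by_cases e : y = x
    · exact ⟨_, ⟨y', hy', rfl⟩, 1, Or.inl rfl, by simp [e, hxx]⟩
    by_cases e' : y' = x
    · exact ⟨_, ⟨y, hy, rfl⟩, 1, Or.inl rfl, by simp [e', hxx]⟩
    by_cases e'' : y' = y
    · exact ⟨_, ⟨x, Or.inl rfl, rfl⟩, 1, Or.inl rfl,
        by rw [e'', gen_sq hD hprim h22 ha hb hx hy]; simp [hxx]⟩
    obtain ⟨s, t, hs, ht, hnd, hset, hprod⟩ := cl_prod hD hprim h22 ha hb hx hy e
    have hyy' : x * y * (x * y') = y * y' := by
      rw [(cl_comm hD hprim h22 ha hb hx (Or.inl rfl) hy).eq,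
        show y * x * (x * y') = y * (x * x) * y' by simp only [mul_assoc], hxx, mul_one]
    have hm : y' = s ∨ y' = t := by
      rw [hset] at hy'
      simp only [Set.mem_insert_iff, Set.mem_singleton_iff] at hy'
      exact (hy'.resolve_left e').resolve_left e''
    have key : ∀ p q, p ∈ cl D a b x → q ∈ cl D a b x → x * y * (p * q) = a * b →
        y * p = x * q * (a * b) := by
      intro p q hp hq h
      have cyp := cl_comm hD hprim h22 ha hb hx hy hp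
      have cxq := cl_comm hD hprim h22 ha hb hx (Or.inl rfl) hq
      have hq2 := Classes.sq hD (cl_sub hD hprim h22 ha hb hx hq).1.1
      have cq : Commute q (x * (y * p)) := (cxq.symm).mul_right
        ((cl_comm hD hprim h22 ha hb hx hq hy).mul_right (cl_comm hD hprim h22 ha hb hx hq hp))
      rw [← h, show x * y * (p * q) = x * (y * p) * q by simp only [mul_assoc], ← cq.eq,
        show x * q * (q * (x * (y * p))) = x * (q * q) * (x * (y * p)) by simp only [mul_assoc],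
        hq2, mul_one, ← mul_assoc x x, hxx, one_mul]
    rcases hm with rfl | rfl
    · exact ⟨x * t, ⟨t, ht, rfl⟩, a * b, Or.inr rfl, hyy'.trans (key _ _ hs ht hprod)⟩
    · refine ⟨x * s, ⟨s, hs, rfl⟩, a * b, Or.inr rfl, hyy'.trans (key _ _ ht hs ?_)⟩
      rw [← hprod, (cl_comm hD hprim h22 ha hb hx ht hs).eq]
  set T : Set G := W x₁ ∪ W y₁ ∪ W x₂ ∪ W y₂ ∪ Z with hT
  set P : Set G := {g | ∃ p₁ ∈ W x₁, ∃ q₁ ∈ W y₁, ∃ p₂ ∈ W x₂, ∃ q₂ ∈ W y₂, ∃ z ∈ Z,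
    g = p₁ * q₁ * p₂ * q₂ * z} with hP
  have hW1 : ∀ x, x ∈ nb D a ∩ nb D b → (1 : G) ∈ W x := fun x hx =>
    ⟨x, Or.inl rfl, Classes.sq hD hx.1.1⟩
  have hTR : T ⊆ (radical D a b : Set G) := by
    rintro g ((((h | h) | h) | h) | h)
    exacts [hWR _ hx₁ h, hWR _ hy₁ h, hWR _ hx₂ h, hWR _ hy₂ h, hZR h]
  have hsub : (Subgroup.closure T : Set G) ⊆ P := by
    refine Basic.closure_subset_of_left_stable ?_ ?_ ?_
    · rintro g hg
      rcases hg with (((⟨y, hy, rfl⟩ | ⟨y, hy, rfl⟩) | ⟨y, hy, rfl⟩) | ⟨y, hy, rfl⟩) | rfl | rfl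
      exacts [gen_sq hD hprim h22 ha hb hx₁ hy, gen_sq hD hprim h22 ha hb hy₁ hy,
        gen_sq hD hprim h22 ha hb hx₂ hy, gen_sq hD hprim h22 ha hb hy₂ hy, one_mul _,
        pair_sq hD hprim h22 ha hb]
    · exact ⟨1, hW1 _ hx₁, 1, hW1 _ hy₁, 1, hW1 _ hx₂, 1, hW1 _ hy₂, 1, Or.inl rfl, by simp⟩
    · rintro t ht _ ⟨p₁, hp₁, q₁, hq₁, p₂, hp₂, q₂, hq₂, z, hz, rfl⟩
      have Rp₁ := hWR _ hx₁ hp₁
      have Rq₁ := hWR _ hy₁ hq₁
      have Rp₂ := hWR _ hx₂ hp₂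
      have Rq₂ := hWR _ hy₂ hq₂
      rcases ht with (((ht | ht) | ht) | ht) | ht
      · obtain ⟨r, hr, w, hw, e⟩ := hWW _ hx₁ t ht p₁ hp₁
        refine ⟨r, hr, q₁, hq₁, p₂, hp₂, q₂, hq₂, w * z, hZmul w hw z hz, ?_⟩
        rw [show t * (p₁ * q₁ * p₂ * q₂ * z) = t * p₁ * (q₁ * p₂ * q₂) * z by
          simp only [mul_assoc], e, mul_assoc r w,
          (hzc _ (mul_mem (mul_mem Rq₁ Rp₂) Rq₂) w hw).eq]
        simp only [mul_assoc]
      · obtain ⟨w₁, hw₁, e₁⟩ := hswap t (hWR _ hy₁ ht) p₁ Rp₁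
        obtain ⟨r, hr, w₂, hw₂, e₂⟩ := hWW _ hy₁ t ht q₁ hq₁
        refine ⟨p₁, hp₁, r, hr, p₂, hp₂, q₂, hq₂, w₂ * w₁ * z,
          hZmul _ (hZmul _ hw₂ _ hw₁) z hz, ?_⟩
        rw [show t * (p₁ * q₁ * p₂ * q₂ * z) = t * p₁ * (q₁ * p₂ * q₂) * z by
          simp only [mul_assoc], e₁, mul_assoc (p₁ * t) w₁,
          (hzc _ (mul_mem (mul_mem Rq₁ Rp₂) Rq₂) w₁ hw₁).eq,
          show p₁ * t * (q₁ * p₂ * q₂ * w₁) * z = p₁ * (t * q₁) * (p₂ * q₂) * w₁ * z by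
            simp only [mul_assoc], e₂,
          show p₁ * (r * w₂) * (p₂ * q₂) * w₁ * z = p₁ * r * (w₂ * (p₂ * q₂)) * w₁ * z by
            simp only [mul_assoc], (hzc _ (mul_mem Rp₂ Rq₂) w₂ hw₂).eq]
        simp only [mul_assoc]
      · obtain ⟨w₁, hw₁, e₁⟩ := hswap t (hWR _ hx₂ ht) (p₁ * q₁) (mul_mem Rp₁ Rq₁)
        obtain ⟨r, hr, w₂, hw₂, e₂⟩ := hWW _ hx₂ t ht p₂ hp₂
        refine ⟨p₁, hp₁, q₁, hq₁, r, hr, q₂, hq₂, w₂ * w₁ * z,
          hZmul _ (hZmul _ hw₂ _ hw₁) z hz, ?_⟩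
        rw [show t * (p₁ * q₁ * p₂ * q₂ * z) = t * (p₁ * q₁) * (p₂ * q₂) * z by
          simp only [mul_assoc], e₁, mul_assoc (p₁ * q₁ * t) w₁,
          (hzc _ (mul_mem Rp₂ Rq₂) w₁ hw₁).eq,
          show p₁ * q₁ * t * (p₂ * q₂ * w₁) * z = p₁ * q₁ * (t * p₂) * q₂ * w₁ * z by
            simp only [mul_assoc], e₂,
          show p₁ * q₁ * (r * w₂) * q₂ * w₁ * z = p₁ * q₁ * r * (w₂ * q₂) * w₁ * z by
            simp only [mul_assoc], (hzc _ Rq₂ w₂ hw₂).eq]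
        simp only [mul_assoc]
      · obtain ⟨w₁, hw₁, e₁⟩ := hswap t (hWR _ hy₂ ht) (p₁ * q₁ * p₂)
          (mul_mem (mul_mem Rp₁ Rq₁) Rp₂)
        obtain ⟨r, hr, w₂, hw₂, e₂⟩ := hWW _ hy₂ t ht q₂ hq₂
        refine ⟨p₁, hp₁, q₁, hq₁, p₂, hp₂, r, hr, w₂ * w₁ * z,
          hZmul _ (hZmul _ hw₂ _ hw₁) z hz, ?_⟩
        rw [show t * (p₁ * q₁ * p₂ * q₂ * z) = t * (p₁ * q₁ * p₂) * q₂ * z by
          simp only [mul_assoc], e₁, mul_assoc (p₁ * q₁ * p₂ * t) w₁, (hzc _ Rq₂ w₁ hw₁).eq,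
          show p₁ * q₁ * p₂ * t * (q₂ * w₁) * z = p₁ * q₁ * p₂ * (t * q₂) * w₁ * z by
            simp only [mul_assoc], e₂]
        simp only [mul_assoc]
      · refine ⟨p₁, hp₁, q₁, hq₁, p₂, hp₂, q₂, hq₂, t * z, hZmul t ht z hz, ?_⟩
        rw [show t * (p₁ * q₁ * p₂ * q₂ * z) = t * (p₁ * q₁ * p₂ * q₂) * z by
          simp only [mul_assoc], (hzc _ (mul_mem (mul_mem (mul_mem Rp₁ Rq₁) Rp₂) Rq₂) t ht).eq]
        simp only [mul_assoc]
  set M := Subgroup.closure T with hM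
  have hMP : (M : Set G) = P := by
    refine Set.Subset.antisymm hsub ?_
    rintro _ ⟨p₁, hp₁, q₁, hq₁, p₂, hp₂, q₂, hq₂, z, hz, rfl⟩
    exact mul_mem (mul_mem (mul_mem (mul_mem
      (Subgroup.subset_closure (Or.inl (Or.inl (Or.inl (Or.inl hp₁)))))
      (Subgroup.subset_closure (Or.inl (Or.inl (Or.inl (Or.inr hq₁))))))
      (Subgroup.subset_closure (Or.inl (Or.inl (Or.inr hp₂)))))
      (Subgroup.subset_closure (Or.inl (Or.inr hq₂)))) (Subgroup.subset_closure (Or.inr hz))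
  -- conjugates of the four base members
  have hfix : ∀ x y, x ∈ nb D a ∩ nb D b → y ∈ nb D a ∩ nb D b → Commute x y →
      ∀ u ∈ W x, ∀ y' ∈ cl D a b y, u * y' * u⁻¹ = y' := by
    rintro x y hx hy hc _ ⟨x', hx', rfl⟩ y' hy'
    have hy'S := cl_sub hD hprim h22 ha hb hy hy'
    have h1 := cl_fix hD hprim h22 ha hb hy hy' hx hc
    exact (h1.mul_left (cl_fix hD hprim h22 ha hb hx hx' hy'S h1.symm).symm).mul_inv_cancel
  have hfixZ : ∀ z ∈ Z, ∀ y ∈ nb D a ∩ nb D b, z * y * z⁻¹ = y := by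
    rintro z (rfl | rfl) y hy
    · simp
    · exact (hy.1.2.2.mul_left hy.2.2.2).mul_inv_cancel
  have hact : ∀ p₁ ∈ W x₁, ∀ q₁ ∈ W y₁, ∀ p₂ ∈ W x₂, ∀ q₂ ∈ W y₂, ∀ z ∈ Z,
      (p₁ * q₁ * p₂ * q₂ * z) * x₁ * (p₁ * q₁ * p₂ * q₂ * z)⁻¹ = q₁ * x₁ * q₁⁻¹ ∧
      (p₁ * q₁ * p₂ * q₂ * z) * y₁ * (p₁ * q₁ * p₂ * q₂ * z)⁻¹ = p₁ * y₁ * p₁⁻¹ ∧
      (p₁ * q₁ * p₂ * q₂ * z) * x₂ * (p₁ * q₁ * p₂ * q₂ * z)⁻¹ = q₂ * x₂ * q₂⁻¹ ∧
      (p₁ * q₁ * p₂ * q₂ * z) * y₂ * (p₁ * q₁ * p₂ * q₂ * z)⁻¹ = p₂ * y₂ * p₂⁻¹ := by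
    intro p₁ hp₁ q₁ hq₁ p₂ hp₂ q₂ hq₂ z hz
    have hin : ∀ x y, x ∈ nb D a ∩ nb D b → y ∈ nb D a ∩ nb D b → ∀ u ∈ W x,
        u * y * u⁻¹ ∈ cl D a b y := by
      rintro x y hx hy _ ⟨x', hx', rfl⟩
      exact (shift hD hprim h22 ha hb hx hx' hy).1
    refine ⟨?_, ?_, ?_, ?_⟩
    · rw [show (p₁ * q₁ * p₂ * q₂ * z) * x₁ * (p₁ * q₁ * p₂ * q₂ * z)⁻¹ =
        p₁ * (q₁ * (p₂ * (q₂ * (z * x₁ * z⁻¹) * q₂⁻¹) * p₂⁻¹) * q₁⁻¹) * p₁⁻¹ by group,
        hfixZ z hz x₁ hx₁, hfix y₂ x₁ hy₂ hx₁ c1'.symm q₂ hq₂ x₁ (Or.inl rfl),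
        hfix x₂ x₁ hx₂ hx₁ c12.symm p₂ hp₂ x₁ (Or.inl rfl)]
      exact hfix x₁ x₁ hx₁ hx₁ (Commute.refl _) p₁ hp₁ _ (hin y₁ x₁ hy₁ hx₁ q₁ hq₁)
    · rw [show (p₁ * q₁ * p₂ * q₂ * z) * y₁ * (p₁ * q₁ * p₂ * q₂ * z)⁻¹ =
        p₁ * (q₁ * (p₂ * (q₂ * (z * y₁ * z⁻¹) * q₂⁻¹) * p₂⁻¹) * q₁⁻¹) * p₁⁻¹ by group,
        hfixZ z hz y₁ hy₁, hfix y₂ y₁ hy₂ hy₁ c2'.symm q₂ hq₂ y₁ (Or.inl rfl),
        hfix x₂ y₁ hx₂ hy₁ c21.symm p₂ hp₂ y₁ (Or.inl rfl),
        hfix y₁ y₁ hy₁ hy₁ (Commute.refl _) q₁ hq₁ y₁ (Or.inl rfl)]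
    · rw [show (p₁ * q₁ * p₂ * q₂ * z) * x₂ * (p₁ * q₁ * p₂ * q₂ * z)⁻¹ =
        p₁ * (q₁ * (p₂ * (q₂ * (z * x₂ * z⁻¹) * q₂⁻¹) * p₂⁻¹) * q₁⁻¹) * p₁⁻¹ by group,
        hfixZ z hz x₂ hx₂,
        hfix x₂ x₂ hx₂ hx₂ (Commute.refl _) p₂ hp₂ _ (hin y₂ x₂ hy₂ hx₂ q₂ hq₂),
        hfix y₁ x₂ hy₁ hx₂ c21 q₁ hq₁ _ (hin y₂ x₂ hy₂ hx₂ q₂ hq₂),
        hfix x₁ x₂ hx₁ hx₂ c12 p₁ hp₁ _ (hin y₂ x₂ hy₂ hx₂ q₂ hq₂)]
    · rw [show (p₁ * q₁ * p₂ * q₂ * z) * y₂ * (p₁ * q₁ * p₂ * q₂ * z)⁻¹ =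
        p₁ * (q₁ * (p₂ * (q₂ * (z * y₂ * z⁻¹) * q₂⁻¹) * p₂⁻¹) * q₁⁻¹) * p₁⁻¹ by group,
        hfixZ z hz y₂ hy₂,
        hfix y₂ y₂ hy₂ hy₂ (Commute.refl _) q₂ hq₂ y₂ (Or.inl rfl),
        hfix y₁ y₂ hy₁ hy₂ c2' q₁ hq₁ _ (hin x₂ y₂ hx₂ hy₂ p₂ hp₂),
        hfix x₁ y₂ hx₁ hy₂ c1' p₁ hp₁ _ (hin x₂ y₂ hx₂ hy₂ p₂ hp₂)]
  have hinjW : ∀ x y, x ∈ nb D a ∩ nb D b → y ∈ nb D a ∩ nb D b → ¬ Commute x y →
      ∀ u ∈ W x, ∀ u' ∈ W x, u * y * u⁻¹ = u' * y * u'⁻¹ → u = u' := by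
    rintro x y hx hy hn u hu u' hu' h
    obtain ⟨x', hx', rfl⟩ := hu
    obtain ⟨x'', hx'', rfl⟩ := hu'
    simp only at h ⊢
    have h1 : x' * y * x'⁻¹ = x'' * y * x''⁻¹ := by
      apply mul_left_cancel (a := x)
      apply mul_right_cancel (b := x⁻¹)
      calc x * (x' * y * x'⁻¹) * x⁻¹ = x * x' * y * (x * x')⁻¹ := by group
        _ = x * (x'' * y * x''⁻¹) * x⁻¹ := by rw [h]; group
    have hnc : ∀ r ∈ cl D a b x, ¬ Commute r y := fun r hr hc => hn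
      ((cl_fix hD hprim h22 ha hb (cl_sub hD hprim h22 ha hb hx hr)
        (by rw [cl_eq hD hprim h22 ha hb hx hr]; exact Or.inl rfl) hy hc.symm).symm)
    have s1 := cl_sub hD hprim h22 ha hb hx hx'
    have s2 := cl_sub hD hprim h22 ha hb hx hx''
    rw [Classes.inv hD s1.1.1, Classes.inv hD s2.1.1, Basic.braid hD.1 s1.1.1 hy.1.1 (hnc _ hx'),
      Basic.braid hD.1 s2.1.1 hy.1.1 (hnc _ hx'')] at h1
    rw [mul_left_cancel (mul_right_cancel h1)]
  set f : G × G × G × G × G → G := fun t => t.1 * t.2.1 * t.2.2.1 * t.2.2.2.1 * t.2.2.2.2 with hf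
  set dom : Set (G × G × G × G × G) := W x₁ ×ˢ W y₁ ×ˢ W x₂ ×ˢ W y₂ ×ˢ Z with hdom
  have himg : f '' dom = P := by
    ext g
    constructor
    · rintro ⟨⟨p₁, q₁, p₂, q₂, z⟩, ⟨h1, h2, h3, h4, h5⟩, rfl⟩
      exact ⟨p₁, h1, q₁, h2, p₂, h3, q₂, h4, z, h5, rfl⟩
    · rintro ⟨p₁, h1, q₁, h2, p₂, h3, q₂, h4, z, h5, rfl⟩
      exact ⟨⟨p₁, q₁, p₂, q₂, z⟩, ⟨h1, h2, h3, h4, h5⟩, rfl⟩
  have hinj : Set.InjOn f dom := by
    rintro ⟨p₁, q₁, p₂, q₂, z⟩ ⟨h1, h2, h3, h4, h5⟩ ⟨p₁', q₁', p₂', q₂', z'⟩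
      ⟨h1', h2', h3', h4', h5'⟩ he
    simp only [hf] at he
    obtain ⟨a1, a2, a3, a4⟩ := hact p₁ h1 q₁ h2 p₂ h3 q₂ h4 z h5
    obtain ⟨b1, b2, b3, b4⟩ := hact p₁' h1' q₁' h2' p₂' h3' q₂' h4' z' h5'
    rw [he] at a1 a2 a3 a4
    have e2 := hinjW y₁ x₁ hy₁ hx₁ (fun h => n1 h.symm) _ h2 _ h2' (a1.symm.trans b1)
    have e1 := hinjW x₁ y₁ hx₁ hy₁ n1 _ h1 _ h1' (a2.symm.trans b2)
    have e4 := hinjW y₂ x₂ hy₂ hx₂ (fun h => n2 h.symm) _ h4 _ h4' (a3.symm.trans b3)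
    have e3 := hinjW x₂ y₂ hx₂ hy₂ n2 _ h3 _ h3' (a4.symm.trans b4)
    subst e1 e2 e3 e4
    rw [mul_left_cancel he]
  have hWcard : ∀ x ∈ nb D a ∩ nb D b, (W x).ncard = 4 := fun x hx => by
    rw [hW, Set.ncard_image_of_injective _ (mul_right_injective x),
      (cl_spec hD hprim h22 ha hb hx).1]
  have hcard : Nat.card M = 2 ^ 9 := by
    rw [← SetLike.coe_sort_coe, Nat.card_coe_set_eq, hMP, ← himg, hinj.ncard_image, hdom,
      Set.ncard_prod, Set.ncard_prod, Set.ncard_prod, Set.ncard_prod, hWcard _ hx₁, hWcard _ hy₁,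
      hWcard _ hx₂, hWcard _ hy₂, hZ, Set.ncard_pair (mul_pair_ne_one hD hprim h22 ha hb).symm]
    norm_num
  refine ⟨M, (Subgroup.closure_le _).2 hTR, hcard, ?_, Subgroup.subset_closure (Or.inr (Or.inr rfl)),
    ?_⟩
  · intro haM
    rw [← SetLike.mem_coe, hMP] at haM
    obtain ⟨p₁, h1, q₁, h2, p₂, h3, q₂, h4, z, h5, he⟩ := haM
    obtain ⟨a1, a2, a3, a4⟩ := hact p₁ h1 q₁ h2 p₂ h3 q₂ h4 z h5
    rw [← he] at a1 a2 a3 a4
    rw [hx₁.1.2.2.mul_inv_cancel] at a1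
    rw [hy₁.1.2.2.mul_inv_cancel] at a2
    rw [hx₂.1.2.2.mul_inv_cancel] at a3
    rw [hy₂.1.2.2.mul_inv_cancel] at a4
    have e2 := hinjW y₁ x₁ hy₁ hx₁ (fun h => n1 h.symm) _ h2 1 (hW1 _ hy₁) (by simpa using a1.symm)
    have e1 := hinjW x₁ y₁ hx₁ hy₁ n1 _ h1 1 (hW1 _ hx₁) (by simpa using a2.symm)
    have e4 := hinjW y₂ x₂ hy₂ hx₂ (fun h => n2 h.symm) _ h4 1 (hW1 _ hy₂) (by simpa using a3.symm)
    have e3 := hinjW x₂ y₂ hx₂ hy₂ n2 _ h3 1 (hW1 _ hx₂) (by simpa using a4.symm)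
    subst e1 e2 e3 e4
    rw [one_mul, one_mul, one_mul, one_mul] at he
    rcases h5 with rfl | rfl
    · exact Basic.ne_one hD.1 ha he
    · exact Basic.ne_one hD.1 hb.1 (left_eq_mul.1 he)
  · obtain ⟨s, hs, hne⟩ := Set.exists_ne_of_one_lt_ncard
      ((cl_spec hD hprim h22 ha hb hx₁).1.symm ▸ (by norm_num : 1 < 4)) x₁
    obtain ⟨r, hr, hne'⟩ := Set.exists_ne_of_one_lt_ncard
      ((cl_spec hD hprim h22 ha hb hy₁).1.symm ▸ (by norm_num : 1 < 4)) y₁
    obtain ⟨hm, hmove⟩ := shift hD hprim h22 ha hb hx₁ hs hy₁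
    have hy1 := hmove n1 hne
    obtain ⟨r', hr', hr'1, hr'2⟩ : ∃ r ∈ cl D a b y₁, r ≠ y₁ ∧
        r ≠ x₁ * s * y₁ * (x₁ * s)⁻¹ := by
      by_contra! hcon
      have h4 := (cl_spec hD hprim h22 ha hb hy₁).1
      have := Set.ncard_le_ncard (s := cl D a b y₁) (t := {y₁, x₁ * s * y₁ * (x₁ * s)⁻¹})
        (fun r hr => by
          by_cases e : r = y₁
          exacts [Or.inl e, Or.inr (hcon r hr e)]) (Set.toFinite _)
      rw [h4, Set.ncard_pair hy1.symm] at this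
      omega
    refine ⟨x₁ * s, Subgroup.subset_closure (Or.inl (Or.inl (Or.inl (Or.inl ⟨s, hs, rfl⟩)))),
      y₁ * r', Subgroup.subset_closure (Or.inl (Or.inl (Or.inl (Or.inr ⟨r', hr', rfl⟩)))),
      fun hc => ?_⟩
    set u := x₁ * s with hu
    set y' := u * y₁ * u⁻¹ with hy'
    have heq : y' * (u * r' * u⁻¹) = y₁ * r' := by
      rw [hy', show u * y₁ * u⁻¹ * (u * r' * u⁻¹) = u * (y₁ * r') * u⁻¹ by group,
        hc.mul_inv_cancel]
    have hr'S := cl_sub hD hprim h22 ha hb hy₁ hr'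
    have hy'S := cl_sub hD hprim h22 ha hb hy₁ hm
    have hval : u * r' * u⁻¹ = y' * y₁ * r' := by
      rw [mul_assoc y' y₁ r', ← heq, ← mul_assoc, Classes.sq hD hy'S.1.1, one_mul]
    have h13 : 3 = 1 := prod_number hD hprim h22 (m := 3) (m' := 1) (x := u * r' * u⁻¹)
      (by norm_num) le_rfl le_rfl (by norm_num)
      ⟨[y', y₁, r'], by simp [hy1, Ne.symm hr'1, Ne.symm hr'2], rfl, by
        simp only [List.mem_cons, List.not_mem_nil, or_false]
        rintro t (rfl | rfl | rfl)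
        exacts [hy'S.1.1, hy₁.1.1, hr'S.1.1], by
        simp only [List.mem_cons, List.not_mem_nil, or_false]
        intro t ht t' ht'
        have hin : ∀ {t}, t = y' ∨ t = y₁ ∨ t = r' → t ∈ cl D a b y₁ := by
          rintro t (rfl | rfl | rfl)
          exacts [hm, Or.inl rfl, hr']
        exact cl_comm hD hprim h22 ha hb hy₁ (hin ht) (hin ht'), by
        rw [hval]; simp [mul_assoc]⟩
      ⟨[u * r' * u⁻¹], by simp, rfl, by simpa using hD.2.1 u r' hr'S.1.1, by simp, by simp⟩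
    omega

/-- The radical has order at least `2¹⁰`. -/
theorem radical_card : 2 ^ 10 ≤ Nat.card ↥(radical D a b) := by
  obtain ⟨M, hM, hc, haM, -, -⟩ := exists_half hD hprim h22 ha hb
  obtain ⟨k, hk⟩ := Subgroup.card_dvd_of_le hM
  have hpos : 0 < Nat.card ↥(radical D a b) := Nat.card_pos
  have hne : k ≠ 1 := by
    rintro rfl
    refine haM ?_
    rw [Subgroup.eq_of_le_of_card_ge hM (by rw [hk, mul_one])]
    exact Subgroup.subset_closure (by simp)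
  rw [hk, hc] at hpos ⊢
  have : 2 ≤ k := by
    rcases Nat.eq_zero_or_pos k with h | h
    · subst h; simp at hpos
    · omega
  calc 2 ^ 10 = 2 ^ 9 * 2 := by norm_num
    _ ≤ 2 ^ 9 * k := Nat.mul_le_mul_left _ this

end Cfsg.Agent.ThreeTransp.M22
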