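import Cfsg.Agent.Lib.ThreeTransp.M22.Count

/-!
The stabiliser of an isotropic point of the six-dimensional unitary space over the field with four
elements is generated, modulo scalars, by the transvections orthogonal to the point.
-/

set_option autoImplicit false
set_option linter.unusedSectionVars false

namespace Cfsg.Agent.ThreeTransp.M22.Stab

open Matrix Cfsg.Agent.Classical.Unitary
open Cfsg.Agent.Forms
open Cfsg.Agent.GroupStructure3.ThreeTransUnitary
open Cfsg.Agent.ThreeTransp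
open Cfsg.Agent.ThreeTransp.UnitaryPoints (near near_fix near_transitive tr_mem_near)

variable {F : Type*} [Field F] [Fintype F] (hF : Fintype.card F = 2 ^ 2)
include hF

local notation "Vec" => (Fin 6 → F)
local notation "H" => Cfsg.hermForm 6 F 2

/-- An isotropic vector whose fixing elements are generated by transvections. -/
theorem exists_base : ∃ v₀ : Vec, v₀ ≠ 0 ∧ H v₀ v₀ = 0 ∧
    ∀ g : Cfsg.SU 6 F 2, mat g *ᵥ v₀ = v₀ → g ∈ near hF v₀ := by
  obtain ⟨ω, h3, hω, hω0⟩ := UnitaryPoints.exists_omega hF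
  have h2 := two_zero hF
  set e4 : Vec := Pi.single 4 1 with he4
  set e5 : Vec := Pi.single 5 1 with he5
  have h45 : ∀ a b c d : F, H (a • e4 + b • e5) (c • e4 + d • e5) = a * c ^ 2 + b * d ^ 2 := by
    intro a b c d
    simp [H_add_left, H_add_right hF, H_smul_left, H_smul_right, he4, he5, H_single_single hF]
    ring
  obtain ⟨v₀, hv₀⟩ : ∃ v, v = (1 : F) • e4 + (1 : F) • e5 := ⟨_, rfl⟩
  obtain ⟨u₀, hu₀⟩ : ∃ u, u = ω • e4 + ω ^ 2 • e5 := ⟨_, rfl⟩
  have hvv : H v₀ v₀ = 0 := by rw [hv₀, h45]; linear_combination h2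
  have huu : H u₀ u₀ = 0 := by rw [hu₀, h45]; linear_combination (ω ^ 3 + 2) * h3 + h2
  have huv : H u₀ v₀ = 1 := by rw [hu₀, hv₀, h45]; linear_combination hω - h2
  have hv0 : v₀ ≠ 0 := fun e => by
    rw [e, H_zero_right hF] at huv
    exact zero_ne_one huv
  refine ⟨v₀, hv0, hvv, fun g hg => ?_⟩
  obtain ⟨k, hk, hku⟩ := near_transitive hF (n := 6) (by norm_num) hvv huu huv
    (w := mat g *ᵥ u₀) (by rw [SU_H, huu]) (by
      conv_lhs => rw [← hg]
      rw [SU_H, huv])
  set g' := k⁻¹ * g with hg'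
  have hgv : mat g' *ᵥ v₀ = v₀ := by
    rw [hg', mul_mulVec, hg, inv_mulVec k (near_fix hF hk)]
  have hgu : mat g' *ᵥ u₀ = u₀ := by rw [hg', mul_mulVec, inv_mulVec k hku]
  suffices h : g' ∈ near hF v₀ by
    rw [show g = k * g' by rw [hg', mul_inv_cancel_left]]
    exact mul_mem hk h
  have hne : ω ^ 2 - ω ≠ 0 := fun e => by
    have : (1 : F) = 0 := by linear_combination hω - e - ω * h2
    exact one_ne_zero this
  have e5' : e5 = (ω ^ 2 - ω)⁻¹ • (u₀ - ω • v₀) := by
    rw [hu₀, hv₀, show ω • e4 + ω ^ 2 • e5 - ω • ((1 : F) • e4 + (1 : F) • e5) =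
      (ω ^ 2 - ω) • e5 by module, inv_smul_smul₀ hne]
  have hg5 : mat g' *ᵥ e5 = e5 := by
    rw [e5', Matrix.mulVec_smul, Matrix.mulVec_sub, Matrix.mulVec_smul, hgu, hgv]
  have hg4 : mat g' *ᵥ e4 = e4 := by
    have e4' : e4 = v₀ - e5 := by rw [hv₀]; module
    rw [e4', Matrix.mulVec_sub, hgv, hg5]
  obtain ⟨g5, hg5e⟩ := exists_emb_eq (m := 5) hF g' (by simpa [he5] using hg5)
  have h4' : mat g5 *ᵥ Pi.single (Fin.natAdd 4 (0 : Fin 1)) 1 =
      (Pi.single (Fin.natAdd 4 (0 : Fin 1)) 1 : Fin (4 + 1) → F) := by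
    have e : e4 = (Fin.append (Pi.single (Fin.natAdd 4 (0 : Fin 1)) 1 : Fin (4 + 1) → F) (0 : Fin 1 → F) :
        Fin (5 + 1) → F) := by
      refine funext fun (i : Fin (5 + 1)) => ?_
      induction i using Fin.addCases with
      | left i =>
        rw [Fin.append_left]
        simp [he4, Pi.single_apply, Fin.ext_iff]
      | right j =>
        obtain rfl : j = 0 := Subsingleton.elim _ _
        rw [Fin.append_right]
        simp [he4, Pi.single_apply, Fin.ext_iff]
    rw [e, ← hg5e, emb_mulVec] at hg4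
    funext i
    have := congrFun hg4 (Fin.castAdd 1 i)
    simpa using this
  obtain ⟨g4, hg4e⟩ := exists_emb_eq (m := 4) hF g5 h4'
  rw [← hg5e, ← hg4e]
  have htop := (three_class hF (n := 4) le_rfl).2.2
  have hg4mem : g4 ∈ (⊤ : Subgroup (Cfsg.SU 4 F 2)) := Subgroup.mem_top _
  rw [← htop] at hg4mem
  clear hg4e hg5e h4' hg4
  induction hg4mem using Subgroup.closure_induction with
  | one => rw [map_one, map_one]; exact one_mem _
  | mul a b _ _ ha hb => rw [map_mul, map_mul]; exact mul_mem ha hb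
  | inv a _ ha => rw [map_inv, map_inv]; exact inv_mem ha
  | mem t ht =>
    obtain ⟨w, hw, -, rfl⟩ := (rank_one_iff hF t).1 ht
    set w6 : Fin (5 + 1) → F := Fin.append (Fin.append w (0 : Fin 1 → F)) (0 : Fin 1 → F) with hw6
    have hww : H w6 w6 = 0 := by
      show Cfsg.hermForm (5 + 1) F 2 w6 w6 = 0
      rw [hw6, H_append, show Cfsg.hermForm 5 F 2 (Fin.append w (0 : Fin 1 → F))
        (Fin.append w (0 : Fin 1 → F)) = Cfsg.hermForm (4 + 1) F 2 (Fin.append w (0 : Fin 1 → F))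
        (Fin.append w (0 : Fin 1 → F)) from rfl, H_append, hw]
      simp [H_zero_left]
    have hwv : H w6 v₀ = 0 := by
      have c4 : w6 (4 : Fin 6) = 0 := by
        show w6 (Fin.castAdd 1 (Fin.natAdd 4 (0 : Fin 1))) = 0
        rw [hw6, Fin.append_left, Fin.append_right]; rfl
      have c5 : w6 (5 : Fin 6) = 0 := by
        show w6 (Fin.natAdd 5 (0 : Fin 1)) = 0
        rw [hw6, Fin.append_right]; rfl
      rw [hv₀, H_add_right hF, H_smul_right, H_smul_right, he4, he5, H_single_right hF,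
        H_single_right hF, c4, c5]
      ring
    suffices h : emb (emb (tr hF hw)) = tr hF hww by rw [h]; exact tr_mem_near hF hww hwv
    refine SU_ext fun x => ?_
    rw [← append_eta (m := 5) x, emb_mulVec]
    generalize (fun i : Fin 5 => x (Fin.castAdd 1 i)) = y
    generalize (fun j : Fin 1 => x (Fin.natAdd 5 j)) = z
    rw [← append_eta (m := 4) y, emb_mulVec, tr_mulVec, tr_mulVec]
    generalize (fun i : Fin 4 => y (Fin.castAdd 1 i)) = p
    generalize (fun j : Fin 1 => y (Fin.natAdd 4 j)) = r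
    have hH : H (Fin.append (Fin.append p r : Fin 5 → F) z : Fin (5 + 1) → F) w6 =
        Cfsg.hermForm 4 F 2 p w := by
      show Cfsg.hermForm (5 + 1) F 2 _ w6 = _
      rw [hw6, H_append]
      show Cfsg.hermForm (4 + 1) F 2 _ _ + _ = _
      rw [H_append, H_zero_right hF, H_zero_right hF, add_zero, add_zero]
    rw [hH]
    funext i
    induction i using Fin.addCases with
    | left i =>
      rw [Fin.append_left]
      induction i using Fin.addCases with
      | left i => simp [hw6, Fin.append_left]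
      | right j => simp [hw6, Fin.append_left, Fin.append_right]
    | right j => simp [hw6, Fin.append_right]

/-- A vector's fixing elements are generated by the transvections orthogonal to it. -/
theorem vector_stab {v : Vec} (hv : H v v = 0) (hv0 : v ≠ 0) {g : Cfsg.SU 6 F 2}
    (hg : mat g *ᵥ v = v) : g ∈ near hF v := by
  obtain ⟨v₀, hv₀0, hv₀, hbase⟩ := exists_base hF
  obtain ⟨k, a, hk⟩ := exists_su_point hF hv0 hv₀0 hv hv₀
  have ha : a ≠ 0 := by
    rintro rfl
    rw [zero_smul] at hk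
    exact mat_mulVec_ne_zero k hv0 hk
  have hfix : mat (k * g * k⁻¹) *ᵥ v₀ = v₀ := by
    have h : mat (k * g * k⁻¹) *ᵥ (a • v₀) = a • v₀ := by
      rw [mul_mulVec, mul_mulVec, inv_mulVec k hk, hg, hk]
    rw [Matrix.mulVec_smul] at h
    exact smul_right_injective Vec ha h
  have key : ∀ m ∈ near hF v₀, k⁻¹ * m * k ∈ near hF v := by
    intro m hm
    induction hm using Subgroup.closure_induction with
    | mem t ht =>
      obtain ⟨w, hw, hwv, rfl⟩ := ht
      have hw' : H (mat k⁻¹ *ᵥ w) (mat k⁻¹ *ᵥ w) = 0 := by rw [SU_H, hw]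
      have h := tr_conj hF k⁻¹ hw hw' rfl
      rw [inv_inv] at h
      rw [h]
      refine tr_mem_near hF hw' ?_
      rw [show v = mat k⁻¹ *ᵥ (a • v₀) from (inv_mulVec k hk).symm, SU_H, H_smul_right, hwv,
        mul_zero]
    | one => rw [mul_one, inv_mul_cancel]; exact one_mem _
    | mul p q _ _ hp hq =>
      rw [show k⁻¹ * (p * q) * k = (k⁻¹ * p * k) * (k⁻¹ * q * k) by group]
      exact mul_mem hp hq
    | inv p _ hp =>
      rw [show k⁻¹ * p⁻¹ * k = (k⁻¹ * p * k)⁻¹ by group]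
      exact inv_mem hp
  have := key _ (hbase _ hfix)
  rwa [show k⁻¹ * (k * g * k⁻¹) * k = g by group] at this

/-- A point's stabiliser, modulo scalars. -/
theorem point_stab {v : Vec} (hv : H v v = 0) (hv0 : v ≠ 0) {g : Cfsg.SU 6 F 2} {a : F}
    (hg : mat g *ᵥ v = a • v) :
    ∃ k ∈ near hF v, QuotientGroup.mk' (Subgroup.center (Cfsg.SU 6 F 2)) k =
      QuotientGroup.mk' (Subgroup.center (Cfsg.SU 6 F 2)) g := by
  have ha : a ≠ 0 := by
    rintro rfl
    rw [zero_smul] at hg
    exact mat_mulVec_ne_zero g hv0 hg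
  have ha3 : a⁻¹ ^ 3 = 1 := cube hF (inv_ne_zero ha)
  have hpres : ∀ x y : Vec, H ((a⁻¹ • (1 : Matrix (Fin 6) (Fin 6) F)) *ᵥ x)
      ((a⁻¹ • (1 : Matrix (Fin 6) (Fin 6) F)) *ᵥ y) = H x y := fun x y => by
    rw [smul_mulVec, smul_mulVec, one_mulVec, one_mulVec, H_smul_left, H_smul_right, ← mul_assoc,
      ← pow_succ', ha3, one_mul]
  obtain ⟨z, hz⟩ : ∃ z, z = suMk (a⁻¹ • (1 : Matrix (Fin 6) (Fin 6) F)) (by
      rw [Matrix.det_smul, Matrix.det_one, mul_one, Fintype.card_fin,
        show 6 = 3 * 2 by rfl, pow_mul, ha3, one_pow]) hpres := ⟨_, rfl⟩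
  have hzc : z ∈ Subgroup.center (Cfsg.SU 6 F 2) :=
    (mem_center_iff hF (by norm_num) z).2 ⟨a⁻¹, by rw [hz]; rfl⟩
  refine ⟨z * g, vector_stab hF hv hv0 ?_, ?_⟩
  · rw [mul_mulVec, hg, hz, suMk_mulVec, smul_mulVec, one_mulVec, smul_smul,
      inv_mul_cancel₀ ha, one_smul]
  · rw [map_mul, show QuotientGroup.mk' _ z = 1 from (QuotientGroup.eq_one_iff z).2 hzc, one_mul]

end Cfsg.Agent.ThreeTransp.M22.Stab
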