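import Cfsg.Agent.Lib.ThreeTransp.M22.Lines
import Cfsg.Agent.Lib.ThreeTransp.M22.Involutions
import Cfsg.Agent.Lib.PLocal.ThompsonSubgroup

/-!
In a group of type M(22) the members inside a Sylow 2-subgroup generate the unique largest
elementary abelian subgroup of that Sylow subgroup.
-/

set_option autoImplicit false
set_option linter.unusedSectionVars false

namespace Cfsg.Agent.ThreeTransp.M22.Thompson

open Matrix Cfsg.Agent.Classical.Unitary
open Cfsg.Agent.Forms
open Cfsg.Agent.GroupStructure3.ThreeTransUnitary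
open Cfsg.Agent.ThreeTransp
open Cfsg.Agent.ThreeTransp.Factor (nb Hd mem_Hd Rel)

/-- A commutative group of permutations of 22 points, of two-power order, in which nothing but the
identity fixes more than six points, has order at most 16. -/
theorem perm_bound {X : Type*} [Finite X] (hX : Nat.card X = 22) (R : Subgroup (Equiv.Perm X))
    (hc : ∀ p ∈ R, ∀ q ∈ R, p * q = q * p) {k : ℕ} (hk : Nat.card R = 2 ^ k)
    (hfix : ∀ p ∈ R, p ≠ 1 → {x | p x = x}.ncard ≤ 6) : Nat.card R ≤ 16 := by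
  classical
  haveI := Fintype.ofFinite X
  by_contra hcon
  have h32 : 32 ≤ Nat.card R := by
    rw [hk] at hcon ⊢
    have h5 : 5 ≤ k := by
      by_contra h
      exact hcon ((Nat.pow_le_pow_right (by norm_num) (show k ≤ 4 by omega)).trans (by norm_num))
    exact (show 32 ≤ 2 ^ 5 by norm_num).trans (Nat.pow_le_pow_right (by norm_num) h5)
  have horb : ∀ x : X, (MulAction.orbit R x).ncard * Nat.card (MulAction.stabilizer R x) =
      Nat.card R := fun x => by
    rw [← Nat.card_coe_set_eq, ← Nat.card_prod,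
      Nat.card_congr (MulAction.orbitProdStabilizerEquivGroup R x)]
  have hfixorb : ∀ (x : X) (p : R), p ∈ MulAction.stabilizer R x →
      MulAction.orbit R x ⊆ {y | (p : Equiv.Perm X) y = y} := by
    rintro x p hp _ ⟨q, rfl⟩
    have hp' : (p : Equiv.Perm X) x = x := hp
    show (p : Equiv.Perm X) ((q : Equiv.Perm X) x) = (q : Equiv.Perm X) x
    rw [← Equiv.Perm.mul_apply, hc _ p.2 _ q.2, Equiv.Perm.mul_apply, hp']
  have hsmall : ∀ x : X, (MulAction.orbit R x).ncard ≤ 2 ∨ (MulAction.orbit R x).ncard = 4 := by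
    intro x
    have hle : (MulAction.orbit R x).ncard ≤ 22 := by
      rw [← hX, ← Set.ncard_univ]
      exact Set.ncard_le_ncard (Set.subset_univ _) (Set.toFinite _)
    have hne : MulAction.stabilizer R x ≠ ⊥ := fun h => by
      have := horb x
      rw [h, Subgroup.card_bot, mul_one] at this
      omega
    obtain ⟨⟨p, hp⟩, hp1'⟩ := Subgroup.ne_bot_iff_exists_ne_one.1 hne
    have hp1 : p ≠ 1 := fun e => hp1' (Subtype.ext e)
    have h6 := (Set.ncard_le_ncard (hfixorb x p hp) (Set.toFinite _)).trans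
      (hfix _ p.2 fun e => hp1 (Subtype.ext e))
    obtain ⟨j, -, hj⟩ := (Nat.dvd_prime_pow Nat.prime_two).1
      (show (MulAction.orbit R x).ncard ∣ 2 ^ k from hk ▸ ⟨_, (horb x).symm⟩)
    have hj3 : j ≤ 2 := by
      by_contra h
      have := Nat.pow_le_pow_right (show 0 < 2 by norm_num) (show 3 ≤ j by omega)
      omega
    interval_cases j <;> omega
  have hfour : ∀ x y : X, (MulAction.orbit R x).ncard = 4 → (MulAction.orbit R y).ncard = 4 →
      y ∈ MulAction.orbit R x := by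
    intro x y hx hy
    by_contra hyx
    have hi := Subgroup.index_inf_le (H := MulAction.stabilizer R x) (K := MulAction.stabilizer R y)
    rw [MulAction.index_stabilizer, MulAction.index_stabilizer, hx, hy] at hi
    have hne : MulAction.stabilizer R x ⊓ MulAction.stabilizer R y ≠ ⊥ := fun h => by
      rw [h, Subgroup.index_bot] at hi
      omega
    obtain ⟨⟨p, hp⟩, hp1'⟩ := Subgroup.ne_bot_iff_exists_ne_one.1 hne
    have hp1 : p ≠ 1 := fun e => hp1' (Subtype.ext e)
    have hdis : Disjoint (MulAction.orbit R x) (MulAction.orbit R y) :=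
      Set.disjoint_left.2 fun z h1 h2 => hyx (by
        rw [← MulAction.orbit_eq_iff.2 h1, MulAction.orbit_eq_iff.2 h2]
        exact MulAction.mem_orbit_self y)
    have h := Set.ncard_le_ncard (Set.union_subset (hfixorb x p hp.1) (hfixorb y p hp.2))
      (Set.toFinite _)
    rw [Set.ncard_union_eq hdis (Set.toFinite _) (Set.toFinite _), hx, hy] at h
    have := hfix _ p.2 fun e => hp1 (Subtype.ext e)
    omega
  -- count the pairs (element, fixed point)
  haveI := Fintype.ofFinite R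
  set N := Nat.card R with hN
  have hsum : ∑ x : X, Nat.card (MulAction.stabilizer R x) =
      ∑ p : R, {x | (p : Equiv.Perm X) x = x}.ncard := by
    have h1 : ∀ x : X, Nat.card (MulAction.stabilizer R x) =
        ∑ p : R, if (p : Equiv.Perm X) x = x then 1 else 0 := by
      intro x
      rw [← Finset.sum_filter, ← Finset.card_eq_sum_ones, Nat.card_eq_fintype_card,
        Fintype.card_subtype]
      rfl
    have h2 : ∀ p : R, {x | (p : Equiv.Perm X) x = x}.ncard =
        ∑ x : X, if (p : Equiv.Perm X) x = x then 1 else 0 := by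
      intro p
      rw [← Finset.sum_filter, ← Finset.card_eq_sum_ones, ← Set.ncard_coe_finset]
      simp
    simp only [h1, h2]
    exact Finset.sum_comm
  have hupper : ∑ p : R, {x | (p : Equiv.Perm X) x = x}.ncard ≤ 22 + 6 * (N - 1) := by
    rw [← Finset.add_sum_erase _ _ (Finset.mem_univ (1 : R))]
    refine add_le_add ?_ ?_
    · rw [← hX, ← Set.ncard_univ]
      exact Set.ncard_le_ncard (Set.subset_univ _) (Set.toFinite _)
    · have hc' : (Finset.univ.erase (1 : R)).card = N - 1 := by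
        rw [Finset.card_erase_of_mem (Finset.mem_univ _), Finset.card_univ, hN,
          Nat.card_eq_fintype_card]
      refine (Finset.sum_le_card_nsmul _ _ 6 fun p hp => ?_).trans ?_
      · exact hfix _ p.2 fun e => (Finset.mem_erase.1 hp).1 (Subtype.ext e)
      · rw [hc', smul_eq_mul, mul_comm]
  set B := Finset.univ.filter fun x : X => (MulAction.orbit R x).ncard = 4 with hB
  have hB4 : B.card ≤ 4 := by
    rcases B.eq_empty_or_nonempty with h | ⟨x, hx⟩
    · rw [h]; simp
    · rw [hB, Finset.mem_filter] at hx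
      rw [← Set.ncard_coe_finset, ← hx.2]
      refine Set.ncard_le_ncard (fun y hy => ?_) (Set.toFinite _)
      rw [Finset.mem_coe, hB, Finset.mem_filter] at hy
      exact hfour x y hx.2 hy.2
  have hlow : Bᶜ.card * N ≤ 2 * ∑ x : X, Nat.card (MulAction.stabilizer R x) := by
    refine le_trans ?_ (Nat.mul_le_mul_left 2
      (Finset.sum_le_sum_of_subset (Finset.subset_univ Bᶜ)))
    rw [Finset.mul_sum, ← smul_eq_mul]
    refine Finset.card_nsmul_le_sum _ _ _ fun x hx => ?_
    have h2 : (MulAction.orbit R x).ncard ≤ 2 := (hsmall x).resolve_right fun h =>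
      Finset.mem_compl.1 hx (Finset.mem_filter.2 ⟨Finset.mem_univ _, h⟩)
    calc N = _ := (horb x).symm
      _ ≤ _ := Nat.mul_le_mul_right _ h2
  rw [Finset.card_compl, ← Nat.card_eq_fintype_card, hX, hsum] at hlow
  have := Nat.mul_le_mul_right N (show 18 ≤ 22 - B.card by omega)
  omega

variable {G : Type*} [Group G] [Finite G] {D : Set G} (hD : Cfsg.IsThreeTranspositionGroup D)
  (hprim : Cfsg.IsPrimitiveUnderConj D) (h22 : Cfsg.IsOfTypeM22 G D) (T : Sylow 2 G)
include hD hprim h22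

omit hprim h22 in
theorem comm {x y : G} (hx : x ∈ D ∧ x ∈ (T : Subgroup G)) (hy : y ∈ D ∧ y ∈ (T : Subgroup G)) :
    Commute x y := by
  by_contra h
  have h3 := Basic.orderOf_eq_three hD.1 hx.1 hy.1 h
  obtain ⟨k, hk⟩ := T.isPGroup' ⟨x * y, mul_mem hx.2 hy.2⟩
  have h4 : (x * y) ^ 2 ^ k = 1 := congrArg Subtype.val hk
  have h5 := orderOf_dvd_of_pow_eq_one h4
  rw [h3] at h5
  exact absurd (Nat.prime_three.dvd_of_dvd_pow h5) (by norm_num)

theorem ncard_members : {x : G | x ∈ D ∧ x ∈ (T : Subgroup G)}.ncard = 22 := by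
  refine le_antisymm ?_ ?_
  · rw [← width hD hprim h22]
    refine le_csSup ⟨Nat.card G, ?_⟩ ⟨_, fun x hx => hx.1, Set.toFinite _,
      fun x hx y hy => comm hD T hx hy, rfl⟩
    rintro n ⟨E, -, -, -, rfl⟩
    rw [← Set.ncard_univ]
    exact Set.ncard_le_ncard (Set.subset_univ E) (Set.toFinite _)
  · obtain ⟨E, hE, -, hc, hcard⟩ : 22 ∈ {n : ℕ | ∃ E : Set G, E ⊆ D ∧ E.Finite ∧
        (∀ a ∈ E, ∀ b ∈ E, Commute a b) ∧ E.ncard = n} := by
      rw [← width hD hprim h22]
      refine Nat.sSup_mem ⟨0, ∅, Set.empty_subset _, Set.finite_empty, by simp, by simp⟩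
        ⟨Nat.card G, ?_⟩
      rintro n ⟨E, -, -, -, rfl⟩
      rw [← Set.ncard_univ]
      exact Set.ncard_le_ncard (Set.subset_univ E) (Set.toFinite _)
    have hP : IsPGroup 2 ↥(Subgroup.closure E) := by
      haveI := Subgroup.isMulCommutative_closure (k := E) (fun a ha b hb => (hc a ha b hb).eq)
      rintro ⟨x, hx⟩
      refine ⟨1, Subtype.ext ?_⟩
      rw [pow_one]
      show x ^ 2 = 1
      induction hx using Subgroup.closure_induction with
      | mem y hy => rw [pow_two, Classes.sq hD (hE hy)]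
      | one => exact one_pow _
      | mul p q hp hq ihp ihq =>
        rw [Commute.mul_pow (congrArg Subtype.val
          (mul_comm' (⟨p, hp⟩ : ↥(Subgroup.closure E)) ⟨q, hq⟩)), ihp, ihq, one_mul]
      | inv p _ ihp => rw [inv_pow, ihp, inv_one]
    obtain ⟨S, hS⟩ := hP.exists_le_sylow
    obtain ⟨g, hg⟩ := MulAction.exists_smul_eq G S T
    rw [← hcard, ← Set.ncard_image_of_injective E (MulAut.conj g).injective]
    refine Set.ncard_le_ncard ?_ (Set.toFinite _)
    rintro _ ⟨x, hx, rfl⟩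
    refine ⟨hD.2.1 g x (hE hx), ?_⟩
    rw [← hg, Sylow.coe_subgroup_smul]
    exact Subgroup.smul_mem_pointwise_smul _ (MulAut.conj g) _ (hS (Subgroup.subset_closure hx))

theorem maximal {e : G} (he : e ∈ D) (hc : ∀ x, x ∈ D → x ∈ (T : Subgroup G) → Commute e x) :
    e ∈ (T : Subgroup G) := by
  by_contra h
  set W : Set G := {x : G | x ∈ D ∧ x ∈ (T : Subgroup G)}
  have h1 : (insert e W).ncard ≤ 22 := by
    rw [← width hD hprim h22]
    refine le_csSup ⟨Nat.card G, ?_⟩ ⟨_, Set.insert_subset he fun x hx => hx.1, Set.toFinite _,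
      ?_, rfl⟩
    · rintro n ⟨E, -, -, -, rfl⟩
      rw [← Set.ncard_univ]
      exact Set.ncard_le_ncard (Set.subset_univ E) (Set.toFinite _)
    · rintro x (rfl | hx) y (rfl | hy)
      exacts [Commute.refl _, hc _ hy.1 hy.2, (hc _ hx.1 hx.2).symm, comm hD T hx hy]
  rw [Set.ncard_insert_of_notMem (fun h' => h h'.2) (Set.toFinite _),
    ncard_members hD hprim h22 T] at h1
  omega

set_option quotPrecheck false in
local notation "Ω" => ({x : G | x ∈ D ∧ x ∈ (T : Subgroup G)} : Set G)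
set_option quotPrecheck false in
local notation "EE" => Subgroup.closure ({x : G | x ∈ D ∧ x ∈ (T : Subgroup G)} : Set G)

omit hprim h22 in
theorem EE_comm : ∀ p ∈ EE, ∀ q ∈ EE, p * q = q * p := by
  intro p hp q hq
  haveI := Subgroup.isMulCommutative_closure (k := Ω) (fun a ha b hb => (comm hD T ha hb).eq)
  exact congrArg Subtype.val (mul_comm' (⟨p, hp⟩ : ↥EE) ⟨q, hq⟩)

omit hprim h22 in
theorem EE_sq {x : G} (hx : x ∈ EE) : x * x = 1 := by
  induction hx using Subgroup.closure_induction with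
  | mem y hy => exact Classes.sq hD hy.1
  | one => exact one_mul _
  | mul p q hp hq ihp ihq =>
    rw [show p * q * (p * q) = p * (q * p) * q by simp [mul_assoc], ← EE_comm hD T p hp q hq,
      ← mul_assoc, ihp, one_mul, ihq]
  | inv p _ ihp => rw [← _root_.mul_inv_rev, ihp, inv_one]

/-- An element of order at most two centralising all these members lies in their span. -/
theorem mem_EE {g : G} (hg : g * g = 1) (hc : ∀ x ∈ Ω, Commute g x) : g ∈ EE := by
  by_cases h1 : g = 1
  · rw [h1]; exact one_mem _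
  obtain ⟨m, hm1, hm3, l, hn, hl, hlD, hlc, hlp⟩ :=
    exists_prod hD hprim h22 (orderOf_eq_prime (by rw [pow_two, hg]) h1)
  subst hlp
  refine Subgroup.list_prod_mem _ fun p hp => Subgroup.subset_closure ⟨hlD p hp, ?_⟩
  refine maximal hD hprim h22 T (hlD p hp) fun x hx hxT => ?_
  have hj : Commute x l.prod := (hc x ⟨hx, hxT⟩).symm
  match l, hl with
  | [], h => simp at h; omega
  | [a], _ =>
    rw [List.mem_singleton] at hp
    subst hp
    simpa using hj.symm
  | [a, b], _ =>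
    have := Factor.commute_each_two hD (hlD a (by simp)) (hlD b (by simp)) hx
      (by simpa using hn) (by simpa using hj)
    simp only [List.mem_cons, List.not_mem_nil, or_false] at hp
    rcases hp with rfl | rfl
    exacts [this.1.symm, this.2.symm]
  | [a, b, c], _ =>
    simp only [List.nodup_cons, List.mem_cons, List.not_mem_nil, or_false, not_or, List.nodup_nil,
      and_true, not_false_eq_true] at hn
    have := Factor.commute_each_three hD (hlD a (by simp)) (hlD b (by simp)) (hlD c (by simp)) hx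
      hn.1.1 hn.1.2 hn.2 (hlc a (by simp) b (by simp)) (hlc a (by simp) c (by simp))
      (hlc b (by simp) c (by simp)) (by simpa [mul_assoc] using hj)
    simp only [List.mem_cons, List.not_mem_nil, or_false] at hp
    rcases hp with rfl | rfl | rfl
    exacts [this.1.symm, this.2.1.symm, this.2.2.symm]
  | _ :: _ :: _ :: _ :: _, h => simp at h; omega

theorem fix_bound {g : G} (hg : g * g = 1) (hne : ∃ x ∈ Ω, ¬ Commute g x) :
    {x | x ∈ Ω ∧ Commute g x}.ncard ≤ 6 := by
  classical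
  rcases Set.eq_empty_or_nonempty {x | x ∈ Ω ∧ Commute g x} with h | ⟨e, heΩ, hge⟩
  · rw [h]; simp
  obtain ⟨C⟩ := exists_chart hD h22 heΩ.1
  have hgH : g ∈ Hd D e := by
    rw [← centralizer_eq hD hprim h22 heΩ.1]
    exact (mem_centralizer_iff_commute hD hprim h22).2 hge
  obtain ⟨h₀, hh₀⟩ := QuotientGroup.mk'_surjective _ (C.ρ ⟨g, hgH⟩)
  -- a lift of order at most two
  have hρ2 : C.ρ ⟨g, hgH⟩ ^ 2 = 1 := by
    rw [← map_pow, show (⟨g, hgH⟩ : ↥(Hd D e)) ^ 2 = 1 from
      Subtype.ext (by simpa [pow_two] using hg), map_one]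
  obtain ⟨h, hh, hsq⟩ : ∃ h : Cfsg.SU 6 C.F 2,
      QuotientGroup.mk' _ h = C.ρ ⟨g, hgH⟩ ∧ h * h = 1 := by
    refine ⟨h₀ ^ 3, ?_, ?_⟩
    · rw [map_pow, hh₀, pow_succ, hρ2, one_mul]
    · rw [← hh₀, ← map_pow] at hρ2
      obtain ⟨c, hc⟩ := (mem_center_iff C.hF (by norm_num) (h₀ ^ 2)).1
        ((QuotientGroup.eq_one_iff (h₀ ^ 2)).1 hρ2)
      have hc0 : c ≠ 0 := by
        rintro rfl
        have := mat_mulVec_ne_zero (h₀ ^ 2)
          (show (Pi.single 0 1 : Fin 6 → C.F) ≠ 0 by simp)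
        rw [hc, zero_smul, zero_mulVec] at this
        exact this rfl
      rw [← pow_add, show (3 + 3 : ℕ) = 2 * 3 by norm_num, pow_mul]
      refine SU_ext fun x => ?_
      have hy : ∀ y, mat (h₀ ^ 2) *ᵥ y = c • y := fun y => by rw [hc, smul_mulVec, one_mulVec]
      rw [mat_one, one_mulVec, show ((h₀ ^ 2) ^ 3 : Cfsg.SU 6 C.F 2) = h₀ ^ 2 * h₀ ^ 2 * h₀ ^ 2 by
        rw [pow_succ, pow_two (h₀ ^ 2)], mul_mulVec, mul_mulVec, hy, hy, hy, smul_smul, smul_smul,
        show c * c * c = c ^ 3 by ring, cube C.hF hc0, one_smul]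
  set P : Set (Fin 6 → C.F) := {v | v ≠ 0 ∧ Cfsg.hermForm 6 C.F 2 v v = 0 ∧ C.f v ∈ Ω} with hP
  set Y : Set (Fin 6 → C.F) := {v | v ∈ P ∧ Commute g (C.f v)} with hY
  have hsmul : ∀ v ∈ P, ∀ c : C.F, c ≠ 0 → c • v ∈ P ∧ C.f (c • v) = C.f v := by
    rintro v ⟨hv0, hv, hvE⟩ c hc
    have hcv : Cfsg.hermForm 6 C.F 2 (c • v) (c • v) = 0 := by
      rw [H_smul_left, H_smul_right, hv, mul_zero, mul_zero]
    have he := ((C.eq_iff v (c • v) hv0 hv (smul_ne_zero hc hv0) hcv).2 ⟨c, rfl⟩).symm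
    exact ⟨⟨smul_ne_zero hc hv0, hcv, he.symm ▸ hvE⟩, he⟩
  have hnb : ∀ x ∈ Ω, x ≠ e → x ∈ nb D e := fun x hx hxe => ⟨hx.1, hxe, comm hD T heΩ hx⟩
  have himgP : C.f '' P = Ω \ {e} := by
    ext x
    constructor
    · rintro ⟨v, hv, rfl⟩
      exact ⟨hv.2.2, (C.mem v hv.1 hv.2.1).2.1⟩
    · rintro ⟨hx, hxe⟩
      obtain ⟨v, h0, hv, rfl⟩ := C.cover x (hnb x hx hxe)
      exact ⟨v, ⟨h0, hv, hx⟩, rfl⟩
  have hP3 := Count.points C.hF C.f (P := P) (fun v hv => hv.1) (fun v hv c hc => (hsmul v hv c hc).1)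
    (fun v hv w hw => C.eq_iff v w hv.1 hv.2.1 hw.1 hw.2.1)
  rw [himgP, Set.ncard_diff_singleton_of_mem heΩ, ncard_members hD hprim h22 T] at hP3
  obtain ⟨p, q, r, hspan⟩ := Count.plane C.hF (S := P) fun v hv w hw =>
    (C.comm_iff v w hv.1 hv.2.1 hw.1 hw.2.1).1 (comm hD T hv.2.2 hw.2.2)
  set W := Submodule.span C.F ({p, q, r} : Set (Fin 6 → C.F)) with hW
  have hWle : Nat.card W ≤ 4 ^ 3 := by
    have hsurj : Function.Surjective (fun s : C.F × C.F × C.F =>
        (⟨s.1 • p + s.2.1 • q + s.2.2 • r, Submodule.mem_span_triple.2 ⟨_, _, _, rfl⟩⟩ : W)) := by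
      rintro ⟨v, hv⟩
      obtain ⟨x, y, z, hxyz⟩ := Submodule.mem_span_triple.1 hv
      exact ⟨(x, y, z), Subtype.ext hxyz⟩
    refine (Nat.card_le_card_of_surjective _ hsurj).trans ?_
    rw [Nat.card_prod, Nat.card_prod, Count.natCard_F C.hF]
    norm_num
  set K : Submodule C.F (Fin 6 → C.F) := W ⊓ LinearMap.ker ((mat h - 1).mulVecLin) with hK
  have hKmem : ∀ v, v ∈ K ↔ v ∈ W ∧ mat h *ᵥ v = v := fun v => by
    rw [hK, Submodule.mem_inf, LinearMap.mem_ker, Matrix.mulVecLin_apply, Matrix.sub_mulVec,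
      one_mulVec, sub_eq_zero]
  have hfixed : ∀ v ∈ P, Commute g (C.f v) → mat h *ᵥ v = v := by
    intro v hv hgv
    have he := C.f_conj hD (h := ⟨g, hgH⟩) hh.symm hv.1 hv.2.1
    rw [show g * C.f v * g⁻¹ = C.f v from conj_eq_self_iff.2 hgv] at he
    obtain ⟨l, hl⟩ := (C.eq_iff v _ hv.1 hv.2.1 (mat_mulVec_ne_zero h hv.1)
      (by rw [SU_H, hv.2.1])).1 he
    have h2 : mat (h * h) *ᵥ v = (l * l) • v := by
      rw [mul_mulVec, hl, Matrix.mulVec_smul, hl, smul_smul]
    rw [hsq, mat_one, one_mulVec] at h2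
    have hl2 : l * l = 1 := by
      by_contra hne'
      refine hv.1 ((smul_eq_zero.1 (show (l * l - 1) • v = 0 by
        rw [sub_smul, one_smul, ← h2, sub_self])).resolve_left (sub_ne_zero.2 hne'))
    have hl1 : (l - 1) * (l - 1) = 0 := by linear_combination hl2 + (1 - l) * two_zero C.hF
    rw [hl, sub_eq_zero.1 (mul_self_eq_zero.1 hl1), one_smul]
  have hlt : K < W := by
    refine lt_of_le_of_ne inf_le_left fun hKW => ?_
    obtain ⟨x, hx, hgx⟩ := hne
    by_cases hxe : x = e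
    · exact hgx (hxe ▸ hge)
    obtain ⟨v, h0, hv, rfl⟩ := C.cover x (hnb x hx hxe)
    have hvW : v ∈ K := hKW.symm ▸ hspan v ⟨h0, hv, hx⟩
    refine hgx (conj_eq_self_iff.1 ?_)
    have he := C.f_conj hD (h := ⟨g, hgH⟩) hh.symm h0 hv
    rwa [((hKmem v).1 hvW).2] at he
  have hKle : Nat.card K ≤ 16 := by
    have h1 := Submodule.finrank_lt_finrank_of_lt hlt
    rw [Module.natCard_eq_pow_finrank (K := C.F) (V := W), Count.natCard_F C.hF] at hWle
    have h3 := (Nat.pow_le_pow_iff_right (show 1 < 4 by norm_num)).1 hWle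
    rw [Module.natCard_eq_pow_finrank (K := C.F) (V := K), Count.natCard_F C.hF]
    exact (Nat.pow_le_pow_right (by norm_num) (show _ ≤ 2 by omega)).trans (by norm_num)
  have hY3 := Count.points C.hF C.f (P := Y) (fun v hv => hv.1.1)
    (fun v hv c hc => ⟨(hsmul v hv.1 c hc).1, (hsmul v hv.1 c hc).2.symm ▸ hv.2⟩)
    (fun v hv w hw => C.eq_iff v w hv.1.1 hv.1.2.1 hw.1.1 hw.1.2.1)
  have hYK : (insert 0 Y).ncard ≤ 16 := by
    refine le_trans (Set.ncard_le_ncard (t := (K : Set (Fin 6 → C.F))) ?_ (Set.toFinite _)) ?_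
    · rintro v (rfl | hv)
      · exact K.zero_mem
      · exact (hKmem v).2 ⟨hspan v hv.1, hfixed v hv.1 hv.2⟩
    · rwa [← Nat.card_coe_set_eq]
  rw [Set.ncard_insert_of_notMem (fun h => h.1.1 rfl) (Set.toFinite _)] at hYK
  have hsub : {x | x ∈ Ω ∧ Commute g x} ⊆ insert e (C.f '' Y) := by
    rintro x ⟨hx, hgx⟩
    by_cases hxe : x = e
    · exact Or.inl hxe
    · obtain ⟨v, h0, hv, rfl⟩ := C.cover x (hnb x hx hxe)
      exact Or.inr ⟨v, ⟨⟨h0, hv, hx⟩, hgx⟩, rfl⟩
  have := (Set.ncard_le_ncard hsub (Set.toFinite _)).trans (Set.ncard_insert_le _ _)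
  omega

omit hprim h22 in
theorem conj_members {g x : G} (hg : g ∈ (T : Subgroup G)) (hx : x ∈ Ω) : g * x * g⁻¹ ∈ Ω :=
  ⟨hD.2.1 g x hx.1, mul_mem (mul_mem hg hx.2) (inv_mem hg)⟩

/-- An involution of the Sylow subgroup moving one of the members centralises at most a sixteenth
of their span. -/
theorem cent_bound {g : G} (hgT : g ∈ (T : Subgroup G)) (hg : g * g = 1)
    (hne : ∃ x ∈ Ω, ¬ Commute g x) :
    16 * Nat.card ↥(EE ⊓ Subgroup.centralizer ({g} : Set G)) ≤ Nat.card ↥EE := by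
  classical
  have hmove : ∀ {x : G}, x ∈ EE → g * x * g⁻¹ ∈ EE := by
    intro x hx
    induction hx using Subgroup.closure_induction with
    | mem y hy => exact Subgroup.subset_closure (conj_members hD T hgT hy)
    | one => simp
    | mul p q _ _ hp hq =>
      rw [show g * (p * q) * g⁻¹ = g * p * g⁻¹ * (g * q * g⁻¹) by group]
      exact mul_mem hp hq
    | inv p _ hp =>
      rw [show g * p⁻¹ * g⁻¹ = (g * p * g⁻¹)⁻¹ by group]
      exact inv_mem hp
  let φ : ↥EE →* ↥EE :=
    { toFun := fun x => ⟨x * (g * x * g⁻¹), mul_mem x.2 (hmove x.2)⟩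
      map_one' := Subtype.ext (by simp)
      map_mul' := fun x y => Subtype.ext (by
        show (x : G) * y * (g * ((x : G) * y) * g⁻¹) =
          x * (g * x * g⁻¹) * (y * (g * y * g⁻¹))
        rw [show g * ((x : G) * y) * g⁻¹ = g * x * g⁻¹ * (g * y * g⁻¹) by group]
        calc (x : G) * y * (g * x * g⁻¹ * (g * y * g⁻¹))
            = x * ((y : G) * (g * x * g⁻¹)) * (g * y * g⁻¹) := by simp [mul_assoc]
          _ = _ := by rw [EE_comm hD T _ y.2 _ (hmove x.2)]; simp [mul_assoc]) }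
  have hker : φ.ker.map (Subgroup.subtype EE) = EE ⊓ Subgroup.centralizer ({g} : Set G) := by
    ext x
    rw [Subgroup.mem_inf, Subgroup.mem_centralizer_singleton_iff]
    constructor
    · rintro ⟨⟨y, hy⟩, hyk, rfl⟩
      have e1 : y * (g * y * g⁻¹) = 1 := congrArg Subtype.val hyk
      have e2 : g * y * g⁻¹ = y := by
        rw [eq_inv_of_mul_eq_one_right e1, inv_eq_of_mul_eq_one_left (EE_sq hD T hy)]
      exact ⟨hy, (mul_inv_eq_iff_eq_mul.1 e2).symm⟩
    · rintro ⟨hx, hgx⟩
      refine ⟨⟨x, hx⟩, Subtype.ext ?_, rfl⟩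
      show x * (g * x * g⁻¹) = 1
      rw [← hgx, mul_inv_cancel_right, EE_sq hD T hx]
  have hcard : Nat.card ↥EE =
      Nat.card ↥φ.range * Nat.card ↥(EE ⊓ Subgroup.centralizer ({g} : Set G)) := by
    rw [← hker, Subgroup.card_map_of_injective (Subgroup.subtype_injective _),
      Subgroup.card_eq_card_quotient_mul_card_subgroup φ.ker,
      Nat.card_congr (QuotientGroup.quotientKerEquivRange φ).toEquiv]
  -- the products of the moved pairs
  set M : Set G := {x | x ∈ Ω ∧ ¬ Commute g x} with hM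
  have hM16 : 16 ≤ M.ncard := by
    have h6 := fix_bound hD hprim h22 T hg hne
    have hsub : Ω ⊆ M ∪ {x | x ∈ Ω ∧ Commute g x} := fun x hx => by
      by_cases h : Commute g x
      exacts [Or.inr ⟨hx, h⟩, Or.inl ⟨hx, h⟩]
    have := (Set.ncard_le_ncard hsub (Set.toFinite _)).trans (Set.ncard_union_le _ _)
    rw [ncard_members hD hprim h22 T] at this
    omega
  have h4 : Rel 4 D := Factor.Rel.mono (Factor.M22_core hD h22).2.1 (by norm_num)
  set f : G → G := fun x => x * (g * x * g⁻¹) with hf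
  have hfib : M.ncard ≤ 2 * (f '' M).ncard := by
    haveI := Fintype.ofFinite G
    rw [Set.ncard_eq_toFinset_card', Set.ncard_eq_toFinset_card', Set.toFinset_image]
    refine Finset.card_le_mul_card_image _ 2 fun b hb => ?_
    obtain ⟨x, hx, rfl⟩ := Finset.mem_image.1 hb
    rw [Set.mem_toFinset] at hx
    refine le_trans (Finset.card_le_card (t := {x, g * x * g⁻¹}) fun y hy => ?_) Finset.card_le_two
    rw [Finset.mem_filter, Set.mem_toFinset] at hy
    rw [Finset.mem_insert, Finset.mem_singleton]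
    have hx' := conj_members hD T hgT hx.1
    have hy' := conj_members hD T hgT hy.1.1
    rcases Factor.pair_unique hD h4 hx.1.1 hx'.1 hy.1.1.1 hy'.1
      (fun h => hx.2 (conj_eq_self_iff.1 h.symm)) (fun h => hy.1.2 (conj_eq_self_iff.1 h.symm))
      (comm hD T hx.1 hx') (comm hD T hy.1.1 hy') hy.2.symm with h | h
    exacts [Or.inl h.1, Or.inr h.1]
  have h9 : 9 ≤ Nat.card ↥φ.range := by
    have hsub : insert 1 (f '' M) ⊆ ((φ.range.map (Subgroup.subtype EE) : Subgroup G) : Set G) := by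
      rintro x (rfl | ⟨y, hy, rfl⟩)
      · exact one_mem _
      · exact ⟨φ ⟨y, Subgroup.subset_closure hy.1⟩, ⟨_, rfl⟩, rfl⟩
    have h1 := Set.ncard_le_ncard hsub (Set.toFinite _)
    rw [Set.ncard_insert_of_notMem ?_ (Set.toFinite _),
      ← Nat.card_coe_set_eq ((φ.range.map (Subgroup.subtype EE) : Subgroup G) : Set G),
      SetLike.coe_sort_coe, Subgroup.card_map_of_injective (Subgroup.subtype_injective _)] at h1
    · omega
    · rintro ⟨y, hy, hy1⟩
      refine hy.2 (conj_eq_self_iff.1 ?_)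
      rw [eq_inv_of_mul_eq_one_right hy1, Classes.inv hD hy.1.1]
  have hEp : IsPGroup 2 ↥EE := fun x =>
    ⟨1, Subtype.ext (by simpa [pow_two] using EE_sq hD T x.2)⟩
  obtain ⟨k, hk⟩ := (IsPGroup.iff_card.1 (hEp.to_subgroup φ.range))
  have h16 : 16 ≤ Nat.card ↥φ.range := by
    rw [hk] at h9 ⊢
    have : 4 ≤ k := by
      by_contra h
      have := Nat.pow_le_pow_right (show 0 < 2 by norm_num) (show k ≤ 3 by omega)
      omega
    exact (show 16 ≤ 2 ^ 4 by norm_num).trans (Nat.pow_le_pow_right (by norm_num) this)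
  rw [hcard]
  exact Nat.mul_le_mul_right _ h16

/-- Every other elementary abelian subgroup of the Sylow subgroup is smaller. -/
theorem le_of_card {A : Subgroup G} (hAT : A ≤ T) (hAc : ∀ p ∈ A, ∀ q ∈ A, p * q = q * p)
    (hA2 : ∀ p ∈ A, p * p = 1) (hcard : Nat.card ↥EE ≤ Nat.card A) : A ≤ EE := by
  classical
  by_contra hnle
  obtain ⟨a, ha, haE⟩ := SetLike.not_le_iff_exists.1 hnle
  have hne : ∀ p ∈ A, p ∉ EE → ∃ x ∈ Ω, ¬ Commute p x := fun p hp hpE => by
    by_contra! h
    exact hpE (mem_EE hD hprim h22 T (hA2 p hp) h)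
  have hEcomm : ∀ p ∈ EE, ∀ x ∈ Ω, Commute p x := fun p hp x hx =>
    EE_comm hD T p hp x (Subgroup.subset_closure hx)
  have hperm : ∀ (p : ↥A) (x : ↥Ω), (p : G) * x * (p : G)⁻¹ ∈ Ω := fun p x =>
    conj_members hD T (hAT p.2) x.2
  let ψ : ↥A →* Equiv.Perm ↥Ω :=
    { toFun := fun p =>
        { toFun := fun x => ⟨_, hperm p x⟩
          invFun := fun x => ⟨_, hperm p⁻¹ x⟩
          left_inv := fun x => Subtype.ext (by simp [mul_assoc])
          right_inv := fun x => Subtype.ext (by simp [mul_assoc]) }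
      map_one' := Equiv.ext fun x => Subtype.ext (by simp)
      map_mul' := fun p q => Equiv.ext fun x => Subtype.ext (by simp [mul_assoc]) }
  have happ : ∀ (p : ↥A) (x : ↥Ω), ψ p x = x ↔ Commute (p : G) (x : G) := fun p x => by
    rw [Subtype.ext_iff]
    exact conj_eq_self_iff
  have hkmem : ∀ p : ↥A, p ∈ ψ.ker ↔ (p : G) ∈ EE := fun p => by
    constructor
    · intro h
      refine mem_EE hD hprim h22 T (hA2 p p.2) fun x hx => (happ p ⟨x, hx⟩).1 ?_
      rw [MonoidHom.mem_ker.1 h]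
      rfl
    · intro h
      exact MonoidHom.mem_ker.2 (Equiv.ext fun x => (happ p x).2 (hEcomm _ h _ x.2))
  set K := ψ.ker.map A.subtype with hKdef
  have hAcard : Nat.card A = Nat.card ↥ψ.range * Nat.card ↥K := by
    rw [hKdef, Subgroup.card_map_of_injective A.subtype_injective,
      Subgroup.card_eq_card_quotient_mul_card_subgroup ψ.ker,
      Nat.card_congr (QuotientGroup.quotientKerEquivRange ψ).toEquiv]
  have hKle : ∀ p ∈ A, K ≤ EE ⊓ Subgroup.centralizer ({p} : Set G) := by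
    rintro p hp _ ⟨q, hq, rfl⟩
    exact ⟨(hkmem q).1 hq, Subgroup.mem_centralizer_singleton_iff.2 (hAc q q.2 p hp)⟩
  have hAp : IsPGroup 2 ↥A := fun x => ⟨1, Subtype.ext (by simpa [pow_two] using hA2 x x.2)⟩
  obtain ⟨k, hk⟩ := IsPGroup.iff_card.1
    (hAp.of_surjective ψ.rangeRestrict ψ.rangeRestrict_surjective)
  have h16 : Nat.card ↥ψ.range ≤ 16 := by
    refine perm_bound (by rw [Nat.card_coe_set_eq, ncard_members hD hprim h22 T]) ψ.range ?_ hk ?_
    · rintro _ ⟨p, rfl⟩ _ ⟨q, rfl⟩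
      rw [← map_mul, ← map_mul, show p * q = q * p from Subtype.ext (hAc p p.2 q q.2)]
    · rintro _ ⟨p, rfl⟩ hp1
      have hpE : (p : G) ∉ EE := fun h => hp1 ((hkmem p).2 h)
      refine le_trans ?_ (fix_bound hD hprim h22 T (hA2 p p.2) (hne p p.2 hpE))
      rw [← Set.ncard_image_of_injective _ Subtype.val_injective]
      refine Set.ncard_le_ncard ?_ (Set.toFinite _)
      rintro _ ⟨x, hx, rfl⟩
      exact ⟨x.2, (happ p x).1 hx⟩
  have hb := cent_bound hD hprim h22 T (hAT ha) (hA2 a ha) (hne a ha haE)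
  have hKa := Subgroup.card_le_of_le (hKle a ha)
  have hpos : 0 < Nat.card ↥EE := Nat.card_pos
  have hKpos : 0 < Nat.card ↥K := Nat.card_pos
  by_cases hn : Nat.card ↥ψ.range ≤ 8
  · have := Nat.mul_le_mul_right (Nat.card ↥K) hn
    omega
  by_cases hstrict : ∃ p ∈ A, p ∉ EE ∧ K ≠ EE ⊓ Subgroup.centralizer ({p} : Set G)
  · obtain ⟨p, hp, hpE, hpK⟩ := hstrict
    have hb' := cent_bound hD hprim h22 T (hAT hp) (hA2 p hp) (hne p hp hpE)
    obtain ⟨c, hc⟩ := Subgroup.card_dvd_of_le (hKle p hp)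
    have h2 : 2 ≤ c := by
      rcases c with _ | _ | c
      · have : 0 < Nat.card ↥(EE ⊓ Subgroup.centralizer ({p} : Set G)) := Nat.card_pos
        omega
      · exact absurd (Subgroup.eq_of_le_of_card_ge (hKle p hp) (by omega)) hpK
      · omega
    have := Nat.mul_le_mul_left (Nat.card ↥K) h2
    have := Nat.mul_le_mul_right (Nat.card ↥K) h16
    omega
  push Not at hstrict
  have h4 : Rel 4 D := Factor.Rel.mono (Factor.M22_core hD h22).2.1 (by norm_num)
  have fixK : ∀ p ∈ A, p ∉ EE → ∀ x ∈ Ω, Commute p x → Commute a x := by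
    intro p hp hpE x hx hpx
    have : x ∈ K := by
      rw [hstrict p hp hpE]
      exact ⟨Subgroup.subset_closure hx, Subgroup.mem_centralizer_singleton_iff.2 hpx.eq.symm⟩
    obtain ⟨q, -, rfl⟩ := this
    exact hAc a ha q q.2
  obtain ⟨e, he, hae⟩ := hne a ha haE
  have hone : ∀ b ∈ A, b ∉ EE → a⁻¹ * b ∈ EE := by
    intro b hb hbE
    by_contra hcE
    have hcA : a⁻¹ * b ∈ A := mul_mem (inv_mem ha) hb
    have hbe : ¬ Commute b e := fun h => hae (fixK b hb hbE e he h)
    set e' := a * e * a⁻¹ with he'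
    have he'Ω : e' ∈ Ω := conj_members hD T (hAT ha) he
    have hpq : e * e' ∈ K := by
      rw [hstrict a ha haE]
      refine ⟨mul_mem (Subgroup.subset_closure he) (Subgroup.subset_closure he'Ω),
        Subgroup.mem_centralizer_singleton_iff.2 ?_⟩
      rw [he']
      have ainv : a⁻¹ = a := inv_eq_of_mul_eq_one_left (hA2 a ha)
      calc e * (a * e * a⁻¹) * a = e * (a * e) := by simp [mul_assoc]
        _ = a * ((a * e * a⁻¹) * e) := by
          rw [ainv]
          calc e * (a * e) = (a * a) * e * (a * e) := by rw [hA2 a ha, one_mul]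
            _ = a * (a * e * a * e) := by simp [mul_assoc]
        _ = _ := by rw [(comm hD T he'Ω he).eq]
    have hcomm : b * (e * e') = e * e' * b := by
      obtain ⟨q, -, hq⟩ := hpq
      rw [← hq]
      exact hAc b hb q q.2
    have hb1 := conj_members hD T (hAT hb) he
    have hb2 := conj_members hD T (hAT hb) he'Ω
    have heq : e * e' = b * e * b⁻¹ * (b * e' * b⁻¹) := by
      rw [show b * e * b⁻¹ * (b * e' * b⁻¹) = b * (e * e') * b⁻¹ by group, hcomm,
        mul_inv_cancel_right]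
    have hee : e ≠ e' := fun h => hae (conj_eq_self_iff.1 h.symm)
    rcases Factor.pair_unique hD h4 he.1 he'Ω.1 hb1.1 hb2.1 hee
      (fun h => hee (mul_left_cancel (mul_right_cancel h))) (comm hD T he he'Ω) (comm hD T hb1 hb2)
      heq with h | h
    · exact hbe (conj_eq_self_iff.1 h.1)
    · refine hae (fixK _ hcA hcE e he (conj_eq_self_iff.1 ?_))
      rw [show a⁻¹ * b * e * (a⁻¹ * b)⁻¹ = a⁻¹ * (b * e * b⁻¹) * a by group, h.1, he']
      group
  refine hn ?_
  have hsub : (ψ.range : Set (Equiv.Perm ↥Ω)) ⊆ {1, ψ ⟨a, ha⟩} := by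
    rintro _ ⟨b, rfl⟩
    by_cases hbE : (b : G) ∈ EE
    · exact Or.inl ((hkmem b).2 hbE)
    · right
      have h1 := (hkmem (⟨a, ha⟩⁻¹ * b)).2 (hone b b.2 hbE)
      rw [MonoidHom.mem_ker, map_mul, map_inv, inv_mul_eq_one] at h1
      exact h1.symm
  have h2 := Set.ncard_le_ncard hsub (Set.toFinite _)
  rw [← Nat.card_coe_set_eq] at h2
  have := Set.ncard_insert_le (1 : Equiv.Perm ↥Ω) {ψ ⟨a, ha⟩}
  rw [Set.ncard_singleton] at this
  exact h2.trans (this.trans (by norm_num))

end Cfsg.Agent.ThreeTransp.M22.Thompson
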