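import Cfsg.Agent.Lib.ThreeTransp.M22.Products
import Cfsg.Agent.Lib.ThreeTransp.M22.Cliques
import Cfsg.Agent.Lib.ThreeTransp.Ortho3Six
import Cfsg.Agent.Lib.ThreeTransp.PrimitiveComm
import Cfsg.Agent.Lib.JComp.Pair

/-!
Two non-commuting members in a group of type M(22): their joint centralizer, the normalizer of the
subgroup of order three they define, and the conjugates of it inside the joint centralizer.
-/

set_option autoImplicit false
set_option linter.unusedSectionVars false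

namespace Cfsg.Agent.ThreeTransp.M22

open Cfsg.Agent.ThreeTransp
open Cfsg.Agent.ThreeTransp.Factor (nb)
open Cfsg.Agent.ThreeTransp.RankThree (loc mem_loc)
open Cfsg.Agent.ThreeTransp.Cover (mem_nb_symm)

variable {G : Type*} [Group G] [Finite G] {D : Set G} (hD : Cfsg.IsThreeTranspositionGroup D)
  (hprim : Cfsg.IsPrimitiveUnderConj D) (h22 : Cfsg.IsOfTypeM22 G D)
include hD hprim h22

theorem outer_pair_trans {a c a' c' : G} (ha : a ∈ D) (hc : c ∈ D) (hac : ¬ Commute a c)
    (ha' : a' ∈ D) (hc' : c' ∈ D) (hac' : ¬ Commute a' c') :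
    ∃ g : G, g * a * g⁻¹ = a' ∧ g * c * g⁻¹ = c' := by
  obtain ⟨g, hg⟩ := hprim.1 a ha a' ha'
  obtain ⟨h, hh, hh'⟩ := RankThree.linked_outer hD hprim (exists_commuting hD hprim h22) ha'
    (hD.2.1 g c hc) hc' (by rw [← hg, Basic.commute_conj]; exact hac) hac'
  refine ⟨h * g, ?_, by rw [← hh']; group⟩
  rw [show h * g * a * (h * g)⁻¹ = h * (g * a * g⁻¹) * h⁻¹ by group, hg,
    RankThree.conj_self_of_commute (RankThree.loc_commute hh)]

theorem mem_centralizer_pair {a d k : G} :
    k ∈ Subgroup.centralizer ({a, d} : Set G) ↔ Commute k a ∧ Commute k d := by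
  rw [Subgroup.mem_centralizer_iff]
  constructor
  · exact fun h => ⟨(h a (by simp)).symm, (h d (by simp)).symm⟩
  · rintro ⟨h1, h2⟩ x (rfl | rfl)
    exacts [h1.eq.symm, h2.eq.symm]

theorem card_pair {a d : G} (ha : a ∈ D) (hd : d ∈ D) (hnc : ¬ Commute a d) :
    Nat.card ↥(Subgroup.centralizer ({a, d} : Set G)) = 6531840 := by
  have himg : (fun k => k * d * k⁻¹) '' (Subgroup.centralizer ({a} : Set G) : Set G) =
      outer D a := by
    ext y
    constructor
    · rintro ⟨k, hk, rfl⟩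
      refine ⟨hD.2.1 k d hd, fun h => hnc ?_⟩
      rw [← conj_eq_self_iff.2 ((mem_centralizer_iff_commute hD hprim h22).1 hk)] at h
      exact Basic.commute_conj.1 h
    · rintro ⟨hy, hay⟩
      obtain ⟨h, hh, he⟩ := RankThree.linked_outer hD hprim (exists_commuting hD hprim h22) ha hd
        hy hnc hay
      exact ⟨h, (mem_centralizer_iff_commute hD hprim h22).2 (RankThree.loc_commute hh).symm, he⟩
  have h := orbit_card _ (Subgroup.centralizer ({d} : Set G)) _ _ himg
    (fun k _ k' _ => conj_eq_iff)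
  rw [card_centralizer hD hprim h22 ha, ncard_outer hD hprim h22 ha] at h
  have he : Subgroup.centralizer ({a, d} : Set G) =
      Subgroup.centralizer ({a} : Set G) ⊓ Subgroup.centralizer ({d} : Set G) := by
    ext k
    rw [mem_centralizer_pair hD hprim h22, Subgroup.mem_inf,
      mem_centralizer_iff_commute hD hprim h22, mem_centralizer_iff_commute hD hprim h22]
  rw [he]
  omega

/-- The joint centralizer is generated by the common neighbours, and is a projective reflection
group. -/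
theorem pair_structure {a d : G} (ha : a ∈ D) (hd : d ∈ D) (hnc : ¬ Commute a d) :
    Subgroup.closure (nb D a ∩ nb D d) = Subgroup.centralizer ({a, d} : Set G) ∧
    Subgroup.center ↥(Subgroup.closure (nb D a ∩ nb D d)) = ⊥ ∧
    Cfsg.IsQuasisimple ↥(commutator ↥(Subgroup.closure (nb D a ∩ nb D d))) ∧
    (commutator ↥(Subgroup.closure (nb D a ∩ nb D d))).index ≤ 2 ∧
    ∃ c : ZMod 3, c ≠ 0 ∧
      Cfsg.IsProjReflectionGroupModThree ↥(Subgroup.closure (nb D a ∩ nb D d)) 6 1 c := by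
  classical
  obtain ⟨d₀, hd₀, c₀, hc₀, hdc, -, c, hc, hL⟩ := h22.2
  obtain ⟨g, hga, hgd⟩ := outer_pair_trans hD hprim h22 hd₀ hc₀ hdc ha hd hnc
  set L₀ := Subgroup.closure (nb D d₀ ∩ nb D c₀) with hL₀
  set L := Subgroup.closure (nb D a ∩ nb D d) with hLdef
  have hmap : L₀.map (MulAut.conj g).toMonoidHom = L := by
    rw [hL₀, MonoidHom.map_closure, hLdef, ← hga, ← hgd, ← conj_inter hD hprim h22]
    rfl
  have hle : L ≤ Subgroup.centralizer ({a, d} : Set G) := (Subgroup.closure_le _).2 fun x hx =>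
    (mem_centralizer_pair hD hprim h22).2 ⟨hx.1.2.2.symm, hx.2.2.2.symm⟩
  obtain ⟨e⟩ := Components.Basic.quotient_center_equiv
    (((L₀.equivMapOfInjective _ (MulAut.conj g).injective)).trans (MulEquiv.subgroupCongr hmap))
  have hLq : Cfsg.IsProjReflectionGroupModThree (↥L ⧸ Subgroup.center ↥L) 6 1 c := by
    obtain ⟨Q, h1, h2, ⟨φ⟩⟩ := hL
    exact ⟨Q, h1, h2, ⟨e.symm.trans φ⟩⟩
  have hdvd : Nat.card (↥L ⧸ Subgroup.center ↥L) ∣ 6531840 :=
    (Subgroup.card_quotient_dvd_card _).trans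
      (card_pair hD hprim h22 ha hd hnc ▸ Subgroup.card_dvd_of_le hle)
  obtain ⟨hcard, hqs, hidx⟩ := Ortho3Six.proj_order hc hLq hdvd
  have hLc := Subgroup.card_le_of_le hle
  rw [card_pair hD hprim h22 ha hd hnc] at hLc
  have hmul := Subgroup.card_eq_card_quotient_mul_card_subgroup (Subgroup.center ↥L)
  rw [hcard] at hmul
  have hpos : 0 < Nat.card ↥(Subgroup.center ↥L) := Nat.card_pos
  have hz1 : Nat.card ↥(Subgroup.center ↥L) = 1 := by omega
  have hbot : Subgroup.center ↥L = ⊥ := Subgroup.eq_bot_of_card_eq _ hz1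
  have e1 : ↥L ≃* ↥L ⧸ Subgroup.center ↥L :=
    ((QuotientGroup.quotientMulEquivOfEq hbot).trans QuotientGroup.quotientBot).symm
  obtain ⟨Q, h1, h2, ⟨φ⟩⟩ := hLq
  have hQ : Cfsg.IsProjReflectionGroupModThree ↥L 6 1 c := ⟨Q, h1, h2, ⟨e1.trans φ⟩⟩
  obtain ⟨-, hqs', hidx'⟩ := Ortho3Six.proj_order hc hQ
    (card_pair hD hprim h22 ha hd hnc ▸ Subgroup.card_dvd_of_le hle)
  refine ⟨Subgroup.eq_of_le_of_card_ge hle ?_, hbot, hqs', hidx', c, hc, hQ⟩
  rw [card_pair hD hprim h22 ha hd hnc]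
  omega

/-- A member centralising the product commutes with whatever inverts it. -/
theorem commute_inverter {a d x y : G} (ha : a ∈ D) (hd : d ∈ D) (hnc : ¬ Commute a d)
    (hx : x ∈ D) (hxi : x * (a * d) * x = (a * d)⁻¹) (hy : y ∈ D) (hyc : Commute y (a * d)) :
    Commute y x := by
  set r := a * d with hr
  by_contra hn
  have hxs := Classes.sq hD hx
  have hys := Classes.sq hD hy
  have hinv : ∀ {u : G}, u * u = 1 → u * r * u = r⁻¹ → u * r⁻¹ * u = r := by
    intro u hu h
    rw [← h]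
    calc u * (u * r * u) * u = u * u * r * (u * u) := by simp only [mul_assoc]
      _ = r := by rw [hu, one_mul, mul_one]
  have hyr : y * r * y = r := by rw [hyc.eq, mul_assoc, hys, mul_one]
  have h1 : (x * y * x) * r * (x * y * x) = r⁻¹ := by
    rw [Basic.braid hD.1 hx hy (fun h => hn h.symm)]
    calc y * x * y * r * (y * x * y) = y * (x * (y * r * y) * x) * y := by simp only [mul_assoc]
      _ = y * r⁻¹ * y := by rw [hyr, hxi]
      _ = r⁻¹ := by rw [hyc.inv_right.eq, mul_assoc, hys, mul_one]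
  have h2 : y * r * y = r⁻¹ := by
    have e : y = x * (x * y * x) * x := by
      calc y = x * x * y * (x * x) := by rw [hxs, one_mul, mul_one]
        _ = x * (x * y * x) * x := by simp only [mul_assoc]
    calc y * r * y = x * (x * y * x) * x * r * (x * (x * y * x) * x) := by rw [← e]
      _ = x * ((x * y * x) * (x * r * x) * (x * y * x)) * x := by simp only [mul_assoc]
      _ = x * r * x := by rw [hxi, hinv (Classes.sq hD (Classes.conj_mem hD hx hy)) h1, hxi]
      _ = r⁻¹ := hxi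
  rw [hyr] at h2
  refine hnc ((Basic.sq_prod_eq_one_iff (Classes.sq hD ha) (Classes.sq hD hd)).1 ?_)
  rw [pow_two, ← hr]
  nth_rw 2 [h2]
  exact mul_inv_cancel r

theorem inverts_left {a d : G} (ha : a ∈ D) (hd : d ∈ D) :
    a * (a * d) * a = (a * d)⁻¹ ∧ d * (a * d) * d = (a * d)⁻¹ := by
  have h1 : (a * d)⁻¹ = d * a := by
    rw [_root_.mul_inv_rev, Classes.inv hD ha, Classes.inv hD hd]
  rw [h1, ← mul_assoc a a d, Classes.sq hD ha, one_mul, mul_assoc d (a * d) d, mul_assoc a d d,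
    Classes.sq hD hd, mul_one]
  exact ⟨rfl, rfl⟩

/-- The members centralising the product are the common neighbours. -/
theorem centralizing_iff {a d y : G} (ha : a ∈ D) (hd : d ∈ D) (hnc : ¬ Commute a d) :
    y ∈ D ∧ Commute y (a * d) ↔ y ∈ nb D a ∩ nb D d := by
  constructor
  · rintro ⟨hy, hc⟩
    obtain ⟨i1, i2⟩ := inverts_left hD hprim h22 ha hd
    have h1 := commute_inverter hD hprim h22 ha hd hnc ha i1 hy hc
    have h2 := commute_inverter hD hprim h22 ha hd hnc hd i2 hy hc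
    exact ⟨⟨hy, fun e => hnc (e ▸ h2), h1.symm⟩, hy, fun e => hnc (e ▸ h1).symm, h2.symm⟩
  · intro h
    exact ⟨h.1.1, h.1.2.2.symm.mul_right h.2.2.2.symm⟩

/-- The members inverting the product are the three on the line. -/
theorem inverters {a d x : G} (ha : a ∈ D) (hd : d ∈ D) (hnc : ¬ Commute a d) (hx : x ∈ D)
    (hxi : x * (a * d) * x = (a * d)⁻¹) : x = a ∨ x = d ∨ x = a * d * a := by
  obtain ⟨y, hy⟩ := Set.nonempty_of_ncard_ne_zero
    ((ncard_inter hD hprim h22 ha hd hnc).trans_ne (by norm_num : (126 : ℕ) ≠ 0))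
  have hS : ∀ t ∈ nb D a ∩ nb D d, Commute t x := fun t ht =>
    commute_inverter hD hprim h22 ha hd hnc hx hxi ht.1.1
      ((centralizing_iff hD hprim h22 ha hd hnc).2 ht).2
  have hne : x ≠ y := fun e => by
    refine hnc ((Basic.sq_prod_eq_one_iff (Classes.sq hD ha) (Classes.sq hD hd)).1 ?_)
    have hc := ((centralizing_iff hD hprim h22 ha hd hnc).2 (e.symm ▸ hy : x ∈ nb D a ∩ nb D d)).2
    rw [hc.eq, mul_assoc, Classes.sq hD hx, mul_one] at hxi
    rw [pow_two]
    nth_rw 2 [hxi]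
    exact mul_inv_cancel _
  obtain ⟨C⟩ := exists_chart hD h22 hy.1.1
  exact C.hull hD (mem_nb_symm ha hy.1) (mem_nb_symm hd hy.2) hnc ⟨hx, hne, hS y hy⟩
    (fun t ht => (hS t ⟨⟨ht.1.1.1, fun e => hnc (e ▸ ht.2.2.2).symm, ht.1.2.2.2⟩,
      ht.1.1.1, fun e => hnc (e ▸ ht.1.2.2.2), ht.2.2.2⟩).symm)

/-- The normalizer of the subgroup of order three. -/
theorem normalizer_le {a d g : G} (ha : a ∈ D) (hd : d ∈ D) (hnc : ¬ Commute a d)
    (hg : g ∈ Subgroup.normalizer ((Subgroup.zpowers (a * d) : Subgroup G) : Set G)) :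
    g ∈ Subgroup.closure ({a, d} : Set G) ⊔ Subgroup.centralizer ({a, d} : Set G) := by
  set S := Subgroup.closure ({a, d} : Set G) with hS
  have hi := inverts_left hD hprim h22 ha hd
  have hzp : ∀ z ∈ Subgroup.zpowers (a * d), ∀ u : G, u * (a * d) * u = (a * d)⁻¹ →
      u * u = 1 → u * z * u = z⁻¹ := by
    intro z hz u hu huu
    obtain ⟨k, rfl⟩ := Subgroup.mem_zpowers_iff.1 hz
    have hui : u⁻¹ = u := inv_eq_of_mul_eq_one_left huu
    calc u * (a * d) ^ k * u = u * (a * d) ^ k * u⁻¹ := by rw [hui]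
      _ = (u * (a * d) * u⁻¹) ^ k := (conj_zpow).symm
      _ = ((a * d) ^ k)⁻¹ := by rw [hui, hu, inv_zpow]
  have hJ : ∀ u ∈ D, u * (a * d) * u = (a * d)⁻¹ →
      g * u * g⁻¹ = a ∨ g * u * g⁻¹ = d ∨ g * u * g⁻¹ = a * d * a := by
    intro u hu hui
    refine inverters hD hprim h22 ha hd hnc (hD.2.1 g u hu) ?_
    have hgi : g⁻¹ * (a * d) * g ∈ Subgroup.zpowers (a * d) := by
      have := (Subgroup.mem_normalizer_iff.1 (inv_mem hg) (a * d)).1 (Subgroup.mem_zpowers _)
      simpa using this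
    have h := hzp _ hgi u hui (Classes.sq hD hu)
    calc g * u * g⁻¹ * (a * d) * (g * u * g⁻¹) = g * (u * (g⁻¹ * (a * d) * g) * u) * g⁻¹ := by
          group
      _ = (a * d)⁻¹ := by rw [h]; group
  have haS : a ∈ S := Subgroup.subset_closure (by simp)
  have hdS : d ∈ S := Subgroup.subset_closure (by simp)
  have heS : a * d * a ∈ S := mul_mem (mul_mem haS hdS) haS
  have hb := Basic.braid hD.1 ha hd hnc
  have has := Classes.sq hD ha
  have hds := Classes.sq hD hd
  have hede : (a * d * a) * d * (a * d * a) = a := by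
    nth_rw 2 [hb]
    calc a * d * a * d * (d * a * d) = a * d * a * (d * d) * (a * d) := by simp only [mul_assoc]
      _ = a * d * (a * a) * d := by rw [hds, mul_one]; simp only [mul_assoc]
      _ = a * (d * d) := by rw [has, mul_one, mul_assoc]
      _ = a := by rw [hds, mul_one]
  have hded : d * (a * d * a) * d = a := by
    rw [hb]
    calc d * (d * a * d) * d = d * d * a * (d * d) := by simp only [mul_assoc]
      _ = a := by rw [hds, one_mul, mul_one]
  -- move the image of `a` back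
  obtain ⟨s, hs, hsa⟩ : ∃ s ∈ S, Commute (s * g) a := by
    rcases hJ a ha hi.1 with h | h | h
    · exact ⟨1, one_mem _, conj_eq_self_iff.1 (by rw [one_mul]; exact h)⟩
    · refine ⟨a * d * a, heS, conj_eq_self_iff.1 ?_⟩
      calc a * d * a * g * a * (a * d * a * g)⁻¹ = a * d * a * (g * a * g⁻¹) * (a * d * a)⁻¹ := by
            group
        _ = a := by
          rw [h, Classes.inv hD (Classes.conj_mem hD ha hd), hede]
    · refine ⟨d, hdS, conj_eq_self_iff.1 ?_⟩
      calc d * g * a * (d * g)⁻¹ = d * (g * a * g⁻¹) * d⁻¹ := by group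
        _ = a := by rw [h, Classes.inv hD hd, hded]
  obtain ⟨t, ht, hta, htd⟩ : ∃ t ∈ S, Commute (t * (s * g)) a ∧ Commute (t * (s * g)) d := by
    have hsgd : ∃ u ∈ ({d, a * d * a} : Set G), (s * g) * d * (s * g)⁻¹ = u := by
      have hn : ¬ Commute a ((s * g) * d * (s * g)⁻¹) := fun h => hnc (by
        rw [← conj_eq_self_iff.2 hsa] at h
        exact Basic.commute_conj.1 h)
      have hmem : s * g ∈ Subgroup.normalizer
          ((Subgroup.zpowers (a * d) : Subgroup G) : Set G) := by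
        refine mul_mem ?_ hg
        refine (Subgroup.closure_le _).2 ?_ hs
        have key : ∀ u ∈ D, u * (a * d) * u = (a * d)⁻¹ →
            u ∈ Subgroup.normalizer ((Subgroup.zpowers (a * d) : Subgroup G) : Set G) := by
          intro u hu hui
          rw [Subgroup.mem_normalizer_iff]
          intro z
          rw [Classes.inv hD hu]
          refine ⟨fun hz => by rw [hzp z hz u hui (Classes.sq hD hu)]; exact inv_mem hz,
            fun hz => ?_⟩
          have h := hzp _ hz u hui (Classes.sq hD hu)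
          rw [show u * (u * z * u) * u = u * u * z * (u * u) by simp only [mul_assoc],
            Classes.sq hD hu, one_mul, mul_one] at h
          rw [h]
          exact inv_mem hz
        rintro u (rfl | rfl)
        exacts [key _ ha hi.1, key _ hd hi.2]
      have hgi : (s * g)⁻¹ * (a * d) * (s * g) ∈ Subgroup.zpowers (a * d) := by
        have := (Subgroup.mem_normalizer_iff.1 (inv_mem hmem) (a * d)).1 (Subgroup.mem_zpowers _)
        simpa using this
      have h := hzp _ hgi d hi.2 hds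
      rcases inverters hD hprim h22 ha hd hnc (hD.2.1 (s * g) d hd) (by
        calc s * g * d * (s * g)⁻¹ * (a * d) * (s * g * d * (s * g)⁻¹)
            = s * g * (d * ((s * g)⁻¹ * (a * d) * (s * g)) * d) * (s * g)⁻¹ := by group
          _ = (a * d)⁻¹ := by rw [h]; group) with e | e | e
      · exact absurd (e ▸ Commute.refl a) hn
      · exact ⟨_, by simp, e⟩
      · exact ⟨_, by simp, e⟩
    obtain ⟨u, hu, he⟩ := hsgd
    rcases hu with rfl | rfl
    · exact ⟨1, one_mem _, by rwa [one_mul], by rw [one_mul]; exact conj_eq_self_iff.1 he⟩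
    · refine ⟨a, haS, Commute.mul_left (Commute.refl a) hsa, conj_eq_self_iff.1 ?_⟩
      calc a * (s * g) * d * (a * (s * g))⁻¹ = a * (s * g * d * (s * g)⁻¹) * a⁻¹ := by group
        _ = a * a * d * (a * a) := by rw [he, Classes.inv hD ha]; simp only [mul_assoc]
        _ = d := by rw [has, one_mul, mul_one]
  rw [show g = (t * s)⁻¹ * (t * (s * g)) by group]
  exact mul_mem (Subgroup.mem_sup_left (inv_mem (mul_mem ht hs)))
    (Subgroup.mem_sup_right ((mem_centralizer_pair hD hprim h22).2 ⟨hta, htd⟩))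

/-- The width of the set of members centralising the product. -/
theorem width_pair {a d : G} (ha : a ∈ D) (hd : d ∈ D) (hnc : ¬ Commute a d) :
    Cfsg.commutingWidth (nb D a ∩ nb D d) = 6 := by
  refine IsGreatest.csSup_eq ⟨?_, ?_⟩
  · obtain ⟨y, hy⟩ := Set.nonempty_of_ncard_ne_zero
      ((ncard_inter hD hprim h22 ha hd hnc).trans_ne (by norm_num : (126 : ℕ) ≠ 0))
    obtain ⟨C⟩ := exists_chart hD h22 hy.1.1
    obtain ⟨E, hE, hc, h5⟩ := exists_five C (mem_nb_symm ha hy.1) (mem_nb_symm hd hy.2) hnc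
    refine ⟨insert y E, Set.insert_subset hy fun p hp => ⟨(hE hp).1.2, (hE hp).2⟩,
      Set.toFinite _, ?_, ?_⟩
    · rintro p (rfl | hp) q (rfl | hq)
      · exact Commute.refl _
      · exact (hE hq).1.1.2.2
      · exact (hE hp).1.1.2.2.symm
      · exact hc p hp q hq
    · rw [Set.ncard_insert_of_notMem (fun h => (hE h).1.1.2.1 rfl) (Set.toFinite _), h5]
  · rintro n ⟨E, hE, -, hc, rfl⟩
    rcases E.eq_empty_or_nonempty with rfl | ⟨y, hy⟩
    · simp
    have hy' := hE hy
    obtain ⟨C⟩ := exists_chart hD h22 hy'.1.1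
    have h5 := le_five C (mem_nb_symm ha hy'.1) (mem_nb_symm hd hy'.2) hnc (E := E \ {y})
      (fun p hp => ⟨⟨⟨(hE hp.1).1.1, hp.2, hc y hy p hp.1⟩, (hE hp.1).1⟩, (hE hp.1).2⟩)
      (fun p hp q hq => hc p hp.1 q hq.1)
    rw [Set.ncard_sdiff_singleton_of_mem hy] at h5
    omega

/-- Non-commuting pairs of common neighbours exist. -/
theorem exists_inner_noncomm {a d : G} (ha : a ∈ D) (hd : d ∈ D) (hnc : ¬ Commute a d) {p q : G}
    (hp : p ∈ nb D a ∩ nb D d) (hq : q ∈ nb D a ∩ nb D d) :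
    ∃ e ∈ nb D a ∩ nb D d, ¬ Commute e p ∧ ¬ Commute e q := by
  classical
  by_contra! hcon
  have hsub : nb D a ∩ nb D d ⊆
      insert p (nb D a ∩ nb D d ∩ nb D p) ∪ insert q (nb D a ∩ nb D d ∩ nb D q) := by
    intro e he
    by_cases h : Commute e p
    · left
      by_cases e1 : e = p
      exacts [Or.inl e1, Or.inr ⟨he, he.1.1, e1, h.symm⟩]
    · right
      by_cases e1 : e = q
      exacts [Or.inl e1, Or.inr ⟨he, he.1.1, e1, (hcon e he h).symm⟩]
  have h1 := (Set.ncard_le_ncard hsub (Set.toFinite _)).trans (Set.ncard_union_le _ _)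
  have h2 := Set.ncard_insert_le p (nb D a ∩ nb D d ∩ nb D p)
  have h3 := Set.ncard_insert_le q (nb D a ∩ nb D d ∩ nb D q)
  rw [ncard_inter hD hprim h22 ha hd hnc] at h1
  rw [inner_degree hD hprim h22 ha hd hnc hp] at h2
  rw [inner_degree hD hprim h22 ha hd hnc hq] at h3
  omega

/-- The joint centralizer is transitive on non-commuting pairs of common neighbours. -/
theorem inner_pair_trans {a d p q p' q' : G} (ha : a ∈ D) (hd : d ∈ D) (hnc : ¬ Commute a d)
    (hp : p ∈ nb D a ∩ nb D d) (hq : q ∈ nb D a ∩ nb D d) (hpq : ¬ Commute p q)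
    (hp' : p' ∈ nb D a ∩ nb D d) (hq' : q' ∈ nb D a ∩ nb D d) (hpq' : ¬ Commute p' q') :
    ∃ k ∈ Subgroup.closure (nb D a ∩ nb D d), k * p * k⁻¹ = p' ∧ k * q * k⁻¹ = q' := by
  classical
  obtain ⟨hKC, -, hqs, hidx, -⟩ := pair_structure hD hprim h22 ha hd hnc
  set K := Subgroup.closure (nb D a ∩ nb D d) with hK
  have hmem : ∀ {x}, x ∈ nb D a ∩ nb D d → x ∈ K := fun h => Subgroup.subset_closure h
  set E : Set ↥K := {x | (x : G) ∈ nb D a ∩ nb D d} with hE
  have hG' : Cfsg.IsThreeTranspositionGroup E := by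
    refine ⟨⟨fun x hx => ?_, fun x hx y hy => ?_⟩, fun g x hx => ?_,
      Subgroup.closure_closure_coe_preimage⟩
    · rw [← Subgroup.orderOf_coe]
      exact hD.1.1 _ hx.1.1
    · rcases hD.1.2 _ hx.1.1 _ hy.1.1 with h | h
      · exact Or.inl (Subtype.ext (by simpa using h))
      · exact Or.inr (Subtype.ext (by simpa using h))
    · have hg := (mem_centralizer_pair hD hprim h22).1 (hKC.le g.2)
      have h := conj_inter hD hprim h22 (g := (g : G)) (a := a) (c := d)
      rw [conj_eq_self_iff.2 hg.1, conj_eq_self_iff.2 hg.2] at h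
      show ((g * x * g⁻¹ : ↥K) : G) ∈ nb D a ∩ nb D d
      rw [← h]
      exact Set.mem_image_of_mem (fun x => (g : G) * x * (g : G)⁻¹) hx
  have link : ∀ x ∈ E, ∀ y ∈ E, ¬ Commute x y → ∃ g : ↥K, g * x * g⁻¹ = y := by
    intro x hx y hy hxy
    refine ⟨x * y, ?_⟩
    rw [_root_.mul_inv_rev, Classes.inv hG' hx, Classes.inv hG' hy]
    calc x * y * x * (y * x) = x * y * x * y * x := by simp only [mul_assoc]
      _ = y * x * y * y * x := by rw [Basic.braid hG'.1 hx hy hxy]
      _ = y * (x * (y * y) * x) := by simp only [mul_assoc]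
      _ = y := by rw [Classes.sq hG' hy, mul_one, Classes.sq hG' hx, mul_one]
  have htrans : ∀ x ∈ E, ∀ y ∈ E, ∃ g : ↥K, g * x * g⁻¹ = y := by
    intro x hx y hy
    obtain ⟨e, he, hex, hey⟩ := exists_inner_noncomm hD hprim h22 ha hd hnc hx hy
    obtain ⟨g, hg⟩ := link x hx ⟨e, hmem he⟩ he fun h => hex (h.map K.subtype).symm
    obtain ⟨g', hg'⟩ := link ⟨e, hmem he⟩ he y hy fun h => hey (h.map K.subtype)
    exact ⟨g' * g, by rw [← hg', ← hg]; group⟩
  have hne2 : ∃ x ∈ E, ∃ y ∈ E, x ≠ y := ⟨⟨p, hmem hp⟩, hp, ⟨q, hmem hq⟩, hq,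
    fun e => hpq (by have e' : p = q := congrArg Subtype.val e; rw [e'])⟩
  have hprim' := PrimitiveComm.primitive hG' htrans hne2 hqs hidx
  have hw : ∃ x ∈ E, ∃ y ∈ E, x ≠ y ∧ Commute x y := by
    obtain ⟨r, hr⟩ := Set.nonempty_of_ncard_ne_zero
      ((inner_degree hD hprim h22 ha hd hnc hp).trans_ne (by norm_num : (45 : ℕ) ≠ 0))
    exact ⟨⟨p, hmem hp⟩, hp, ⟨r, hmem hr.1⟩, hr.1,
      fun e => hr.2.2.1 (congrArg Subtype.val e).symm, Subtype.ext hr.2.2.2.eq⟩
  obtain ⟨k₁, hk₁⟩ := htrans ⟨p, hmem hp⟩ hp ⟨p', hmem hp'⟩ hp'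
  obtain ⟨k₂, hk₂, hk₂'⟩ := RankThree.linked_outer hG' hprim' hw
    (a := ⟨p', hmem hp'⟩) (c := k₁ * ⟨q, hmem hq⟩ * k₁⁻¹) (y := ⟨q', hmem hq'⟩) hp'
    (hG'.2.1 k₁ _ hq) hq'
    (by rw [← hk₁, Basic.commute_conj]; exact fun h => hpq (h.map K.subtype))
    (fun h => hpq' (h.map K.subtype))
  refine ⟨(k₂ * k₁ : ↥K), (k₂ * k₁).2, ?_, ?_⟩
  · have h : k₂ * k₁ * ⟨p, hmem hp⟩ * (k₂ * k₁)⁻¹ = ⟨p', hmem hp'⟩ := by
      rw [show k₂ * k₁ * ⟨p, hmem hp⟩ * (k₂ * k₁)⁻¹ = k₂ * (k₁ * ⟨p, hmem hp⟩ * k₁⁻¹) * k₂⁻¹ by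
        group, hk₁, RankThree.conj_self_of_commute (RankThree.loc_commute hk₂)]
    exact congrArg Subtype.val h
  · have h : k₂ * k₁ * ⟨q, hmem hq⟩ * (k₂ * k₁)⁻¹ = ⟨q', hmem hq'⟩ := by
      rw [← hk₂']; group
    exact congrArg Subtype.val h

/-- Two non-commuting members generate a group of order six. -/
theorem line_group {a d : G} (ha : a ∈ D) (hd : d ∈ D) (hnc : ¬ Commute a d) :
    Nonempty (↥(Subgroup.closure ({a, d} : Set G)) ≃* Equiv.Perm (Fin 3)) := by
  classical
  set S := Subgroup.closure ({a, d} : Set G) with hS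
  set r := a * d with hr
  have has := Classes.sq hD ha
  have hds := Classes.sq hD hd
  have h3 : r ^ 3 = 1 := Basic.cube_of_not_commute hD.1 ha hd hnc
  have haS : a ∈ S := Subgroup.subset_closure (by simp)
  have hdS : d ∈ S := Subgroup.subset_closure (by simp)
  have hda : d = a * r := by rw [hr, ← mul_assoc, has, one_mul]
  have hdr : d * r⁻¹ = a * 1 := by
    rw [hr, _root_.mul_inv_rev, Classes.inv hD ha, Classes.inv hD hd, ← mul_assoc, hds, one_mul,
      mul_one]
  set T : Set G := {1, r, r ^ 2, a, a * r, a * r ^ 2} with hT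
  have hsub : (S : Set G) ⊆ T := by
    refine Basic.closure_subset_of_left_stable ?_ (by simp [hT]) ?_
    · rintro t (rfl | rfl)
      exacts [has, hds]
    · have hri : r⁻¹ = r ^ 2 := inv_eq_of_mul_eq_one_left (by rw [← pow_succ, h3])
      have hdp : ∀ i : ℕ, d * r ^ i = a * r ^ (i + 1) := fun i => by
        rw [hda, mul_assoc, ← pow_succ']
      have hdap : ∀ i : ℕ, d * (a * r ^ i) = r ^ (i + 2) := fun i => by
        rw [← mul_assoc, show d * a = r⁻¹ by
          rw [hr, _root_.mul_inv_rev, Classes.inv hD ha, Classes.inv hD hd], hri, ← pow_add,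
          add_comm]
      have h4 : r ^ 4 = r := by rw [pow_succ, h3, one_mul]
      rintro t (rfl | rfl) s hs
      · simp only [hT, Set.mem_insert_iff, Set.mem_singleton_iff] at hs ⊢
        rcases hs with rfl | rfl | rfl | rfl | rfl | rfl <;>
          simp [← mul_assoc, has]
      · simp only [hT, Set.mem_insert_iff, Set.mem_singleton_iff] at hs ⊢
        rcases hs with rfl | rfl | rfl | rfl | rfl | rfl
        · rw [mul_one]; simp [← hda]
        · exact Or.inr (Or.inr (Or.inr (Or.inr (Or.inr (by simpa using hdp 1)))))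
        · exact Or.inr (Or.inr (Or.inr (Or.inl (by rw [hdp 2, h3, mul_one]))))
        · exact Or.inr (Or.inr (Or.inl (by simpa using hdap 0)))
        · exact Or.inl (by simpa [h3] using hdap 1)
        · exact Or.inr (Or.inl (by rw [hdap 2, h4]))
  have hle : Nat.card S ≤ 6 := by
    rw [← SetLike.coe_sort_coe, Nat.card_coe_set_eq]
    refine (Set.ncard_le_ncard hsub (Set.toFinite _)).trans ?_
    rw [hT]
    repeat' refine (Set.ncard_insert_le _ _).trans (Nat.succ_le_succ ?_)
    simp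
  have hd2 : 2 ∣ Nat.card S := by
    rw [← hD.1.1 a ha]; exact Subgroup.orderOf_dvd_natCard S haS
  have hd3 : 3 ∣ Nat.card S := by
    rw [← Basic.orderOf_eq_three hD.1 ha hd hnc]
    exact Subgroup.orderOf_dvd_natCard S (mul_mem haS hdS)
  have h6 : Nat.card S = 6 := by
    have h := Nat.Coprime.mul_dvd_of_dvd_of_dvd (by norm_num) hd2 hd3
    have := Nat.le_of_dvd Nat.card_pos h
    omega
  exact JComp.mul_equiv_perm_three h6
    ⟨⟨a, haS⟩, ⟨d, hdS⟩, fun h => hnc (congrArg Subtype.val h)⟩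

end Cfsg.Agent.ThreeTransp.M22
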